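import Cfsg.Agent.Lib.Recognition.ThreeLocalS8.Perms
import Mathlib.GroupTheory.Sylow
import Mathlib.GroupTheory.QuotientGroup.Basic
import Mathlib.SetTheory.Cardinal.Finite

/-!
# The 3-local data of `S₈` and of `(A₅ × A₅).2²`: coordinates

`z = i₃ ρ`, `N(⟨z⟩) = i₃(S₃) × i₅(S₅)`, `D = ⟨z, c⟩` with `c = i₅ cyc`, and an involution `σ` of
`N(D)` exchanges `z` and `c`, fixes `s = i₅ (3 4)` and maps `i₃ (0 1)` to `i₅ (0 1)` or to
`i₅ (0 1)(3 4)`.
-/

set_option autoImplicit false
set_option linter.unusedSectionVars false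

namespace CfsgLib.ThreeLocalS8

open Equiv Subgroup

/-- Coordinates for the data. -/
structure Setup (G : Type*) [Group G] where
  /-- The small factor of `N(⟨z⟩)`. -/
  i3 : Perm (Fin 3) →* G
  /-- The large factor of `N(⟨z⟩)`. -/
  i5 : Perm (Fin 5) →* G
  /-- The involution exchanging the two lines. -/
  σ : G
  /-- The image of the inverting involution. -/
  b : Perm (Fin 5)
  comm : ∀ a q, Commute (i3 a) (i5 q)
  inj : ∀ a q, i3 a * i5 q = 1 → a = 1 ∧ q = 1
  norm : ∀ g, g ∈ normalizer (zpowers (i3 rho) : Set G) → ∃ a q, g = i3 a * i5 q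
  σ2 : σ * σ = 1
  σz : σ * i3 rho * σ = i5 cyc
  σs : σ * i5 t34 * σ = i5 t34
  σe : σ * i3 tau * σ = i5 b
  b_cases : b = t01 ∨ b = t01 * t34
  syl : ∃ P : Sylow 3 G, (P : Subgroup G) = (zpowers rho).map i3 ⊔ (zpowers cyc).map i5
  mixed : ∀ g, Commute g (i3 rho * i5 cyc) →
    g ∈ normalizer (((zpowers rho).map i3 ⊔ (zpowers cyc).map i5 : Subgroup G) : Set G)

section Product

variable {G : Type*} [Group G] {i3 : Perm (Fin 3) →* G} {i5 : Perm (Fin 5) →* G}
  (hcomm : ∀ a q, Commute (i3 a) (i5 q)) (hinj : ∀ a q, i3 a * i5 q = 1 → a = 1 ∧ q = 1)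
include hcomm hinj

theorem eq_iff {a a' : Perm (Fin 3)} {q q' : Perm (Fin 5)} :
    i3 a * i5 q = i3 a' * i5 q' ↔ a = a' ∧ q = q' := by
  refine ⟨fun h => ?_, by rintro ⟨rfl, rfl⟩; rfl⟩
  have h2 := hinj (a'⁻¹ * a) (q * q'⁻¹) (by
    rw [map_mul, map_mul, map_inv, map_inv]
    calc (i3 a')⁻¹ * i3 a * (i5 q * (i5 q')⁻¹) = (i3 a')⁻¹ * (i3 a * i5 q) * (i5 q')⁻¹ := by group
      _ = 1 := by rw [h]; group)
  exact ⟨(inv_mul_eq_one.1 h2.1).symm, mul_inv_eq_one.1 h2.2⟩

theorem mul_pair (a a' : Perm (Fin 3)) (q q' : Perm (Fin 5)) :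
    i3 a * i5 q * (i3 a' * i5 q') = i3 (a * a') * i5 (q * q') := by
  rw [map_mul, map_mul, (hcomm a' q).symm.mul_mul_mul_comm]

theorem commute_iff {a a' : Perm (Fin 3)} {q q' : Perm (Fin 5)} :
    Commute (i3 a * i5 q) (i3 a' * i5 q') ↔ a * a' = a' * a ∧ q * q' = q' * q := by
  rw [commute_iff_eq, mul_pair hcomm hinj, mul_pair hcomm hinj, eq_iff hcomm hinj]

end Product

theorem mem_zpowers_three {G : Type*} [Group G] {x w : G} (hx : x * x * x = 1) :
    w ∈ zpowers x ↔ w = 1 ∨ w = x ∨ w = x * x := by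
  refine ⟨fun h => ?_, ?_⟩
  · obtain ⟨n, rfl⟩ := mem_zpowers_iff.1 h
    have h3 : x ^ (3 : ℤ) = 1 := by
      rw [show (3 : ℤ) = ((3 : ℕ) : ℤ) from rfl, zpow_natCast, pow_three', hx]
    have e : x ^ n = x ^ (n % 3) := by
      conv_lhs => rw [← Int.mul_ediv_add_emod n 3, zpow_add, zpow_mul, h3, one_zpow, one_mul]
    rcases (show n % 3 = 0 ∨ n % 3 = 1 ∨ n % 3 = 2 by omega) with h' | h' | h' <;> rw [e, h']
    · exact Or.inl (zpow_zero x)
    · exact Or.inr (Or.inl (zpow_one x))
    · exact Or.inr (Or.inr (zpow_two x))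
  · intro h
    rcases h with h | h | h <;> rw [h]
    exacts [one_mem _, mem_zpowers x, mul_mem (mem_zpowers x) (mem_zpowers x)]

theorem card_centralizer_conj {G : Type*} [Group G] {x y g : G} (h : g * x * g⁻¹ = y) :
    Nat.card ↥(centralizer ({x} : Set G)) = Nat.card ↥(centralizer ({y} : Set G)) := by
  refine Nat.card_congr ((MulAut.conj g).toEquiv.subtypeEquiv fun u => ?_)
  rw [mem_centralizer_singleton_iff, mem_centralizer_singleton_iff, ← h]
  constructor
  · intro e
    show g * u * g⁻¹ * (g * x * g⁻¹) = g * x * g⁻¹ * (g * u * g⁻¹)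
    calc g * u * g⁻¹ * (g * x * g⁻¹) = g * (u * x) * g⁻¹ := by group
      _ = g * (x * u) * g⁻¹ := by rw [e]
      _ = _ := by group
  · intro e
    change g * u * g⁻¹ * (g * x * g⁻¹) = g * x * g⁻¹ * (g * u * g⁻¹) at e
    exact mul_left_cancel (a := g) (mul_right_cancel (b := g⁻¹) (by
      calc g * (u * x) * g⁻¹ = g * u * g⁻¹ * (g * x * g⁻¹) := by group
        _ = _ := e
        _ = g * (x * u) * g⁻¹ := by group))

section Extract

variable {G : Type*} [Group G] [Finite G]

/-- The coordinates exist. -/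
theorem exists_setup (P : Sylow 3 G) (D : Subgroup G) (hDP : D = P) (y z : G)
    (hgen : closure {y, z} = D) (hcomm : IsMulCommutative D) (hcard : Nat.card D = 9)
    (hexp : ∀ a ∈ D, a ^ 3 = 1)
    (eN : normalizer (D : Set G) ⧸ D.subgroupOf (normalizer (D : Set G)) ≃*
      DihedralGroup 4 × Multiplicative (ZMod 2))
    [((centralizer (D : Set G)).subgroupOf (normalizer (D : Set G))).Normal]
    (eNC : normalizer (D : Set G) ⧸ (centralizer (D : Set G)).subgroupOf (normalizer (D : Set G)) ≃*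
      DihedralGroup 4)
    (hyn : (D.subgroupOf (centralizer ({y} : Set G))).Normal)
    (hycard : Nat.card (centralizer ({y} : Set G)) = 36)
    (eC : centralizer ({z} : Set G) ≃* Multiplicative (ZMod 3) × Perm (Fin 5))
    (eL : normalizer (zpowers z : Set G) ≃* Perm (Fin 3) × Perm (Fin 5)) :
    ∃ S : Setup G, (zpowers rho).map S.i3 ⊔ (zpowers cyc).map S.i5 = D ∧ S.i3 rho = z := by
  classical
  have hy : y ∈ D := hgen ▸ subset_closure (Set.mem_insert y _)
  have hz : z ∈ D := hgen ▸ subset_closure (Set.mem_insert_of_mem y rfl)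
  have hDc : ∀ {u v : G}, u ∈ D → v ∈ D → Commute u v := fun {u v} hu hv =>
    congrArg Subtype.val (hcomm.is_comm.comm ⟨u, hu⟩ ⟨v, hv⟩)
  have hz3 : z * z * z = 1 := by rw [← pow_three', hexp z hz]
  have hz1 : z ≠ 1 := by
    intro e
    have hle : D ≤ zpowers y := by
      rw [← hgen, closure_le]
      rintro u (rfl | rfl)
      exacts [mem_zpowers u, e ▸ one_mem _]
    have h := card_le_of_le hle
    rw [hcard, Nat.card_zpowers] at h
    have := Nat.le_of_dvd (by norm_num) (orderOf_dvd_of_pow_eq_one (hexp y hy))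
    omega
  let ι : Perm (Fin 3) × Perm (Fin 5) →* G :=
    (normalizer (zpowers z : Set G)).subtype.comp eL.symm.toMonoidHom
  have ιinj : Function.Injective ι := Subtype.val_injective.comp eL.symm.injective
  have ιsurj : ∀ g ∈ normalizer (zpowers z : Set G), ∃ k, ι k = g := fun g hg =>
    ⟨eL ⟨g, hg⟩, congrArg Subtype.val (eL.symm_apply_apply ⟨g, hg⟩)⟩
  obtain ⟨⟨p, q⟩, hpq⟩ := ιsurj z (le_normalizer (mem_zpowers z))
  have hk : ∀ k, k * (p, q) * k⁻¹ = (p, q) ∨ k * (p, q) * k⁻¹ = (p, q) * (p, q) := by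
    intro k
    have hm : ι k * z * (ι k)⁻¹ ∈ zpowers z := (mem_normalizer_iff.1
      (show ι k ∈ normalizer (zpowers z : Set G) from (eL.symm k).2) z).1 (mem_zpowers z)
    rcases (mem_zpowers_three hz3).1 hm with e | e | e
    · exact absurd (conj_eq_one_iff.1 e) hz1
    · exact Or.inl (ιinj (by rw [map_mul, map_mul, map_inv, hpq, e]))
    · exact Or.inr (ιinj (by rw [map_mul, map_mul, map_mul, map_inv, hpq, e]))
  have hpq3 : (p, q) * (p, q) * (p, q) = 1 :=
    ιinj (by rw [map_mul, map_mul, hpq, hz3, map_one])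
  have hq : q = 1 := normal_three q (congrArg Prod.snd hpq3)
    (by simpa using (hk (1, swap 0 1)).imp (congrArg Prod.snd) (congrArg Prod.snd))
    (by simpa using (hk (1, finRotate 5)).imp (congrArg Prod.snd) (congrArg Prod.snd))
  obtain ⟨a0, ha0⟩ : ∃ a0 : Perm (Fin 3), a0 * rho * a0⁻¹ = p := by
    rcases three_perm3 p (congrArg Prod.fst hpq3) (fun e => hz1 (by
      rw [← hpq, e, hq]; exact map_one ι)) with e | e
    · exact ⟨1, by rw [e]; simp⟩
    · exact ⟨tau, e.symm⟩
  let j3 : Perm (Fin 3) →* G :=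
    (ι.comp (MonoidHom.inl _ _)).comp (MulAut.conj a0).toMonoidHom
  have hj3 : j3 rho = z := by
    show ι (a0 * rho * a0⁻¹, 1) = z
    rw [ha0, ← hpq, hq]
  have hnorm0 : ∀ g ∈ normalizer (zpowers z : Set G), ∃ a r, g = j3 a * ι (1, r) := fun g hg => by
    obtain ⟨⟨a, r⟩, rfl⟩ := ιsurj g hg
    refine ⟨a0⁻¹ * a * a0, r, ?_⟩
    show ι (a, r) = ι (a0 * (a0⁻¹ * a * a0) * a0⁻¹, 1) * ι (1, r)
    rw [← map_mul, show a0 * (a0⁻¹ * a * a0) * a0⁻¹ = a by group]
    simp
  have hcz : ∀ {g}, Commute g z → g ∈ normalizer (zpowers z : Set G) := fun {g} hg =>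
    Subgroup.centralizer_le_normalizer (zpowers z : Set G) (mem_centralizer_iff.2 fun u hu => by
      obtain ⟨n, rfl⟩ := mem_zpowers_iff.1 hu
      exact (hg.zpow_right n).symm.eq)
  have hj3c : ∀ a r, Commute (j3 a) (ι (1, r)) := fun a r => by
    show Commute (ι (a0 * a * a0⁻¹, 1)) (ι (1, r))
    exact (Prod.ext (by simp) (by simp) :
      ((a0 * a * a0⁻¹, 1) : Perm (Fin 3) × Perm (Fin 5)) * (1, r) =
        (1, r) * (a0 * a * a0⁻¹, 1)) |> fun e => (congrArg ι e |> fun e' => by
          rwa [map_mul, map_mul] at e')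
  have hj3i : ∀ a r, j3 a * ι (1, r) = 1 → a = 1 ∧ r = 1 := fun a r e => by
    change ι (a0 * a * a0⁻¹, 1) * ι (1, r) = 1 at e
    rw [← map_mul, ← map_one ι] at e
    have e' := ιinj e
    simp only [Prod.mk_mul_mk, mul_one, one_mul, Prod.mk_eq_one] at e'
    exact ⟨conj_eq_one_iff.1 e'.1, e'.2⟩
  -- an element of `D` outside `⟨z⟩` gives the three-cycle
  obtain ⟨g0, hg0⟩ : ∃ g0 : Perm (Fin 5), ι (1, g0 * cyc * g0⁻¹) ∈ D := by
    by_contra hno
    push Not at hno
    have hle : D ≤ zpowers z := fun d hd => by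
      obtain ⟨a, r, rfl⟩ := hnorm0 d (hcz (hDc hd hz))
      have hd3 : j3 a * ι (1, r) * (j3 a * ι (1, r)) * (j3 a * ι (1, r)) = 1 := by
        rw [← pow_three', hexp _ hd]
      have ha : a * rho = rho * a := by
        have h : Commute (j3 a * ι (1, r)) (j3 rho * ι (1, 1)) := by
          rw [hj3, show ι ((1 : Perm (Fin 3)), (1 : Perm (Fin 5))) = 1 from map_one ι, mul_one]
          exact hDc hd hz
        let i5 : Perm (Fin 5) →* G := ι.comp (MonoidHom.inr _ _)
        exact ((commute_iff (i3 := j3) (i5 := i5) hj3c hj3i).1 h).1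
      have hj : j3 a ∈ D := by
        rcases cent_rho a ha with rfl | rfl | rfl
        · rw [map_one]; exact one_mem _
        · rw [hj3]; exact hz
        · rw [map_mul, hj3]; exact mul_mem hz hz
      have hr : ι (1, r) ∈ D := by simpa using mul_mem (inv_mem hj) hd
      by_cases hr1 : r = 1
      · rw [hr1, show ι ((1 : Perm (Fin 3)), (1 : Perm (Fin 5))) = 1 from map_one ι, mul_one]
        rcases cent_rho a ha with rfl | rfl | rfl
        · rw [map_one]; exact one_mem _
        · rw [hj3]; exact mem_zpowers z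
        · rw [map_mul, hj3]; exact mul_mem (mem_zpowers z) (mem_zpowers z)
      · exfalso
        have hr3 : r * r * r = 1 := by
          have h' : ((1 : Perm (Fin 3)), r) * (1, r) * (1, r) = 1 :=
            ιinj (by rw [map_mul, map_mul, ← pow_three', hexp _ hr, map_one])
          exact congrArg Prod.snd h'
        obtain ⟨g, hg⟩ := conj_cyc r hr3 hr1
        exact hno g⁻¹ (by rwa [show g⁻¹ * cyc * g⁻¹⁻¹ = r by rw [← hg]; group])
    have := card_le_of_le hle
    rw [hcard, Nat.card_zpowers] at this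
    have := Nat.le_of_dvd (by norm_num) (orderOf_dvd_of_pow_eq_one (hexp z hz))
    omega
  let i5 : Perm (Fin 5) →* G :=
    (ι.comp (MonoidHom.inr _ _)).comp (MulAut.conj g0).toMonoidHom
  have hc : i5 cyc ∈ D := hg0
  have h35 : ∀ a r, Commute (j3 a) (i5 r) := fun a r => hj3c a _
  have hinj : ∀ a r, j3 a * i5 r = 1 → a = 1 ∧ r = 1 := fun a r e =>
    ⟨(hj3i a _ e).1, conj_eq_one_iff.1 (hj3i a _ e).2⟩
  have hnorm : ∀ g ∈ normalizer (zpowers z : Set G), ∃ a r, g = j3 a * i5 r := fun g hg => by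
    obtain ⟨a, r, rfl⟩ := hnorm0 g hg
    refine ⟨a, g0⁻¹ * r * g0, ?_⟩
    show j3 a * ι (1, r) = j3 a * ι (1, g0 * (g0⁻¹ * r * g0) * g0⁻¹)
    rw [show g0 * (g0⁻¹ * r * g0) * g0⁻¹ = r by group]
  have he := @eq_iff G _ j3 i5 h35 hinj
  have hi5 : ∀ {q q'}, i5 q = i5 q' → q = q' := fun h =>
    ((he (a := 1) (a' := 1)).1 (by rw [h])).2
  have hi51 : ∀ {q}, i5 q = 1 → q = 1 := fun h => hi5 (h.trans (map_one i5).symm)
  have hmp := mul_pair h35 hinj
  have hci := @commute_iff G _ j3 i5 h35 hinj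
  have hzp : z = j3 rho * i5 1 := by rw [map_one, mul_one, hj3]
  have hcp : i5 cyc = j3 1 * i5 cyc := by rw [map_one, one_mul]
  -- the centralizer of `D`
  have hcent : ∀ g, Commute g z → Commute g (i5 cyc) → ∃ a r, g = j3 a * i5 r ∧
      (a = 1 ∨ a = rho ∨ a = rho * rho) ∧
      (r = 1 ∨ r = cyc ∨ r = cyc * cyc ∨ r = t34 ∨ r = cyc * t34 ∨ r = cyc * cyc * t34) := by
    intro g hgz hgc
    obtain ⟨a, r, rfl⟩ := hnorm g (hcz hgz)
    rw [hzp] at hgz
    rw [hcp] at hgc
    exact ⟨a, r, rfl, cent_rho a (hci.1 hgz).1, cent_cyc r (hci.1 hgc).2⟩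
  have hDz : ∀ {a}, a = 1 ∨ a = rho ∨ a = rho * rho → j3 a ∈ D := by
    rintro a (rfl | rfl | rfl)
    exacts [by rw [map_one]; exact one_mem _, hj3.symm ▸ hz,
      by rw [map_mul, hj3]; exact mul_mem hz hz]
  have hDc' : ∀ {r}, r = 1 ∨ r = cyc ∨ r = cyc * cyc → i5 r ∈ D := by
    rintro r (rfl | rfl | rfl)
    exacts [by rw [map_one]; exact one_mem _, hc, by rw [map_mul]; exact mul_mem hc hc]
  have hDelem : ∀ {d}, d ∈ D → ∃ a r, d = j3 a * i5 r ∧ (a = 1 ∨ a = rho ∨ a = rho * rho) ∧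
      (r = 1 ∨ r = cyc ∨ r = cyc * cyc) := by
    intro d hd
    obtain ⟨a, r, rfl, ha, hr⟩ := hcent d (hDc hd hz) (hDc hd hc)
    refine ⟨a, r, rfl, ha, ?_⟩
    have h3 := hexp _ hd
    rw [pow_three', hmp, hmp, ← map_one j3, ← mul_one (j3 1), ← map_one i5, he] at h3
    have h3' := h3.2
    rcases hr with rfl | rfl | rfl | rfl | rfl | rfl
    exacts [Or.inl rfl, Or.inr (Or.inl rfl), Or.inr (Or.inr rfl), absurd h3' (by decide),
      absurd h3' (by decide), absurd h3' (by decide)]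
  have hDeq : (zpowers rho).map j3 ⊔ (zpowers cyc).map i5 = D := by
    refine le_antisymm (sup_le ?_ ?_) fun d hd => ?_
    · rw [MonoidHom.map_zpowers, zpowers_le, hj3]; exact hz
    · rw [MonoidHom.map_zpowers, zpowers_le]; exact hc
    · obtain ⟨a, r, rfl, ha, hr⟩ := hDelem hd
      refine mul_mem (mem_sup_left (mem_map_of_mem _ ((mem_zpowers_three rho_three).2 ha)))
        (mem_sup_right (mem_map_of_mem _ ((mem_zpowers_three cyc_three).2 hr)))
  set N := normalizer (D : Set G) with hN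
  have hND : ∀ {g}, g ∈ N → ∀ {d}, d ∈ D → g * d * g⁻¹ ∈ D := fun {g} hg {d} hd =>
    (mem_normalizer_iff.1 hg d).1 hd
  have hgood : ∀ {a r}, (r * cyc * r⁻¹ = cyc ∨ r * cyc * r⁻¹ = cyc * cyc) → j3 a * i5 r ∈ N := by
    intro a r hr
    refine mem_normalizer_iff_map_conj_eq.2 (eq_of_le_of_card_ge ?_
      (card_map_of_injective (MulAut.conj _).injective).ge)
    rintro _ ⟨d, hd, rfl⟩
    obtain ⟨a', r', rfl, ha', hr'⟩ := hDelem hd
    show j3 a * i5 r * (j3 a' * i5 r') * (j3 a * i5 r)⁻¹ ∈ D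
    have e : j3 a * i5 r * (j3 a' * i5 r') * (j3 a * i5 r)⁻¹ =
        j3 (a * a' * a⁻¹) * i5 (r * r' * r⁻¹) := by
      rw [mul_inv_eq_iff_eq_mul, hmp, hmp]
      simp [mul_assoc]
    rw [e]
    refine mul_mem (hDz ?_) (hDc' ?_)
    · rcases ha' with rfl | rfl | rfl
      · exact Or.inl (by group)
      · exact Or.inr (perm3_inv a)
      · rw [show a * (rho * rho) * a⁻¹ = a * rho * a⁻¹ * (a * rho * a⁻¹) by group]
        rcases perm3_inv a with e' | e' <;> rw [e']
        exacts [Or.inr (Or.inr rfl), Or.inr (Or.inl (by decide))]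
    · rcases hr' with rfl | rfl | rfl
      · exact Or.inl (by group)
      · exact Or.inr hr
      · rw [show r * (cyc * cyc) * r⁻¹ = r * cyc * r⁻¹ * (r * cyc * r⁻¹) by group]
        rcases hr with e' | e' <;> rw [e']
        exacts [Or.inr (Or.inr rfl), Or.inr (Or.inl (by decide))]
  have he3 : j3 tau ∈ N := by simpa using hgood (a := tau) (r := 1) (Or.inl (by group))
  have ht5 : i5 t01 ∈ N := by simpa using hgood (a := 1) (r := t01) (Or.inr (by decide))
  -- the four mixed elements are conjugate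
  have hmix : ∀ {a r}, (a = rho ∨ a = rho * rho) → (r = cyc ∨ r = cyc * cyc) →
      ∃ g ∈ N, g * (j3 rho * i5 cyc) * g⁻¹ = j3 a * i5 r := by
    intro a r ha hr
    obtain ⟨a1, ha1⟩ : ∃ a1 : Perm (Fin 3), a1 * rho * a1⁻¹ = a := by
      rcases ha with rfl | rfl
      exacts [⟨1, by group⟩, ⟨tau, by decide⟩]
    obtain ⟨r1, hr1, hr1'⟩ : ∃ r1 : Perm (Fin 5), r1 * cyc * r1⁻¹ = r ∧
        (r1 * cyc * r1⁻¹ = cyc ∨ r1 * cyc * r1⁻¹ = cyc * cyc) := by
      rcases hr with rfl | rfl
      exacts [⟨1, by group, Or.inl (by group)⟩, ⟨t01, by decide, Or.inr (by decide)⟩]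
    refine ⟨j3 a1 * i5 r1, hgood hr1', ?_⟩
    rw [mul_inv_eq_iff_eq_mul, hmp, hmp, he, ← ha1, ← hr1]
    exact ⟨by group, by group⟩
  have hz360 : Nat.card (centralizer ({z} : Set G)) = 360 := by
    rw [Nat.card_congr eC.toEquiv, Nat.card_prod, Nat.card_eq_fintype_card,
      Nat.card_eq_fintype_card, Fintype.card_perm, Fintype.card_fin]
    rfl
  -- some element of `N` has square outside the centralizer of `D`
  obtain ⟨h4, hh4, hh4'⟩ : ∃ g ∈ N, ¬ (Commute (g * g) z ∧ Commute (g * g) (i5 cyc)) := by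
    obtain ⟨x, hx⟩ := dihedral_square
    obtain ⟨⟨g, hg⟩, hgx⟩ := QuotientGroup.mk_surjective (eNC.symm x)
    refine ⟨g, hg, fun h => hx (eNC.symm.injective ?_)⟩
    rw [map_mul, map_one, ← hgx, ← QuotientGroup.mk_mul, QuotientGroup.eq_one_iff]
    refine mem_centralizer_iff.2 fun d hd => ?_
    obtain ⟨a, r, rfl, ha, hr⟩ := hDelem hd
    have hza : Commute (g * g) (j3 a) := by
      rcases ha with rfl | rfl | rfl
      exacts [by rw [map_one]; exact Commute.one_right _, hj3.symm ▸ h.1,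
        by rw [map_mul, hj3]; exact h.1.mul_right h.1]
    have hcr : Commute (g * g) (i5 r) := by
      rcases hr with rfl | rfl | rfl
      exacts [by rw [map_one]; exact Commute.one_right _, h.2,
        by rw [map_mul]; exact h.2.mul_right h.2]
    exact (hza.mul_right hcr).symm.eq
  -- a line fixed by all of `N` is impossible
  have hnoc : ¬ ∀ g ∈ N, g * i5 cyc * g⁻¹ = i5 cyc ∨ g * i5 cyc * g⁻¹ = i5 (cyc * cyc) := by
    intro hall
    have hc2 : ∀ g ∈ N, g * g * i5 cyc * (g * g)⁻¹ = i5 cyc := fun g hg => by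
      rcases hall g hg with e | e
      · calc g * g * i5 cyc * (g * g)⁻¹ = g * (g * i5 cyc * g⁻¹) * g⁻¹ := by group
          _ = i5 cyc := by rw [e, e]
      · calc g * g * i5 cyc * (g * g)⁻¹ = g * (g * i5 cyc * g⁻¹) * g⁻¹ := by group
          _ = g * i5 (cyc * cyc) * g⁻¹ := by rw [e]
          _ = g * i5 cyc * g⁻¹ * (g * i5 cyc * g⁻¹) := by rw [map_mul]; group
          _ = i5 cyc := by rw [e, ← map_mul]; exact congrArg i5 (by decide)
    apply hh4'
    set u := h4 * h4 with hu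
    have huN : u ∈ N := mul_mem hh4 hh4
    have huc : Commute u (i5 cyc) := mul_inv_eq_iff_eq_mul.1 (hc2 h4 hh4)
    refine ⟨?_, huc⟩
    -- `u` moves `z` at most by a transvection, and `u⁴ = 1` modulo the centralizer
    obtain ⟨a, r, hur, ha, hr⟩ := hDelem (hND huN hz)
    have h44 : u * u * z * (u * u)⁻¹ = z := by
      have hm : (⟨h4, hh4⟩ : N) * ⟨h4, hh4⟩ * (⟨h4, hh4⟩ * ⟨h4, hh4⟩) ∈
          (centralizer (D : Set G)).subgroupOf (normalizer (D : Set G)) := by
        rw [← QuotientGroup.eq_one_iff, QuotientGroup.mk_mul, QuotientGroup.mk_mul]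
        exact eNC.injective (by simpa using dihedral_fourth (eNC ↑(⟨h4, hh4⟩ : N)))
      rw [mul_inv_eq_iff_eq_mul]
      exact (mem_centralizer_iff.1 hm z hz).symm
    have hcu : u * i5 r * u⁻¹ = i5 r := by
      rcases hr with rfl | rfl | rfl
      · simp
      · rw [huc.eq, mul_inv_cancel_right]
      · rw [map_mul, ((huc.mul_right huc)).eq, mul_inv_cancel_right]
    have hsq : u * u * z * (u * u)⁻¹ = u * j3 a * u⁻¹ * i5 r := by
      calc u * u * z * (u * u)⁻¹ = u * (u * z * u⁻¹) * u⁻¹ := by group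
        _ = u * j3 a * u⁻¹ * (u * i5 r * u⁻¹) := by rw [hur]; group
        _ = _ := by rw [hcu]
    rw [h44] at hsq
    have harho : a = rho := by
      obtain ⟨a4, r4, h4z, ha4, hr4⟩ := hDelem (hND hh4 hz)
      obtain ⟨r4', hr4'⟩ : ∃ r4', h4 * i5 r4 * h4⁻¹ = i5 r4' := by
        rcases hr4 with rfl | rfl | rfl
        · exact ⟨1, by simp⟩
        · rcases hall h4 hh4 with e | e
          exacts [⟨_, e⟩, ⟨_, e⟩]
        · rw [map_mul, show h4 * (i5 cyc * i5 cyc) * h4⁻¹ =
            h4 * i5 cyc * h4⁻¹ * (h4 * i5 cyc * h4⁻¹) by group]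
          rcases hall h4 hh4 with e | e <;> rw [e, ← map_mul]
          exacts [⟨_, rfl⟩, ⟨_, rfl⟩]
      have huz : u * z * u⁻¹ = h4 * j3 a4 * h4⁻¹ * i5 r4' := by
        rw [← hr4', hu]
        calc h4 * h4 * z * (h4 * h4)⁻¹ = h4 * (h4 * z * h4⁻¹) * h4⁻¹ := by group
          _ = _ := by rw [h4z]; group
      rcases ha4 with rfl | rfl | rfl
      · exfalso
        rw [map_one, one_mul] at h4z
        rw [map_one, mul_one, mul_inv_cancel, one_mul, hur, ← one_mul (i5 r4'), ← map_one j3,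
          he] at huz
        rw [huz.1, map_one, one_mul] at hur
        have h' : z = i5 r := by
          calc z = u⁻¹ * (u * z * u⁻¹) * u := by group
            _ = u⁻¹ * (u * i5 r * u⁻¹) * u := by rw [hur, hcu]
            _ = i5 r := by group
        rw [hzp, ← one_mul (i5 r), ← map_one j3, he] at h'
        exact absurd h'.1 (by decide)
      · rw [hj3, h4z, hur, mul_assoc, ← map_mul, he] at huz
        exact huz.1
      · rw [map_mul, hj3, show h4 * (z * z) * h4⁻¹ = h4 * z * h4⁻¹ * (h4 * z * h4⁻¹) by group,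
          h4z, hmp, hur, mul_assoc, ← map_mul, he] at huz
        exact huz.1.trans (by decide)
    subst harho
    rw [hj3, hur, hj3, mul_assoc, ← map_mul] at hsq
    have hr2 : r = 1 := by
      have e' : r * r = 1 := by
        have : i5 (r * r) = 1 := by
          have h' := congrArg (z⁻¹ * ·) hsq
          simpa using h'.symm
        exact hi51 this
      rcases hr with rfl | rfl | rfl
      exacts [rfl, absurd e' (by decide), absurd e' (by decide)]
    rw [hr2, map_one, mul_one, hj3] at hur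
    exact mul_inv_eq_iff_eq_mul.1 hur
  -- `y` is mixed
  obtain ⟨ya, yr, hyd, hya, hyr⟩ := hDelem hy
  have hyr1 : yr = cyc ∨ yr = cyc * cyc := by
    refine hyr.resolve_left fun e => ?_
    subst e
    have hle : D ≤ zpowers z := by
      rw [← hgen, closure_le]
      rintro u (rfl | rfl)
      · rw [hyd, map_one, mul_one]
        rcases hya with rfl | rfl | rfl
        exacts [by rw [map_one]; exact one_mem _, by rw [hj3]; exact mem_zpowers z,
          by rw [map_mul, hj3]; exact mul_mem (mem_zpowers z) (mem_zpowers z)]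
      · exact mem_zpowers u
    have := card_le_of_le hle
    rw [hcard, Nat.card_zpowers] at this
    have := Nat.le_of_dvd (by norm_num) (orderOf_dvd_of_pow_eq_one (hexp z hz))
    omega
  have hzline : ∀ {a}, (a = rho ∨ a = rho * rho) →
      Nat.card (centralizer ({j3 a * i5 1} : Set G)) = 360 := by
    rintro a (rfl | rfl)
    · rw [← hzp]; exact hz360
    · rw [← hz360]
      refine (card_centralizer_conj (g := j3 tau) ?_).symm
      rw [map_one, mul_one, ← hj3, ← map_inv, ← map_mul, ← map_mul]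
      exact congrArg j3 (by decide)
  have hya1 : ya = rho ∨ ya = rho * rho := by
    refine hya.resolve_left fun e => ?_
    subst e
    rw [map_one, one_mul] at hyd
    have hc36 : Nat.card (centralizer ({i5 cyc} : Set G)) = 36 := by
      rcases hyr1 with rfl | rfl
      · rw [← hyd]; exact hycard
      · rw [← hycard, hyd]
        refine card_centralizer_conj (g := i5 t01) ?_
        rw [← map_inv, ← map_mul, ← map_mul]
        exact congrArg i5 (by decide)
    by_cases hm : Nat.card (centralizer ({j3 rho * i5 cyc} : Set G)) = 36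
    · -- everything fixes the line of `z`
      apply hh4'
      obtain ⟨a, r, hd, ha, hr⟩ := hDelem (hND hh4 hz)
      have hr1 : r = 1 := by
        by_contra hr1
        have h36 : Nat.card (centralizer ({j3 a * i5 r} : Set G)) = 36 := by
          rcases ha with rfl | ha
          · rw [map_one, one_mul, ← hc36]
            rcases hr.resolve_left hr1 with rfl | rfl
            · rfl
            · refine (card_centralizer_conj (g := i5 t01) ?_).symm
              rw [← map_inv, ← map_mul, ← map_mul]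
              exact congrArg i5 (by decide)
          · obtain ⟨g, -, hg⟩ := hmix ha (hr.resolve_left hr1)
            rw [← card_centralizer_conj hg]; exact hm
        have := card_centralizer_conj (g := h4) hd
        rw [hz360, h36] at this
        omega
      subst hr1
      have hn4 : h4 ∈ normalizer (zpowers z : Set G) := by
        refine mem_normalizer_iff_map_conj_eq.2 (eq_of_le_of_card_ge ?_
          (card_map_of_injective (MulAut.conj _).injective).ge)
        rw [MonoidHom.map_zpowers, zpowers_le]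
        show h4 * z * h4⁻¹ ∈ zpowers z
        rw [hd, map_one, mul_one]
        rcases ha with rfl | rfl | rfl
        exacts [by rw [map_one]; exact one_mem _, by rw [hj3]; exact mem_zpowers z,
          by rw [map_mul, hj3]; exact mul_mem (mem_zpowers z) (mem_zpowers z)]
      obtain ⟨a4, r4, e4⟩ := hnorm h4 hn4
      obtain ⟨a', r', hd', -, hr'⟩ := hDelem (hND hh4 hc)
      rw [e4, hcp, mul_inv_eq_iff_eq_mul, hmp, hmp, he] at hd'
      have hr4 : r4 * cyc * r4⁻¹ = r' := by rw [hd'.2, mul_inv_cancel_right]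
      have hrr : r4 * r4 * cyc = cyc * (r4 * r4) := by
        rcases hr' with rfl | rfl | rfl
        · exact absurd (conj_eq_one_iff.1 hr4) (by decide)
        · rw [mul_inv_eq_iff_eq_mul] at hr4
          rw [mul_assoc, hr4, ← mul_assoc, hr4, mul_assoc]
        · rw [← mul_inv_eq_iff_eq_mul]
          calc r4 * r4 * cyc * (r4 * r4)⁻¹ = r4 * (r4 * cyc * r4⁻¹) * r4⁻¹ := by group
            _ = r4 * (cyc * cyc) * r4⁻¹ := by rw [hr4]
            _ = r4 * cyc * r4⁻¹ * (r4 * cyc * r4⁻¹) := by group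
            _ = cyc := by rw [hr4]; decide
      rw [e4, hmp, hzp, hcp]
      refine ⟨hci.2 ⟨?_, by simp⟩, hci.2 ⟨by simp, hrr⟩⟩
      exact (by decide : ∀ x : Perm (Fin 3), x * x * rho = rho * (x * x)) a4
    · -- everything fixes the line of `c`
      refine absurd (fun g hg => ?_) hnoc
      obtain ⟨a, r, hd, ha, hr⟩ := hDelem (hND hg hc)
      have hcc := card_centralizer_conj (g := g) hd
      rw [hc36] at hcc
      have ha1 : a = 1 := by
        by_contra ha1
        by_cases hr1 : r = 1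
        · subst hr1
          rw [hzline (ha.resolve_left ha1)] at hcc
          omega
        · obtain ⟨g', -, hg'⟩ := hmix (ha.resolve_left ha1) (hr.resolve_left hr1)
          exact hm (by rw [card_centralizer_conj hg', ← hcc])
      rw [ha1, map_one, one_mul] at hd
      rcases hr with rfl | rfl | rfl
      · exfalso
        rw [map_one, conj_eq_one_iff] at hd
        exact absurd (hi51 hd) (by decide : cyc ≠ 1)
      · exact Or.inl hd
      · exact Or.inr hd
  have hm36 : ∀ {a r}, (a = rho ∨ a = rho * rho) → (r = cyc ∨ r = cyc * cyc) →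
      Nat.card (centralizer ({j3 a * i5 r} : Set G)) = 36 := by
    intro a r ha hr
    obtain ⟨g1, -, hg1⟩ := hmix ha hr
    obtain ⟨g2, -, hg2⟩ := hmix hya1 hyr1
    rw [← card_centralizer_conj hg1, card_centralizer_conj hg2, ← hyd, hycard]
  have hmixed : ∀ g, Commute g (j3 rho * i5 cyc) → g ∈ N := by
    intro g hg
    obtain ⟨g2, hg2N, hg2⟩ := hmix hya1 hyr1
    have hy' : Commute (g2 * g * g2⁻¹) y := by
      rw [hyd, ← hg2]; exact hg.map (MulAut.conj g2).toMonoidHom
    have hle : D ≤ centralizer ({y} : Set G) := fun d hd =>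
      mem_centralizer_singleton_iff.2 (hDc hd hy).eq
    have hm := (normal_subgroupOf_iff_le_normalizer hle).1 hyn
      (mem_centralizer_singleton_iff.2 hy'.eq)
    have := mul_mem (mul_mem (inv_mem hg2N) hm) hg2N
    rwa [show g2⁻¹ * (g2 * g * g2⁻¹) * g2 = g by group] at this
  -- an element exchanging the two lines
  obtain ⟨g1, hg1N, hg1⟩ : ∃ g ∈ N, g * z * g⁻¹ = i5 cyc := by
    by_contra hno
    push Not at hno
    refine hnoc fun g hg => ?_
    obtain ⟨a, r, hd, ha, hr⟩ := hDelem (hND hg hz)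
    have hcc := card_centralizer_conj (g := g) hd
    rw [hz360] at hcc
    have hzfix : r = 1 := by
      by_contra hr1
      rcases ha with rfl | ha
      · rw [map_one, one_mul] at hd
        rcases hr.resolve_left hr1 with rfl | rfl
        · exact hno g hg hd
        · refine hno (i5 t01 * g) (mul_mem ht5 hg) ?_
          calc i5 t01 * g * z * (i5 t01 * g)⁻¹ = i5 t01 * (g * z * g⁻¹) * (i5 t01)⁻¹ := by group
            _ = i5 cyc := by
              rw [hd, ← map_inv, ← map_mul, ← map_mul]; exact congrArg i5 (by decide)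
      · rw [hm36 ha (hr.resolve_left hr1)] at hcc
        omega
    subst hzfix
    have hn4 : g ∈ normalizer (zpowers z : Set G) := by
      refine mem_normalizer_iff_map_conj_eq.2 (eq_of_le_of_card_ge ?_
        (card_map_of_injective (MulAut.conj _).injective).ge)
      rw [MonoidHom.map_zpowers, zpowers_le]
      show g * z * g⁻¹ ∈ zpowers z
      rw [hd, map_one, mul_one]
      rcases ha with rfl | rfl | rfl
      exacts [by rw [map_one]; exact one_mem _, by rw [hj3]; exact mem_zpowers z,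
        by rw [map_mul, hj3]; exact mul_mem (mem_zpowers z) (mem_zpowers z)]
    obtain ⟨a4, r4, e4⟩ := hnorm g hn4
    obtain ⟨a', r', hd', -, hr'⟩ := hDelem (hND hg hc)
    rw [e4, hcp, mul_inv_eq_iff_eq_mul, hmp, hmp, he] at hd'
    have ha' : a' = 1 := mul_right_cancel (b := a4) (by rw [← hd'.1, mul_one, one_mul])
    have hr4 : r4 * cyc * r4⁻¹ = r' := by rw [hd'.2, mul_inv_cancel_right]
    rw [e4, hcp, mul_inv_eq_iff_eq_mul, mul_inv_eq_iff_eq_mul, hmp]
    rcases hr' with rfl | rfl | rfl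
    · exact absurd (conj_eq_one_iff.1 hr4) (by decide)
    · left
      rw [hmp, he]; exact ⟨by group, by rw [← hd'.2]⟩
    · right
      rw [← one_mul (i5 (cyc * cyc)), ← map_one j3, hmp, he]
      exact ⟨by group, by rw [← hd'.2]⟩
  obtain ⟨σ1, hσ1N, hσ1z, hσ1c⟩ : ∃ g ∈ N, g * z * g⁻¹ = i5 cyc ∧ g * i5 cyc * g⁻¹ = z := by
    obtain ⟨a, r, hd, ha, hr⟩ := hDelem (hND hg1N hc)
    have hcc := card_centralizer_conj (g := g1) hd
    rw [← card_centralizer_conj (g := g1) hg1, hz360] at hcc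
    have hr1 : r = 1 := by
      by_contra hr1
      rcases ha with rfl | ha
      · rw [map_one, one_mul] at hd
        rcases hr.resolve_left hr1 with rfl | rfl
        · have := hd.trans hg1.symm
          rw [mul_left_inj, mul_right_inj, ← one_mul (i5 cyc), ← map_one j3, hzp, he] at this
          exact absurd this.1 (by decide)
        · have h2 : g1 * (z * z) * g1⁻¹ = i5 (cyc * cyc) := by
            rw [show g1 * (z * z) * g1⁻¹ = g1 * z * g1⁻¹ * (g1 * z * g1⁻¹) by group, hg1, map_mul]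
          have := hd.trans h2.symm
          rw [mul_left_inj, mul_right_inj, ← one_mul (i5 cyc), ← map_one j3, hzp, hmp, he] at this
          exact absurd this.1 (by decide)
      · rw [hm36 ha (hr.resolve_left hr1)] at hcc
        omega
    subst hr1
    rcases ha with rfl | rfl | rfl
    · exfalso
      rw [map_one, map_one, one_mul, conj_eq_one_iff] at hd
      exact absurd (hi51 hd) (by decide : cyc ≠ 1)
    · exact ⟨g1, hg1N, hg1, by rw [hd, ← hzp]⟩
    · refine ⟨j3 tau * g1, mul_mem he3 hg1N, ?_, ?_⟩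
      · calc j3 tau * g1 * z * (j3 tau * g1)⁻¹ = j3 tau * (g1 * z * g1⁻¹) * (j3 tau)⁻¹ := by group
          _ = i5 cyc := by rw [hg1, (h35 tau cyc).eq, mul_inv_cancel_right]
      · calc j3 tau * g1 * i5 cyc * (j3 tau * g1)⁻¹
            = j3 tau * (g1 * i5 cyc * g1⁻¹) * (j3 tau)⁻¹ := by group
          _ = z := by
            rw [hd, map_one, mul_one, ← map_inv, ← map_mul, ← map_mul, ← hj3]
            exact congrArg j3 (by decide)
  have h2 : σ1 * σ1 ∈ D := by
    have hz2 : Commute (σ1 * σ1) z := mul_inv_eq_iff_eq_mul.1 (by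
      rw [show σ1 * σ1 * z * (σ1 * σ1)⁻¹ = σ1 * (σ1 * z * σ1⁻¹) * σ1⁻¹ by group, hσ1z, hσ1c])
    have hc2 : Commute (σ1 * σ1) (i5 cyc) := mul_inv_eq_iff_eq_mul.1 (by
      rw [show σ1 * σ1 * i5 cyc * (σ1 * σ1)⁻¹ = σ1 * (σ1 * i5 cyc * σ1⁻¹) * σ1⁻¹ by group, hσ1c,
        hσ1z])
    by_contra hnot
    apply hh4'
    obtain ⟨a, r, hsq, ha, hr⟩ := hcent _ hz2 hc2
    let π : N →* DihedralGroup 4 × Multiplicative (ZMod 2) :=
      eN.toMonoidHom.comp (QuotientGroup.mk' _)
    have hπ : ∀ x : N, π x = 1 → (x : G) ∈ D := fun x hx =>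
      (QuotientGroup.eq_one_iff x).1 ((map_eq_one_iff _ eN.injective).1 hx)
    rcases square_cases (π ⟨h4, hh4⟩) (π ⟨σ1, hσ1N⟩) with e | e | e
    · rw [← map_mul] at e
      have hm := hπ _ e
      exact ⟨hDc hm hz, hDc hm hc⟩
    · rw [← map_mul] at e
      exact absurd (hπ _ e) hnot
    · rw [← map_mul, ← map_mul] at e
      have hm : (σ1 * σ1)⁻¹ * (h4 * h4) ∈ D :=
        hπ ((⟨σ1, hσ1N⟩ * ⟨σ1, hσ1N⟩)⁻¹ * (⟨h4, hh4⟩ * ⟨h4, hh4⟩)) (by
          rw [map_mul π _ (_ * _), map_inv, e, inv_mul_cancel])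
      have e' : h4 * h4 = σ1 * σ1 * ((σ1 * σ1)⁻¹ * (h4 * h4)) := by group
      rw [e']
      exact ⟨hz2.mul_left (hDc hm hz), hc2.mul_left (hDc hm hc)⟩
  set σ := σ1 * σ1 * σ1 with hσdef
  have hσσ : σ * σ = 1 := by
    have h3 : σ1 * σ1 * (σ1 * σ1) * (σ1 * σ1) = 1 := by rw [← pow_three', hexp _ h2]
    rw [← h3, hσdef]; group
  have hσi : σ⁻¹ = σ := inv_eq_of_mul_eq_one_right hσσ
  have hσz : σ * z * σ = i5 cyc := by
    conv_lhs => arg 2; rw [← hσi]
    calc σ * z * σ⁻¹ = σ1 * σ1 * (σ1 * z * σ1⁻¹) * (σ1 * σ1)⁻¹ := by rw [hσdef]; group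
      _ = i5 cyc := by rw [hσ1z, (hDc h2 hc).eq, mul_inv_cancel_right]
  have hσc : σ * i5 cyc * σ = z := by
    rw [← hσz]
    calc σ * (σ * z * σ) * σ = σ * σ * z * (σ * σ) := by group
      _ = z := by rw [hσσ, one_mul, mul_one]
  have hconjσ : ∀ u v : G, Commute u v → Commute (σ * u * σ) (σ * v * σ) := fun u v huv => by
    show σ * u * σ * (σ * v * σ) = σ * v * σ * (σ * u * σ)
    calc σ * u * σ * (σ * v * σ) = σ * u * (σ * σ) * v * σ := by group
      _ = σ * (u * v) * σ := by rw [hσσ]; group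
      _ = σ * (v * u) * σ := by rw [huv.eq]
      _ = σ * v * (σ * σ) * u * σ := by rw [hσσ]; group
      _ = _ := by group
  have hσs : σ * i5 t34 * σ = i5 t34 := by
    obtain ⟨a, r, hd, ha, hr⟩ := hcent (σ * i5 t34 * σ)
      (hσc ▸ hconjσ _ _ (by
        rw [commute_iff_eq, ← map_mul, ← map_mul]; exact congrArg i5 (by decide)))
      (hσz ▸ hconjσ _ _ ((hj3 ▸ h35 rho t34).symm))
    have hsq : j3 a * i5 r * (j3 a * i5 r) = j3 1 * i5 1 := by
      rw [← hd, map_one, map_one, one_mul]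
      calc σ * i5 t34 * σ * (σ * i5 t34 * σ) = σ * i5 t34 * (σ * σ) * i5 t34 * σ := by group
        _ = σ * i5 (t34 * t34) * σ := by rw [hσσ, map_mul]; group
        _ = 1 := by rw [show t34 * t34 = 1 by decide, map_one, mul_one, hσσ]
    rw [hmp, he] at hsq
    have ha1 : a = 1 := by
      rcases ha with rfl | rfl | rfl
      exacts [rfl, absurd hsq.1 (by decide), absurd hsq.1 (by decide)]
    subst ha1
    rw [hd, map_one, one_mul]
    rcases hr with rfl | rfl | rfl | rfl | rfl | rfl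
    · exfalso
      rw [map_one, map_one, one_mul] at hd
      have h1 : i5 t34 = 1 := by
        calc i5 t34 = σ * σ * i5 t34 * (σ * σ) := by rw [hσσ]; simp
          _ = σ * (σ * i5 t34 * σ) * σ := by group
          _ = 1 := by rw [hd, mul_one, hσσ]
      exact absurd (hi51 h1) (by decide : t34 ≠ 1)
    all_goals first | rfl | exact absurd hsq.2 (by decide)
  -- the image of the inverting involution
  obtain ⟨a, r, hf⟩ := hnorm (σ * j3 tau * σ) (hcz (hσc ▸ hconjσ _ _ (h35 tau cyc)))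
  have hfz : a * rho = rho * a := by
    have h := hσc ▸ hconjσ _ _ (h35 tau cyc)
    rw [hf, hzp] at h
    exact (hci.1 h).1
  have hf2 : a * a = 1 ∧ r * r = 1 := by
    rw [← he, ← hmp, ← hf, map_one, map_one, one_mul]
    calc σ * j3 tau * σ * (σ * j3 tau * σ) = σ * j3 tau * (σ * σ) * j3 tau * σ := by group
      _ = σ * j3 (tau * tau) * σ := by rw [hσσ, map_mul]; group
      _ = 1 := by rw [show tau * tau = 1 by decide, map_one, mul_one, hσσ]
  have ha1 : a = 1 := by
    rcases cent_rho a hfz with rfl | rfl | rfl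
    exacts [rfl, absurd hf2.1 (by decide), absurd hf2.1 (by decide)]
  subst ha1
  rw [map_one, one_mul] at hf
  have hrc : r * cyc * r⁻¹ = cyc * cyc := by
    have h : σ * j3 tau * σ * (σ * z * σ) * (σ * j3 tau * σ)⁻¹ = i5 (cyc * cyc) := by
      calc σ * j3 tau * σ * (σ * z * σ) * (σ * j3 tau * σ)⁻¹
          = σ * j3 tau * (σ * σ) * z * (j3 tau)⁻¹ * σ⁻¹ := by group
        _ = σ * (j3 tau * z * (j3 tau)⁻¹) * σ := by rw [hσσ, hσi]; group
        _ = σ * (z * (σ * σ) * z) * σ := by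
          rw [hσσ, ← hj3, ← map_inv, ← map_mul, ← map_mul, mul_one, ← map_mul]
          exact congrArg (fun w => σ * j3 w * σ) (by decide)
        _ = σ * z * σ * (σ * z * σ) := by group
        _ = i5 (cyc * cyc) := by rw [hσz, map_mul]
    rw [hf, hσz, ← map_inv, ← map_mul, ← map_mul] at h
    exact ((he (a := 1) (a' := 1)).1 (by rw [h])).2
  have hrs : r * t34 = t34 * r := by
    have h := hconjσ _ _ (h35 tau t34)
    rw [hf, hσs, commute_iff_eq, ← map_mul, ← map_mul] at h
    exact ((he (a := 1) (a' := 1)).1 (by rw [h])).2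
  obtain ⟨k, hk'⟩ := inverting r hf2.2 hrc hrs
  set w := cyc ^ (k : ℕ) with hw
  have hwc : w * cyc = cyc * w := (Commute.pow_self cyc _).eq
  have hws : w * t34 = t34 * w :=
    ((show Commute cyc t34 from (by decide : cyc * t34 = t34 * cyc)).pow_left _).eq
  let i5' : Perm (Fin 5) →* G := i5.comp (MulAut.conj w⁻¹).toMonoidHom
  have h5c : i5' cyc = i5 cyc := by
    show i5 (w⁻¹ * cyc * w⁻¹⁻¹) = _
    rw [inv_inv, mul_assoc, ← hwc, inv_mul_cancel_left]
  have h5t : i5' t34 = i5 t34 := by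
    show i5 (w⁻¹ * t34 * w⁻¹⁻¹) = _
    rw [inv_inv, mul_assoc, ← hws, inv_mul_cancel_left]
  have hmap : (zpowers cyc).map i5' = (zpowers cyc).map i5 := by
    rw [MonoidHom.map_zpowers, MonoidHom.map_zpowers, h5c]
  have hmap' : (zpowers rho).map j3 ⊔ (zpowers cyc).map i5' = D :=
    (congrArg (fun K => (zpowers rho).map j3 ⊔ K) hmap).trans hDeq
  refine ⟨⟨j3, i5', σ, w * r * w⁻¹, fun a q => h35 a _,
    fun a q e => ⟨(hinj a _ e).1, (MulAut.conj w⁻¹).map_eq_one_iff.1 (hinj a _ e).2⟩, ?_, hσσ,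
    ?_, ?_, ?_, hk', ⟨P, hDP.symm.trans hmap'.symm⟩, ?_⟩, hmap', hj3⟩
  · intro g hg
    rw [hj3] at hg
    obtain ⟨a, q, rfl⟩ := hnorm g hg
    refine ⟨a, w * q * w⁻¹, ?_⟩
    show _ = j3 a * i5 (w⁻¹ * (w * q * w⁻¹) * w⁻¹⁻¹)
    rw [inv_inv, show w⁻¹ * (w * q * w⁻¹) * w = q by group]
  · rw [hj3, h5c, hσz]
  · rw [h5t, hσs]
  · show σ * j3 tau * σ = i5 (w⁻¹ * (w * r * w⁻¹) * w⁻¹⁻¹)
    rw [inv_inv, show w⁻¹ * (w * r * w⁻¹) * w = r by group, hf]
  · intro g hg
    rw [h5c] at hg
    rw [hmap, hDeq]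
    exact hmixed g hg

end Extract

end CfsgLib.ThreeLocalS8
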