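import Cfsg.Agent.Lib.Recognition.ThreeLocalS8.SixFacts

/-!
# Marked systems of `S₆`: the consequences that are used
-/

set_option autoImplicit false

namespace CfsgLib.ThreeLocalS8

open Equiv

theorem Marked.map {z w x y t : Perm (Fin 6)} (h : Marked z w x y t) (g : Perm (Fin 6)) :
    Marked (g * z * g⁻¹) (g * w * g⁻¹) (g * x * g⁻¹) (g * y * g⁻¹) (g * t * g⁻¹) := by
  have hc : ∀ a b, g * a * g⁻¹ * (g * b * g⁻¹) = g * (a * b) * g⁻¹ := fun a b => by group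
  have hinj : ∀ {a b}, g * a * g⁻¹ = g * b * g⁻¹ → a = b := fun {a b} e =>
    mul_left_cancel (mul_right_cancel e)
  refine ⟨?_, ?_, ?_, ?_, ?_, ?_, ?_, ?_, ?_, ?_, ?_, ?_⟩
  · rw [hc, hc, h.z3]; group
  · exact fun e => h.z1 (conj_eq_one_iff.1 e)
  · rw [hc, hc, h.comm]
  · exact fun e => h.w0 (conj_eq_one_iff.1 e)
  · exact fun e => h.w1 (hinj e)
  · exact fun e => h.w2 (hinj (e.trans (hc z z)))
  · rw [hc, h.x2]; group
  · rw [hc, hc, hc, h.xz]
  · rw [hc, hc, h.xw]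
  · rw [hc, h.t2]; group
  · rw [hc, hc, h.tz]
  · rw [hc, hc, h.tx]

theorem Marked.normal_form {z w x y t : Perm (Fin 6)} (h : Marked z w x y t) :
    ∃ i : Bool, ∃ g : Perm (Fin 6), g * z * g⁻¹ = mZ i ∧ g * w * g⁻¹ = mW i ∧ g * x * g⁻¹ = mX i ∧
      g * y * g⁻¹ = mY i ∧ g * t * g⁻¹ = mT i := by
  obtain ⟨g₁, i, hg₁⟩ : ∃ g₁ : Perm (Fin 6), ∃ i : Bool, g₁ * z * g₁⁻¹ = mZ i := by
    obtain ⟨g₁, e | e⟩ := six_first z h.z3 h.z1
    exacts [⟨g₁, true, e⟩, ⟨g₁, false, e⟩]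
  have h₁ := h.map g₁
  rw [hg₁] at h₁
  have hw3 : ∀ {z w x y t : Perm (Fin 6)}, Marked z w x y t → w * w * w = 1 := fun {z w x y t} k => by
    calc w * w * w = t * z * (t * t) * z * (t * t) * z * t := by rw [← k.tz]; group
      _ = t * (z * z * z) * t := by rw [k.t2]; group
      _ = 1 := by rw [k.z3, mul_one, k.t2]
  obtain ⟨g₂, hz₂, hw₂⟩ :=
    six_second i _ h₁.comm (hw3 h₁) h₁.w0 h₁.w1 h₁.w2 _ h₁.t2 h₁.tz
  have h₂ := h₁.map g₂
  rw [hz₂, hw₂] at h₂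
  obtain ⟨k, hk⟩ := six_third i _ h₂.x2 h₂.xz h₂.xw
  set g₃ := mZ i ^ (k : ℕ) with hg₃
  have hz₃ : g₃ * mZ i * g₃⁻¹ = mZ i := by
    rw [((Commute.refl (mZ i)).pow_left _).eq, mul_inv_cancel_right]
  have hw₃ : g₃ * mW i * g₃⁻¹ = mW i := by
    rw [((show Commute (mZ i) (mW i) from h₂.comm).pow_left _).eq, mul_inv_cancel_right]
  have h₃ := h₂.map g₃
  rw [hz₃, hw₃, hk] at h₃
  obtain ⟨l, hl⟩ := six_swap i _ h₃.t2 h₃.tz _ h₃.tx
  set g₄ := mW i ^ (l : ℕ) with hg₄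
  have hz₄ : g₄ * mZ i * g₄⁻¹ = mZ i := by
    rw [((show Commute (mW i) (mZ i) from h₂.comm.symm).pow_left _).eq, mul_inv_cancel_right]
  have hw₄ : g₄ * mW i * g₄⁻¹ = mW i := by
    rw [((Commute.refl (mW i)).pow_left _).eq, mul_inv_cancel_right]
  have hx₄ : g₄ * mX i * g₄⁻¹ = mX i := by
    rw [((show Commute (mW i) (mX i) from mW_fixes i).pow_left _).eq, mul_inv_cancel_right]
  have h₄ := h₃.map g₄
  rw [hz₄, hw₄, hx₄, hl] at h₄
  have e : ∀ a, g₄ * g₃ * g₂ * g₁ * a * (g₄ * g₃ * g₂ * g₁)⁻¹ =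
      g₄ * (g₃ * (g₂ * (g₁ * a * g₁⁻¹) * g₂⁻¹) * g₃⁻¹) * g₄⁻¹ := fun a => by group
  refine ⟨i, g₄ * g₃ * g₂ * g₁, ?_, ?_, ?_, ?_, ?_⟩
  · rw [e, hg₁, hz₂, hz₃, hz₄]
  · rw [e, hw₂, hw₃, hw₄]
  · rw [e, hk, hx₄]
  · rw [e]; exact hl
  · rw [e]; exact six_last i _ h₄.t2 h₄.tz h₄.tx

/-- Elements centralising both inverting involutions square to one. -/
theorem Marked.square {z w x y t : Perm (Fin 6)} (h : Marked z w x y t) {a : Perm (Fin 6)}
    (hx : a * x = x * a) (hy : a * y = y * a) : a * a = 1 := by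
  obtain ⟨i, g, -, -, hgx, hgy, -⟩ := h.normal_form
  have hc : ∀ {u v}, a * u = u * a → g * u * g⁻¹ = v → g * a * g⁻¹ * v = v * (g * a * g⁻¹) :=
    fun {u v} e e' => by
      rw [← e']
      calc g * a * g⁻¹ * (g * u * g⁻¹) = g * (a * u) * g⁻¹ := by group
        _ = g * (u * a) * g⁻¹ := by rw [e]
        _ = _ := by group
  have := six_square_model i _ (hc hx hgx) (hc hy hgy)
  rwa [show g * a * g⁻¹ * (g * a * g⁻¹) = g * (a * a) * g⁻¹ by group, conj_eq_one_iff] at this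

/-- The exchange is a product of an involution `v` with two others, all three pairs being conjugate
to `(x, y)`, and `x, y, t, v` generate a group of order sixteen. -/
theorem Marked.split {z w x y t : Perm (Fin 6)} (h : Marked z w x y t) :
    ∃ v p q : Perm (Fin 6), t = v * p * q ∧ SamePair x y v x ∧ SamePair x y v y ∧ SamePair x y v p ∧
      SamePair x y v q ∧ ∀ a b c d a' b' c' d' : Bool,
        cond a x 1 * cond b y 1 * cond c t 1 * cond d v 1 =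
          cond a' x 1 * cond b' y 1 * cond c' t 1 * cond d' v 1 →
          a = a' ∧ b = b' ∧ c = c' ∧ d = d' := by
  obtain ⟨i, g, -, -, hgx, hgy, hgt⟩ := h.normal_form
  obtain ⟨he, ⟨k1, a1, b1⟩, ⟨k2, a2, b2⟩, ⟨k3, a3, b3⟩, ⟨k4, a4, b4⟩⟩ := six_split_model i
  have hback : ∀ {u v}, g * u * g⁻¹ = v → g⁻¹ * v * g = u := fun {u v} e => by rw [← e]; group
  have hpair : ∀ {k u v : Perm (Fin 6)}, k * u * k⁻¹ = mX i → k * v * k⁻¹ = mY i →
      SamePair x y (g⁻¹ * u * g) (g⁻¹ * v * g) := fun {k u v} e1 e2 => by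
    refine ⟨g⁻¹ * k * g, ?_, ?_⟩
    · rw [← hback hgx, ← e1]; group
    · rw [← hback hgy, ← e2]; group
  refine ⟨g⁻¹ * mV i * g, g⁻¹ * mP i * g, g⁻¹ * mQ i * g, ?_, ?_, ?_, hpair a3 b3, hpair a4 b4, ?_⟩
  · rw [← hback hgt, he]; group
  · have := hpair a1 b1; rwa [hback hgx] at this
  · have := hpair a2 b2; rwa [hback hgy] at this
  · intro a b c d a' b' c' d' e
    refine six_indep_model i a b c d a' b' c' d' ?_
    have hd : ∀ (s : Bool) (u v : Perm (Fin 6)), g * u * g⁻¹ = v →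
        g * cond s u 1 * g⁻¹ = cond s v 1 := fun s u v h' => by
      cases s
      · simp
      · exact h'
    rw [← hd a _ _ hgx, ← hd b _ _ hgy, ← hd c _ _ hgt, ← hd d (g⁻¹ * mV i * g) _ (by group),
      ← hd a' _ _ hgx, ← hd b' _ _ hgy, ← hd c' _ _ hgt, ← hd d' (g⁻¹ * mV i * g) _ (by group)]
    calc _ = g * (cond a x 1 * cond b y 1 * cond c t 1 * cond d (g⁻¹ * mV i * g) 1) * g⁻¹ := by group
      _ = g * (cond a' x 1 * cond b' y 1 * cond c' t 1 * cond d' (g⁻¹ * mV i * g) 1) * g⁻¹ := by rw [e]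
      _ = _ := by group

/-- A further element of order three centralising `x`, determined up to `⟨w⟩` by one invariant. -/
theorem Marked.three {z w x y t : Perm (Fin 6)} (h : Marked z w x y t) :
    ∃ r : Perm (Fin 6), r * r * r = 1 ∧ r * x = x * r ∧ r * w ≠ w * r ∧
      ∀ v : Perm (Fin 6), v * v * v = 1 → v * x = x * v → v * w ≠ w * v →
        (v * w) ^ 3 ≠ x ∧
        (((v * w) ^ 3 = 1 ↔ (r * w) ^ 3 = 1) →
          ∃ k : Fin 3, v = w ^ (k : ℕ) * r * (w ^ (k : ℕ))⁻¹) := by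
  obtain ⟨i, g, -, hgw, hgx, -, -⟩ := h.normal_form
  obtain ⟨r3, rx, rw', rall⟩ := six_three_model i
  set φ : Perm (Fin 6) ≃* Perm (Fin 6) := MulAut.conj g with hφ
  have hw : φ w = mW i := hgw
  have hx : φ x = mX i := hgx
  obtain ⟨r, hr⟩ := φ.surjective (mR i)
  refine ⟨r, φ.injective ?_, φ.injective ?_, fun e => rw' ?_, fun v hv3 hvx hvw => ?_⟩
  · rw [map_mul, map_mul, hr, map_one, r3]
  · rw [map_mul, map_mul, hr, hx, rx]
  · rw [← hr, ← hw, ← map_mul, ← map_mul, e]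
  · have hne : φ v ≠ mW i ∧ φ v ≠ mW i * mW i := by
      constructor <;> intro e
      · rw [← hw] at e
        exact hvw (by rw [φ.injective e])
      · rw [← hw, ← map_mul] at e
        exact hvw (by rw [φ.injective e, mul_assoc])
    have hv1 : φ v ≠ 1 := fun e => hvw (by rw [φ.injective (e.trans φ.map_one.symm)]; simp)
    obtain ⟨h1, h2⟩ := rall (φ v) (by rw [← map_mul, ← map_mul, hv3, map_one]) hv1
      (by rw [← hx, ← map_mul, ← map_mul, hvx]) hne.1 hne.2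
    have e1 : ∀ u, (u * w) ^ 3 = 1 ↔ (φ u * mW i) ^ 3 = 1 := fun u => by
      rw [← hw, ← map_mul, ← map_pow, φ.map_eq_one_iff]
    refine ⟨fun e => h1 ?_, fun e => ?_⟩
    · rw [← hw, ← hx, ← map_mul, ← map_pow, e]
    · rw [e1 v, e1 r, hr] at e
      obtain ⟨k, hk⟩ := h2 e
      exact ⟨k, φ.injective (by rw [hk, map_mul, map_mul, map_inv, map_pow, hr, hw])⟩

end CfsgLib.ThreeLocalS8
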