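import Cfsg.Agent.Lib.Recognition.ThreeLocalS8.Local
import Cfsg.Agent.Lib.Recognition.ThreeLocalS8.SixMarked
import Cfsg.Agent.Lib.Char.SylowNine.RecogSix

/-!
# The centraliser of `s`: either `N(D)`, or an extension of `S₆`
-/

set_option autoImplicit false
set_option linter.unusedSectionVars false

namespace CfsgLib.ThreeLocalS8

open Equiv Subgroup

theorem fix_t34_good : ∀ q : Perm (Fin 5), q * t34 = t34 * q →
    q * cyc * q⁻¹ = cyc ∨ q * cyc * q⁻¹ = cyc * cyc := by
  decide +kernel

theorem cent_both_square : ∀ q : Perm (Fin 5),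
    (q * cyc * q⁻¹ = cyc ∨ q * cyc * q⁻¹ = cyc * cyc) →
    (q * t01 = t01 * q ∨ q * (t01 * t34) = t01 * t34 * q) → q * q = 1 := by
  decide +kernel

theorem perm3_cent_tau : ∀ a : Perm (Fin 3), a * tau = tau * a → a * a = 1 := by decide

variable {G : Type*} [Group G]

theorem Setup.s2 (S : Setup G) : S.s * S.s = 1 := by
  rw [show S.s = S.i5 t34 from rfl, ← map_mul, show t34 * t34 = 1 by decide, map_one]

theorem Setup.s_ne (S : Setup G) : S.s ≠ 1 := fun h => absurd (S.i5_eq_one h) (by decide)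

theorem Setup.mem_zpowers_s (S : Setup G) {x : G} : x ∈ zpowers S.s ↔ x = 1 ∨ x = S.s := by
  refine ⟨fun h => ?_, fun h => ?_⟩
  · obtain ⟨n, rfl⟩ := mem_zpowers_iff.1 h
    rcases Int.even_or_odd' n with ⟨m, rfl | rfl⟩
    · left; rw [zpow_mul, zpow_two, S.s2, one_zpow]
    · right; rw [zpow_add_one, zpow_mul, zpow_two, S.s2, one_zpow, one_mul]
  · rcases h with rfl | rfl
    exacts [one_mem _, mem_zpowers _]

theorem Setup.s_not_mem (S : Setup G) : S.s ∉ S.D := fun h => S.s_ne (by
  calc S.s = S.s * S.s * S.s := by rw [S.s2, one_mul]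
    _ = 1 := S.D_three h)

theorem Setup.e2 (S : Setup G) : S.e * S.e = 1 := by
  rw [show S.e = S.i3 tau from rfl, ← map_mul, show tau * tau = 1 by decide, map_one]

theorem Setup.f2 (S : Setup G) : S.f * S.f = 1 := by
  rw [← S.σe', ← S.σ_mul, S.e2, mul_one, S.σ2]

theorem Setup.ez (S : Setup G) : S.e * S.z * S.e = S.z * S.z := by
  simp only [Setup.e, Setup.z]
  rw [← map_mul, ← map_mul, ← map_mul]
  exact congrArg S.i3 (by decide)

theorem Setup.ec (S : Setup G) : Commute S.e S.c := S.comm _ _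

theorem Setup.ef (S : Setup G) : Commute S.e S.f := S.comm _ _

theorem Setup.fz (S : Setup G) : Commute S.f S.z := (S.comm _ _).symm

theorem Setup.es (S : Setup G) : Commute S.e S.s := S.comm _ _

theorem Setup.fs (S : Setup G) : Commute S.f S.s := by
  rw [← S.σe', ← S.σs']; exact S.σ_commute S.es

section Cent

variable [Finite G] (S : Data G)

/-- Congruent modulo `⟨s⟩` elements of order three are equal. -/
theorem Data.eq_of_three {a b : G} (ha : a * a * a = 1) (hb : b * b * b = 1)
    (h : a = b * S.s) (hc : Commute b S.s) : False := by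
  apply S.s_ne
  calc S.s = b * b * b * (S.s * S.s * S.s) := by rw [hb, S.s2, one_mul, one_mul]
    _ = b * S.s * (b * S.s) * (b * S.s) := by
      rw [hc.symm.mul_mul_mul_comm, (hc.symm.mul_left hc.symm).mul_mul_mul_comm]
    _ = 1 := by rw [← h, ha]

theorem Data.D_le : S.D ≤ centralizer ({S.s} : Set G) := fun _ hd =>
  mem_centralizer_singleton_iff.2 (S.s_central (le_normalizer hd)).eq

theorem Data.N_le : normalizer (S.D : Set G) ≤ centralizer ({S.s} : Set G) := fun _ hd =>
  mem_centralizer_singleton_iff.2 (S.s_central hd).eq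

/-- Centralisers of non-trivial elements of `D` in `C(s)` lie in `N(D)`. -/
theorem Data.cent_in_norm {d g : G} (hd : d ∈ S.D) (hd1 : d ≠ 1) (hg : Commute g d)
    (hs : Commute g S.s) : g ∈ normalizer (S.D : Set G) := by
  have key : ∀ k, Commute k S.z → Commute k S.s → k ∈ normalizer (S.D : Set G) := by
    intro k hkz hks
    obtain ⟨a, q, rfl, -⟩ := S.cent_z hkz
    rw [show S.s = S.i3 1 * S.i5 t34 by rw [map_one, one_mul]; rfl, commute_iff S.comm S.inj] at hks
    exact S.good_mem (fix_t34_good q hks.2)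
  have key' : ∀ k, Commute k S.c → Commute k S.s → k ∈ normalizer (S.D : Set G) := by
    intro k hkc hks
    have := key _ (S.σc ▸ S.σ_commute hkc) (S.σs' ▸ S.σ_commute hks)
    have h' := mul_mem (mul_mem S.σ_mem this) S.σ_mem
    rwa [S.σσ] at h'
  obtain ⟨a, r, rfl, ha, hr⟩ := S.mem_D.1 hd
  rcases ha with rfl | ha
  · rw [map_one, one_mul] at hd1 hg
    rcases hr with rfl | rfl | rfl
    · exact absurd (map_one _) hd1
    · exact key' g hg hs
    · refine key' g ?_ hs
      have h := hg.mul_right hg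
      rwa [← map_mul, show cyc * cyc * (cyc * cyc) = cyc by decide] at h
  · rcases hr with rfl | hr
    · rw [map_one, mul_one] at hg
      rcases ha with rfl | rfl
      · exact key g hg hs
      · refine key g ?_ hs
        have h := hg.mul_right hg
        rwa [← map_mul, show rho * rho * (rho * rho) = rho by decide] at h
    · exact S.cent_mixed ha hr hg

/-- Either `C(s) = N(D)`, or `C(s)/⟨s⟩` is the symmetric group of degree six. -/
theorem Data.cent_s_cases : centralizer ({S.s} : Set G) = normalizer (S.D : Set G) ∨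
    ∃ π : ↥(centralizer ({S.s} : Set G)) →* Perm (Fin 6), Function.Surjective π ∧
      ∀ x, π x = 1 ↔ (x : G) ∈ zpowers S.s := by
  classical
  set H := centralizer ({S.s} : Set G) with hH
  have hsH : S.s ∈ H := mem_centralizer_singleton_iff.2 rfl
  set Z0 := (zpowers S.s).subgroupOf H with hZ0
  haveI hZn : Z0.Normal := ⟨fun x hx g => by
    have hc : Commute (g : G) (x : G) := by
      rcases S.mem_zpowers_s.1 (mem_subgroupOf.1 hx) with e | e <;> rw [e]
      exacts [Commute.one_right _, mem_centralizer_singleton_iff.1 g.2]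
    refine mem_subgroupOf.2 ?_
    push_cast
    rw [hc.eq, mul_inv_cancel_right]
    exact mem_subgroupOf.1 hx⟩
  let mk := QuotientGroup.mk' Z0
  have hmk : ∀ {x y : H}, mk x = mk y → (y : G) = x ∨ (y : G) = x * S.s := by
    intro x y e
    rcases S.mem_zpowers_s.1 (mem_subgroupOf.1 (QuotientGroup.eq.1 e)) with e' | e' <;>
      push_cast at e'
    · exact Or.inl (inv_mul_eq_one.1 e').symm
    · exact Or.inr (by rw [← e', mul_inv_cancel_left])
  have hDH : S.D ≤ H := S.D_le
  have hnorm3 : ∀ {h : H} {d : G}, d ∈ S.D → ∀ {d' : G}, d' ∈ S.D →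
      ((h : G) * d * (h : G)⁻¹ = d' * S.s) → False := fun {h d} hd {d'} hd' e => by
    refine S.eq_of_three (a := (h : G) * d * (h : G)⁻¹) ?_ (S.D_three hd') e
      (mem_centralizer_singleton_iff.1 (hDH hd'))
    calc _ = (h : G) * (d * d * d) * (h : G)⁻¹ := by group
      _ = 1 := by rw [S.D_three hd]; group
  set T := (S.D.subgroupOf H).map mk with hT
  have hTmem : ∀ {q}, q ∈ T → ∃ d : H, (d : G) ∈ S.D ∧ mk d = q := fun {q} hq => by
    obtain ⟨d, hd, rfl⟩ := hq; exact ⟨d, hd, rfl⟩
  have hTmk : ∀ {d : H}, (d : G) ∈ S.D → mk d ∈ T := fun {d} hd => mem_map_of_mem mk hd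
  -- elements of `H` whose image normalises or centralises the image of `D`
  have hstab : ∀ {h : H} {d : H}, (d : G) ∈ S.D → mk h * mk d * (mk h)⁻¹ ∈ T →
      (h : G) * d * (h : G)⁻¹ ∈ S.D := by
    intro h d hd hm
    obtain ⟨d', hd', e⟩ := hTmem hm
    rw [← map_inv, ← map_mul, ← map_mul] at e
    rcases hmk e with e' | e' <;> push_cast at e'
    · rw [e']; exact hd'
    · exact (hnorm3 hd hd' e').elim
  have hfix : ∀ {h : H} {d : H}, (d : G) ∈ S.D → mk h * mk d * (mk h)⁻¹ = mk d →
      Commute (h : G) d := by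
    intro h d hd e
    rw [← map_inv, ← map_mul, ← map_mul] at e
    rcases hmk e.symm with e' | e' <;> push_cast at e'
    · exact mul_inv_eq_iff_eq_mul.1 e'
    · exact (hnorm3 hd hd e').elim
  let ψ : ↥((normalizer (S.D : Set G)).subgroupOf H) →* H ⧸ Z0 := mk.comp (Subgroup.subtype _)
  have hψmem : ∀ x, ψ x ∈ normalizer (T : Set (H ⧸ Z0)) := by
    intro x
    refine mem_normalizer_of_conj_mem fun q hq => ?_
    obtain ⟨d, hd, rfl⟩ := hTmem hq
    show mk x.1 * mk d * (mk x.1)⁻¹ ∈ T
    rw [← map_inv, ← map_mul, ← map_mul]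
    exact hTmk ((mem_normalizer_iff.1 (mem_subgroupOf.1 x.2) _).1 hd)
  have hmem : ∀ {h : H}, mk h ∈ normalizer (T : Set (H ⧸ Z0)) → (h : G) ∈ normalizer (S.D : Set G) :=
    fun {h} hh => mem_normalizer_of_conj_mem fun d hd =>
      hstab (d := ⟨d, hDH hd⟩) hd ((mem_normalizer_iff.1 hh _).1 (hTmk hd))
  by_cases hTn : T.Normal
  · refine Or.inl (le_antisymm (fun h hh => ?_) S.N_le)
    exact hmem (h := ⟨h, hh⟩) (by rw [normalizer_eq_top]; trivial)
  right
  haveI : Fintype (H ⧸ Z0) := Fintype.ofFinite _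
  let ψ' : ↥((normalizer (S.D : Set G)).subgroupOf H) →* ↥(normalizer (T : Set (H ⧸ Z0))) :=
    ψ.codRestrict _ hψmem
  have hψs : Function.Surjective ψ' := by
    rintro ⟨q, hq⟩
    obtain ⟨h, rfl⟩ := QuotientGroup.mk'_surjective Z0 q
    exact ⟨⟨h, mem_subgroupOf.2 (hmem hq)⟩, rfl⟩
  let φ' : ↥((normalizer (S.D : Set G)).subgroupOf H) →* DihedralGroup 4 :=
    S.φ.comp (subgroupOfEquivOfLe S.N_le).toMonoidHom
  have hker : ψ'.ker ≤ φ'.ker := by
    intro x hx
    rw [MonoidHom.mem_ker] at hx ⊢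
    have hx' : mk x.1 = mk 1 := by rw [map_one]; exact congrArg Subtype.val hx
    refine (S.φ_ker _).2 ?_
    show ((x : H) : G) ∈ centralizer (S.D : Set G)
    rcases hmk hx' with e | e <;> push_cast at e
    · rw [← e]; exact one_mem _
    · have : ((x : H) : G) = S.s := by
        calc ((x : H) : G) = (x : H) * (S.s * S.s) := by rw [S.s2, mul_one]
          _ = S.s := by rw [← mul_assoc, ← e, one_mul]
      rw [this]
      exact mem_centralizer_iff.2 fun d hd => (S.s_central (le_normalizer hd)).eq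
  let φ₀ : ↥(normalizer (T : Set (H ⧸ Z0))) →* DihedralGroup 4 :=
    ψ'.liftOfSurjective hψs ⟨φ', hker⟩
  have hφ₀ : ∀ x, φ₀ (ψ' x) = φ' x := fun x =>
    ψ'.liftOfRightInverse_comp_apply _ (Function.rightInverse_surjInv hψs) ⟨φ', hker⟩ x
  have hcard9 : Nat.card T = 9 := by
    rw [← S.card_D]
    refine (Nat.card_congr (Equiv.ofBijective
      (fun d : S.D => (⟨mk ⟨d, hDH d.2⟩, hTmk (d := ⟨d, hDH d.2⟩) d.2⟩ : T)) ⟨?_, ?_⟩)).symm
    · intro d d' e
      rcases hmk (congrArg Subtype.val e) with e' | e'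
      · exact Subtype.ext e'.symm
      · exact (S.eq_of_three (S.D_three d'.2) (S.D_three d.2) e'
          (mem_centralizer_singleton_iff.1 (hDH d.2))).elim
    · rintro ⟨q, hq⟩
      obtain ⟨d, hd, rfl⟩ := hTmem hq
      exact ⟨⟨d, hd⟩, rfl⟩
  have hyp : Char.SylowNine.Hyp T := by
    refine ⟨hcard9, fun q hq => ?_, ?_, fun q hq hq1 => ?_⟩
    · obtain ⟨d, hd, rfl⟩ := hTmem hq
      rw [← map_pow, pow_three', show d * d * d = 1 from Subtype.ext (by push_cast; exact S.D_three hd),
        map_one]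
    · intro h3
      have h1 : (S.D.subgroupOf H).index ∣ S.D.index := relIndex_dvd_index_of_le hDH
      have h2 : T.index ∣ (S.D.subgroupOf H).index := index_map_dvd _ (QuotientGroup.mk'_surjective Z0)
      haveI : Fact (Nat.Prime 3) := ⟨Nat.prime_three⟩
      exact S.P.not_dvd_index (by rw [S.P_eq]; exact h3.trans (h2.trans h1))
    · intro x hx
      obtain ⟨h, rfl⟩ := QuotientGroup.mk'_surjective Z0 x
      obtain ⟨d, hd, rfl⟩ := hTmem hq
      have hd1 : (d : G) ≠ 1 := fun e => hq1 (by rw [show d = 1 from Subtype.ext e, map_one])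
      have hc := hfix hd (mul_inv_eq_iff_eq_mul.2 (mem_centralizer_singleton_iff.1 hx))
      exact hψmem ⟨h, mem_subgroupOf.2 (S.cent_in_norm hd hd1 hc
        (mem_centralizer_singleton_iff.1 h.2))⟩
  have hcent : centralizer (T : Set (H ⧸ Z0)) ≤ T := by
    intro x hx
    obtain ⟨h, rfl⟩ := QuotientGroup.mk'_surjective Z0 x
    have hc : ∀ d ∈ S.D, Commute (h : G) d := fun d hd => hfix (d := ⟨d, hDH hd⟩) hd
      (mul_inv_eq_iff_eq_mul.2 (mem_centralizer_iff.1 hx _ (hTmk hd)).symm)
    rcases S.cent_D_mem (hc _ S.z_mem) (hc _ S.c_mem) with hm | hm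
    · exact hTmk hm
    · have e : mk h = mk (h * ⟨S.s, hsH⟩) := by
        refine QuotientGroup.eq.2 (mem_subgroupOf.2 ?_)
        push_cast
        rw [inv_mul_cancel_left]
        exact mem_zpowers _
      rw [show QuotientGroup.mk' Z0 h = mk h from rfl, e]
      exact hTmk hm
  have hD : Char.SylowNine.Dih T φ₀ := by
    refine ⟨hyp, hcent, fun d => ?_, fun x => ?_⟩
    · obtain ⟨y, hy⟩ := S.φ_surj d
      refine ⟨ψ' ((subgroupOfEquivOfLe S.N_le).symm y), ?_⟩
      rw [hφ₀]
      show S.φ (subgroupOfEquivOfLe S.N_le ((subgroupOfEquivOfLe S.N_le).symm y)) = d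
      rw [MulEquiv.apply_symm_apply, hy]
    · obtain ⟨y, rfl⟩ := hψs x
      rw [hφ₀]
      constructor
      · intro h1
        have hy := (S.φ_ker _).1 h1
        exact hcent (mem_centralizer_iff.2 fun q hq => by
          obtain ⟨d, hd, rfl⟩ := hTmem hq
          show mk d * mk y.1 = mk y.1 * mk d
          rw [← map_mul, ← map_mul]
          exact congrArg mk (Subtype.ext (mem_centralizer_iff.1 hy _ hd)))
      · intro h1
        refine (S.φ_ker _).2 (mem_centralizer_iff.2 fun d hd => ?_)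
        have hc : Commute (y.1 : G) d := hfix (h := y.1) (d := ⟨d, hDH hd⟩) hd (by
          obtain ⟨d', hd', e⟩ := hTmem h1
          change mk d' = mk y.1 at e
          rw [← e, ← map_inv, ← map_mul, ← map_mul]
          exact congrArg mk (Subtype.ext (by
            push_cast; rw [(S.D_commute hd' hd).eq, mul_inv_cancel_right])))
        exact hc.symm.eq
  obtain ⟨iso⟩ := hD.recog hTn
  refine ⟨iso.toMonoidHom.comp mk, iso.surjective.comp (QuotientGroup.mk'_surjective Z0), fun x => ?_⟩
  show iso (mk x) = 1 ↔ _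
  rw [iso.map_eq_one_iff]
  exact (QuotientGroup.eq_one_iff x).trans mem_subgroupOf

end Cent

end CfsgLib.ThreeLocalS8
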