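import Cfsg.Agent.Lib.Recognition.ThreeLocalS8.CentS
import Mathlib.GroupTheory.Transfer

/-!
# The extension of `S₆` by `⟨s⟩`: squares, splitting
-/

set_option autoImplicit false
set_option linter.unusedSectionVars false

namespace CfsgLib.ThreeLocalS8

open Equiv Subgroup

variable {G : Type*} [Group G] [Finite G] (S : Data G)

/-- The projection onto `S₆`. -/
structure Proj where
  /-- The map. -/
  π : ↥(centralizer ({S.s} : Set G)) →* Perm (Fin 6)
  surj : Function.Surjective π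
  ker : ∀ x, π x = 1 ↔ (x : G) ∈ zpowers S.s

namespace Proj

variable {S} (Q6 : Proj S)

theorem mem_z : S.z ∈ centralizer ({S.s} : Set G) := S.D_le S.z_mem

theorem mem_c : S.c ∈ centralizer ({S.s} : Set G) := S.D_le S.c_mem

theorem mem_e : S.e ∈ centralizer ({S.s} : Set G) := S.N_le S.e_mem

theorem mem_f : S.f ∈ centralizer ({S.s} : Set G) := S.N_le S.f_mem

theorem mem_σ : S.σ ∈ centralizer ({S.s} : Set G) := S.N_le S.σ_mem

/-- The images. -/
noncomputable def pz : Perm (Fin 6) := Q6.π ⟨S.z, mem_z⟩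
/-- The image of `c`. -/
noncomputable def pc : Perm (Fin 6) := Q6.π ⟨S.c, mem_c⟩
/-- The image of `e`. -/
noncomputable def pe : Perm (Fin 6) := Q6.π ⟨S.e, mem_e⟩
/-- The image of `f`. -/
noncomputable def pf : Perm (Fin 6) := Q6.π ⟨S.f, mem_f⟩
/-- The image of `σ`. -/
noncomputable def pσ : Perm (Fin 6) := Q6.π ⟨S.σ, mem_σ⟩

theorem eq_or (x y : ↥(centralizer ({S.s} : Set G))) (h : Q6.π x = Q6.π y) :
    (x : G) = y ∨ (x : G) = y * S.s := by
  have h1 : Q6.π (y⁻¹ * x) = 1 := by rw [map_mul, map_inv, h, inv_mul_cancel]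
  rcases S.mem_zpowers_s.1 ((Q6.ker _).1 h1) with e | e <;> push_cast at e
  · exact Or.inl (inv_mul_eq_one.1 e).symm
  · exact Or.inr ((mul_inv_cancel_left (y : G) (x : G)).symm.trans (congrArg ((y : G) * ·) e))

theorem eq_three (x y : ↥(centralizer ({S.s} : Set G))) (hx : (x : G) * x * x = 1)
    (hy : (y : G) * y * y = 1) (h : Q6.π x = Q6.π y) : (x : G) = y := by
  rcases Q6.eq_or x y h with e | e
  · exact e
  · exact (S.eq_of_three hx hy e (mem_centralizer_singleton_iff.1 y.2)).elim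

theorem marked : Marked Q6.pz Q6.pc Q6.pe Q6.pf Q6.pσ := by
  have hz3 : S.z * S.z * S.z = 1 := S.z3
  refine ⟨?_, ?_, ?_, ?_, ?_, ?_, ?_, ?_, ?_, ?_, ?_, ?_⟩
  · rw [pz, ← map_mul, ← map_mul, ← map_one Q6.π]; exact congrArg Q6.π (Subtype.ext hz3)
  · exact fun e => S.z_ne (Q6.eq_three _ 1 hz3 (by simp) (e.trans (map_one _).symm))
  · rw [pz, pc, ← map_mul, ← map_mul]; exact congrArg Q6.π (Subtype.ext S.commute_zc.eq)
  · exact fun e => S.c_ne (Q6.eq_three _ 1 S.c3 (by simp) (e.trans (map_one _).symm))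
  · intro e
    have h : S.c = S.z := Q6.eq_three _ _ S.c3 S.z3 e
    rw [S.c_pair, S.z_pair] at h
    exact absurd (S.pair.1 h).1 (by decide)
  · intro e
    have h : S.c = S.z * S.z := Q6.eq_three _ (⟨S.z, mem_z⟩ * ⟨S.z, mem_z⟩) S.c3 (by
      push_cast; exact S.D_three (mul_mem S.z_mem S.z_mem)) (e.trans (map_mul _ _ _).symm)
    rw [S.c_pair, S.z_pair, S.mul_pair] at h
    exact absurd (S.pair.1 h).1 (by decide)
  · rw [pe, ← map_mul, ← map_one Q6.π]; exact congrArg Q6.π (Subtype.ext S.e2)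
  · rw [pe, pz, ← map_mul, ← map_mul, ← map_mul]; exact congrArg Q6.π (Subtype.ext S.ez)
  · rw [pe, pc, ← map_mul, ← map_mul]; exact congrArg Q6.π (Subtype.ext S.ec.eq)
  · rw [pσ, ← map_mul, ← map_one Q6.π]; exact congrArg Q6.π (Subtype.ext S.σ2)
  · rw [pσ, pz, pc, ← map_mul, ← map_mul]; exact congrArg Q6.π (Subtype.ext S.σz')
  · rw [pσ, pe, pf, ← map_mul, ← map_mul]; exact congrArg Q6.π (Subtype.ext S.σe')

end Proj

theorem Data.exists_proj (h : centralizer ({S.s} : Set G) ≠ normalizer (S.D : Set G)) :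
    Nonempty (Proj S) := by
  obtain ⟨π, h1, h2⟩ := S.cent_s_cases.resolve_left h
  exact ⟨⟨π, h1, h2⟩⟩

/-- An element of `N(D)` commuting with `e` and `f` squares to one. -/
theorem Data.norm_cent_ef {g : G} (hg : g ∈ normalizer (S.D : Set G)) (he : Commute g S.e)
    (hf : Commute g S.f) : g * g = 1 := by
  obtain ⟨a, q, hq, h⟩ := S.mem_norm hg
  rcases h with rfl | rfl
  · have ha : a * tau = tau * a := by
      rw [show S.e = S.i3 tau * S.i5 1 by rw [map_one, mul_one]; rfl, commute_iff S.comm S.inj] at he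
      exact he.1
    have hq' : q * t01 = t01 * q ∨ q * (t01 * t34) = t01 * t34 * q := by
      rw [show S.f = S.i3 1 * S.i5 S.b by rw [map_one, one_mul]; rfl, commute_iff S.comm S.inj] at hf
      rcases S.b_cases with e | e <;> rw [e] at hf
      exacts [Or.inl hf.2, Or.inr hf.2]
    rw [S.mul_pair, perm3_cent_tau a ha, cent_both_square q hq hq', map_one, map_one, one_mul]
  · exfalso
    -- conjugation would carry `z` into `⟨c⟩`, which `e` centralises
    set k := S.i3 a * S.i5 q with hk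
    have hkz : k * S.z * k⁻¹ = S.z ∨ k * S.z * k⁻¹ = S.z * S.z := by
      rw [S.z_pair, hk, S.conj_pair, show q * 1 * q⁻¹ = 1 by group]
      rcases perm3_inv a with e | e <;> rw [e]
      · exact Or.inl rfl
      · refine Or.inr ?_
        rw [map_one, mul_one, mul_one, map_mul]
    have hgz : (S.σ * k) * S.z * (S.σ * k)⁻¹ = S.c ∨ (S.σ * k) * S.z * (S.σ * k)⁻¹ = S.c * S.c := by
      rw [show S.σ * k * S.z * (S.σ * k)⁻¹ = S.σ * (k * S.z * k⁻¹) * S.σ⁻¹ by group, S.σinv]
      rcases hkz with e | e <;> rw [e]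
      exacts [Or.inl S.σz', Or.inr (by rw [S.σ_mul, S.σz'])]
    set u := S.σ * k * S.z * (S.σ * k)⁻¹ with hu
    have hue : Commute S.e u := by
      rcases hgz with e | e <;> rw [e]
      exacts [S.ec, S.ec.mul_right S.ec]
    have h2 : S.e * u * S.e = u * u := by
      have he' : S.e * (S.σ * k) = S.σ * k * S.e := he.symm.eq
      calc S.e * u * S.e = S.e * (S.σ * k) * S.z * (S.e * (S.σ * k))⁻¹ := by
            rw [hu, mul_inv_rev _ (S.σ * k)]
            simp only [mul_assoc, inv_eq_of_mul_eq_one_right S.e2]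
        _ = S.σ * k * (S.e * S.z * S.e) * (S.σ * k)⁻¹ := by
            rw [he', mul_inv_rev, inv_eq_of_mul_eq_one_right S.e2]; group
        _ = u * u := by rw [S.ez, hu]; group
    rw [hue.eq, mul_assoc, S.e2, mul_one] at h2
    have hu1 : u = 1 := mul_left_cancel (a := u) (by rw [mul_one]; exact h2.symm)
    exact S.z_ne (conj_eq_one_iff.1 hu1)

/-- An element of `C(s)` commuting with `e` and `f` has square in `⟨s⟩`. -/
theorem Data.cent_ef_square {g : G} (hs : Commute g S.s) (he : Commute g S.e) (hf : Commute g S.f) :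
    g * g = 1 ∨ g * g = S.s := by
  by_cases h : centralizer ({S.s} : Set G) = normalizer (S.D : Set G)
  · exact Or.inl (S.norm_cent_ef (h ▸ mem_centralizer_singleton_iff.2 hs.eq) he hf)
  · obtain ⟨Q6⟩ := S.exists_proj h
    let g' : ↥(centralizer ({S.s} : Set G)) := ⟨g, mem_centralizer_singleton_iff.2 hs.eq⟩
    have hsq := Q6.marked.square (a := Q6.π g')
      (by rw [Proj.pe, ← map_mul, ← map_mul]; exact congrArg Q6.π (Subtype.ext he.eq))
      (by rw [Proj.pf, ← map_mul, ← map_mul]; exact congrArg Q6.π (Subtype.ext hf.eq))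
    rw [← map_mul] at hsq
    exact S.mem_zpowers_s.1 ((Q6.ker _).1 hsq)

namespace Proj

variable {S} (Q6 : Proj S)

include Q6 in
theorem index_two_card : Nat.card ↥(centralizer ({S.s} : Set G)) = 1440 := by
  rw [card_eq_card_quotient_mul_card_subgroup Q6.π.ker,
    Nat.card_congr (QuotientGroup.quotientKerEquivOfSurjective Q6.π Q6.surj).toEquiv,
    Nat.card_eq_fintype_card, Fintype.card_perm, Fintype.card_fin]
  have : Nat.card Q6.π.ker = 2 := by
    rw [Nat.card_eq_two_iff]
    refine ⟨1, ⟨⟨S.s, mem_centralizer_singleton_iff.2 rfl⟩, (Q6.ker _).2 (mem_zpowers _)⟩, ?_, ?_⟩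
    · exact fun e => S.s_ne (congrArg (fun x : Q6.π.ker => ((x : _) : G)) e).symm
    · refine Set.eq_univ_of_forall fun x => ?_
      rcases S.mem_zpowers_s.1 ((Q6.ker _).1 x.2) with e | e
      · exact Or.inl (Subtype.ext (Subtype.ext e))
      · exact Or.inr (Subtype.ext (Subtype.ext e))
  rw [this]
  rfl

/-- Lifts of a pair conjugate to the pair of `(e, f)` are commuting involutions. -/
theorem pair_lift (a b : ↥(centralizer ({S.s} : Set G)))
    (h : SamePair Q6.pe Q6.pf (Q6.π a) (Q6.π b)) : Commute (a : G) b ∧ (a : G) * a = 1 := by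
  obtain ⟨g, ha, hb⟩ := h
  obtain ⟨k, rfl⟩ := Q6.surj g
  rw [← map_inv, ← map_mul, ← map_mul] at ha hb
  have ca : Commute ((k * a * k⁻¹ : ↥(centralizer ({S.s} : Set G))) : G) S.s :=
    mem_centralizer_singleton_iff.1 (k * a * k⁻¹).2
  have h1 : Commute ((k * a * k⁻¹ : ↥(centralizer ({S.s} : Set G))) : G) (k * b * k⁻¹ :) ∧
      ((k * a * k⁻¹ : ↥(centralizer ({S.s} : Set G))) : G) * (k * a * k⁻¹ :) = 1 := by
    constructor
    · rcases Q6.eq_or _ _ ha with e | e <;> rcases Q6.eq_or _ _ hb with e' | e' <;> rw [e, e']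
      exacts [S.ef, S.ef.mul_right S.es, S.ef.mul_left S.fs.symm,
        (S.ef.mul_right S.es).mul_left (S.fs.symm.mul_right (Commute.refl _))]
    · rcases Q6.eq_or _ _ ha with e | e <;> rw [e]
      · exact S.e2
      · rw [S.es.symm.mul_mul_mul_comm, S.e2, S.s2, one_mul]
  push_cast at h1
  constructor
  · have := h1.1.map (MulAut.conj (k : G)⁻¹).toMonoidHom
    simpa [MulAut.conj_apply, mul_assoc] using this
  · have e := h1.2
    rw [show (k : G) * a * (k : G)⁻¹ * ((k : G) * a * (k : G)⁻¹) = (k : G) * ((a : G) * a) * (k : G)⁻¹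
      by group, conj_eq_one_iff] at e
    exact e

include Q6 in
/-- `C(s) ≅ 2 × S₆`. -/
theorem split : Nonempty (↥(centralizer ({S.s} : Set G)) ≃* Multiplicative (ZMod 2) × Perm (Fin 6)) := by
  classical
  set H := centralizer ({S.s} : Set G) with hH
  let e' : H := ⟨S.e, mem_e⟩
  let f' : H := ⟨S.f, mem_f⟩
  let σ' : H := ⟨S.σ, mem_σ⟩
  let s' : H := ⟨S.s, mem_centralizer_singleton_iff.2 rfl⟩
  obtain ⟨v, p, q, htvpq, hvx, hvy, hvp, hvq, hindep⟩ := Q6.marked.split
  obtain ⟨v', rfl⟩ := Q6.surj v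
  obtain ⟨p', rfl⟩ := Q6.surj p
  obtain ⟨q', rfl⟩ := Q6.surj q
  obtain ⟨cve, vv⟩ := Q6.pair_lift v' e' hvx
  obtain ⟨cvf, -⟩ := Q6.pair_lift v' f' hvy
  obtain ⟨cvp, -⟩ := Q6.pair_lift v' p' hvp
  obtain ⟨cvq, -⟩ := Q6.pair_lift v' q' hvq
  have cvσ : Commute v' σ' := by
    have cs : ∀ x : H, Commute x s' := fun x => Subtype.ext (mem_centralizer_singleton_iff.1 x.2)
    have h : Commute v' (v' * p' * q') :=
      ((Commute.refl v').mul_right (Subtype.ext cvp.eq)).mul_right (Subtype.ext cvq.eq)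
    rcases Q6.eq_or σ' (v' * p' * q') (by rw [map_mul, map_mul]; exact htvpq) with e | e
    · rw [show σ' = v' * p' * q' from Subtype.ext e]; exact h
    · rw [show σ' = v' * p' * q' * s' from Subtype.ext e]; exact h.mul_right (cs v')
  let W : Bool × Bool × Bool × Bool → H := fun w =>
    cond w.1 e' 1 * cond w.2.1 f' 1 * cond w.2.2.1 σ' 1 * cond w.2.2.2 v' 1
  have hπW : ∀ w, Q6.π (W w) =
      cond w.1 Q6.pe 1 * cond w.2.1 Q6.pf 1 * cond w.2.2.1 Q6.pσ 1 * cond w.2.2.2 (Q6.π v') 1 := by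
    have hc : ∀ (t : Bool) (g : H), Q6.π (cond t g 1) = cond t (Q6.π g) 1 := fun t g => by
      cases t
      exacts [map_one _, rfl]
    intro w
    simp only [W, map_mul, hc]
    rfl
  have hWinj : ∀ w w', Q6.π (W w) = Q6.π (W w') → w = w' := by
    rintro ⟨a, b, c, d⟩ ⟨a', b', c', d'⟩ e
    rw [hπW, hπW] at e
    obtain ⟨rfl, rfl, rfl, rfl⟩ := hindep _ _ _ _ _ _ _ _ e
    rfl
  have ee : e' * e' = 1 := Subtype.ext S.e2
  have ff : f' * f' = 1 := Subtype.ext S.f2
  have σσ : σ' * σ' = 1 := Subtype.ext S.σ2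
  have vv' : v' * v' = 1 := Subtype.ext vv
  have ef : f' * e' = e' * f' := Subtype.ext S.ef.symm.eq
  have σe : σ' * e' = f' * σ' := Subtype.ext (by
    show S.σ * S.e = S.f * S.σ
    rw [← S.σe', mul_assoc, S.σ2, mul_one])
  have σf : σ' * f' = e' * σ' := Subtype.ext (by
    show S.σ * S.f = S.e * S.σ
    rw [← S.σf, mul_assoc, S.σ2, mul_one])
  have ve : v' * e' = e' * v' := Subtype.ext cve.eq
  have vf : v' * f' = f' * v' := Subtype.ext cvf.eq
  have hgen : ∀ g, (g = e' ∨ g = f' ∨ g = σ' ∨ g = v') → ∀ w, ∃ w', g * W w = W w' := by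
    have hsw : ∀ {g h k : H}, g * h = k * g → ∀ t : Bool, g * cond t h 1 = cond t k 1 * g :=
      fun {g h k} e t => by
        cases t
        exacts [(mul_one g).trans (one_mul g).symm, e]
    have hself : ∀ {g : H}, g * g = 1 → ∀ t : Bool, g * cond t g 1 = cond (!t) g 1 :=
      fun {g} e t => by
        cases t
        exacts [mul_one g, e]
    intro g hg
    rintro ⟨a, b, c, d⟩
    rcases hg with hg | hg | hg | hg <;> rw [hg] <;> simp only [W, ← mul_assoc]
    · exact ⟨⟨!a, b, c, d⟩, by rw [hself ee]⟩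
    · refine ⟨⟨a, !b, c, d⟩, ?_⟩
      rw [hsw ef, mul_assoc (cond a e' 1) f', hself ff]
    · refine ⟨⟨b, a, !c, d⟩, ?_⟩
      rw [hsw σe, mul_assoc (cond a f' 1) σ', hsw σf, ← mul_assoc, mul_assoc (_ * cond b e' 1) σ',
        hself σσ]
      congr 2
      cases a <;> cases b <;> simp [ef]
    · refine ⟨⟨a, b, c, !d⟩, ?_⟩
      rw [hsw ve, mul_assoc (cond a e' 1) v', hsw vf, ← mul_assoc, mul_assoc (_ * cond b f' 1) v',
        hsw cvσ.eq, ← mul_assoc, mul_assoc (_ * cond c σ' 1) v', hself vv']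
  let K : Subgroup H := closure {e', f', σ', v'}
  have hK : ∀ x, x ∈ K → ∃ w, W w = x := by
    intro x hx
    have key : ∀ y ∈ K, ∀ w, ∃ w', y * W w = W w' := by
      intro y hy
      induction hy using closure_induction with
      | mem y hy => exact hgen y (by simpa using hy)
      | one => exact fun w => ⟨w, one_mul _⟩
      | mul y y' _ _ h h' =>
        intro w
        obtain ⟨w1, e1⟩ := h' w
        obtain ⟨w2, e2⟩ := h w1
        exact ⟨w2, by rw [mul_assoc, e1, e2]⟩
      | inv y _ h =>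
        intro w
        choose m hm using h
        have hinj : Function.Injective m := fun w1 w2 e =>
          hWinj _ _ (congrArg Q6.π (mul_left_cancel (((hm w1).trans (congrArg W e)).trans (hm w2).symm)))
        obtain ⟨w', hw'⟩ := (Finite.injective_iff_surjective.1 hinj) w
        exact ⟨w', by rw [← hw', ← hm w', inv_mul_cancel_left]⟩
    obtain ⟨w', hw'⟩ := key x hx ⟨false, false, false, false⟩
    exact ⟨w', by rw [← hw']; simp [W]⟩
  have hWK : ∀ w, W w ∈ K := by
    rintro ⟨a, b, c, d⟩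
    have hc : ∀ (t : Bool) (g : H), g ∈ ({e', f', σ', v'} : Set H) → cond t g 1 ∈ K := fun t g hg => by
      cases t
      exacts [one_mem _, subset_closure hg]
    exact mul_mem (mul_mem (mul_mem (hc a _ (by simp)) (hc b _ (by simp))) (hc c _ (by simp)))
      (hc d _ (by simp))
  have hKcard : Nat.card K = 16 := by
    have : Function.Bijective (fun w => (⟨W w, hWK w⟩ : K)) :=
      ⟨fun w w' e => hWinj _ _ (congrArg Q6.π (congrArg Subtype.val e)),
        fun x => let ⟨w, hw⟩ := hK x x.2; ⟨w, Subtype.ext hw⟩⟩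
    rw [← Nat.card_congr (Equiv.ofBijective _ this)]
    simp
  have hsK : ∀ n, n ∈ zpowers s' → n ∈ K → n = 1 := by
    intro n hn hnK
    obtain ⟨w, rfl⟩ := hK n hnK
    have h1 : Q6.π (W w) = 1 := (Q6.ker _).2 (by
      obtain ⟨m, hm⟩ := mem_zpowers_iff.1 hn
      rw [← hm]; push_cast; exact zpow_mem (mem_zpowers _) _)
    have hw0 : W ⟨false, false, false, false⟩ = 1 := by simp [W]
    rw [hWinj w ⟨false, false, false, false⟩ (by rw [h1, hw0, map_one]), hw0]
  have hcomm : ∀ (x : K) (y : zpowers s'), Commute (K.subtype x) ((zpowers s').subtype y) := by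
    intro x y
    obtain ⟨m, hm⟩ := mem_zpowers_iff.1 y.2
    refine Subtype.ext ?_
    show ((x : H) : G) * ((y : H) : G) = ((y : H) : G) * ((x : H) : G)
    rw [← hm]; push_cast
    exact ((show Commute ((x : H) : G) S.s from mem_centralizer_singleton_iff.1 (x : H).2).zpow_right m).eq
  let μ := K.subtype.noncommCoprod (zpowers s').subtype hcomm
  have hμ : Function.Injective μ := by
    intro a b e
    change (a.1 : H) * a.2 = (b.1 : H) * b.2 at e
    have e2 : ((b.1 : H))⁻¹ * a.1 = (b.2 : H) * (a.2 : H)⁻¹ := by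
      rw [eq_mul_inv_iff_mul_eq, mul_assoc, e, inv_mul_cancel_left]
    have h1 := hsK _ (e2 ▸ mul_mem b.2.2 (inv_mem a.2.2)) (mul_mem (inv_mem b.1.2) a.1.2)
    have h2 : (a.1 : H) = b.1 := (inv_mul_eq_one.1 h1).symm
    rw [h2] at e
    exact Prod.ext (Subtype.ext h2) (Subtype.ext (mul_left_cancel e))
  let R := μ.range
  have hs'2 : orderOf s' = 2 := by
    refine orderOf_eq_prime ?_ (fun e => S.s_ne (congrArg Subtype.val e))
    rw [pow_two]; exact Subtype.ext S.s2
  have hRindex : R.index = 45 := by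
    have h1 := R.card_mul_index
    rw [Q6.index_two_card, show Nat.card R = 32 by
      rw [← Nat.card_congr (MonoidHom.ofInjective hμ).toEquiv, Nat.card_prod, hKcard,
        Nat.card_zpowers, hs'2]] at h1
    omega
  let ζ : ↥(zpowers s') ≃* Multiplicative (ZMod 2) :=
    mulEquivOfCyclicCardEq (by simp [Nat.card_zpowers, hs'2])
  let ψ : R →* Multiplicative (ZMod 2) :=
    ζ.toMonoidHom.comp ((MonoidHom.snd _ _).comp (MonoidHom.ofInjective hμ).symm.toMonoidHom)
  have hsR : ∀ k : ℕ, s' ^ k ∈ R := fun k => ⟨(1, ⟨s', mem_zpowers _⟩ ^ k), by simp [μ]⟩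
  have : R.FiniteIndex := inferInstance
  let T := MonoidHom.transfer ψ
  have hTs : T s' = ζ ⟨s', mem_zpowers _⟩ := by
    rw [MonoidHom.transfer_eq_pow (ϕ := ψ) s' fun k g₀ _ => by
      have hs : Commute g₀ s' := Subtype.ext (mem_centralizer_singleton_iff.1 g₀.2)
      have : Commute g₀ (s' ^ k) := hs.pow_right k
      rw [mul_assoc, ← this.eq, inv_mul_cancel_left]]
    have e : (MonoidHom.ofInjective hμ).symm ⟨s' ^ R.index, hsR _⟩ =
        (1, ⟨s', mem_zpowers _⟩ ^ R.index) := by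
      rw [MulEquiv.symm_apply_eq]
      exact Subtype.ext (by simp [MonoidHom.ofInjective_apply, μ])
    show ζ ((MonoidHom.ofInjective hμ).symm ⟨s' ^ R.index, _⟩).2 = _
    rw [e]
    show ζ (⟨s', mem_zpowers _⟩ ^ R.index) = _
    rw [hRindex, pow_succ, show (⟨s', mem_zpowers _⟩ : zpowers s') ^ 44 = 1 from
      Subtype.ext (by push_cast; rw [← pow_mod_orderOf, hs'2]; simp), one_mul]
  have hTs1 : T s' ≠ 1 := by
    rw [hTs]; intro e
    have := congrArg Subtype.val (ζ.map_eq_one_iff.1 e)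
    exact S.s_ne (congrArg Subtype.val this)
  let Φ : H →* Multiplicative (ZMod 2) × Perm (Fin 6) := T.prod Q6.π
  have hinj : Function.Injective Φ := by
    rw [injective_iff_map_eq_one]
    intro x hx
    obtain ⟨h1, h2⟩ := Prod.ext_iff.1 hx
    rcases S.mem_zpowers_s.1 ((Q6.ker _).1 h2) with e | e
    · exact Subtype.ext e
    · rw [show x = s' from Subtype.ext e] at h1
      exact absurd h1 hTs1
  have hbij : Function.Bijective Φ := (Nat.bijective_iff_injective_and_card _).2 ⟨hinj, by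
    rw [Q6.index_two_card, Nat.card_prod, Nat.card_eq_fintype_card, Nat.card_eq_fintype_card,
      Fintype.card_perm, Fintype.card_fin]
    rfl⟩
  exact ⟨MulEquiv.ofBijective Φ hbij⟩

end Proj

end CfsgLib.ThreeLocalS8
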