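import Mathlib.GroupTheory.OrderOfElement
import Mathlib.GroupTheory.FixedPointFree

/-!
# Two commuting automorphisms of order three

If `z`, `zα` and `z²α` are fixed-point-free on a group of order prime to three then `α` is trivial.
-/

set_option autoImplicit false

namespace CfsgLib.ThreeLocalS8

variable {N : Type*} [Group N] [Finite N]

theorem fpf_three (γ : N →* N) (h3 : ∀ a, γ (γ (γ a)) = a) (h : ∀ a, γ a = a → a = 1) (a : N) :
    a * γ a * γ (γ a) = 1 ∧ Commute a (γ a) ∧ Commute a (γ (γ a)) := by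
  have hinj : Function.Injective γ := Function.LeftInverse.injective (g := fun x => γ (γ x)) h3
  have key : ∀ δ : N →* N, (∀ a, δ (δ (δ a)) = a) → (∀ a, δ a = a → a = 1) →
      ∀ b, b * δ b * δ (δ b) = 1 := by
    intro δ d3 dh b
    have hc : Function.Injective fun x => x⁻¹ * δ x := fun x y e => by
      have : δ (y * x⁻¹) = y * x⁻¹ := by
        have e' : x⁻¹ * δ x = y⁻¹ * δ y := e
        rw [map_mul, map_inv, show δ y = y * (x⁻¹ * δ x) by rw [e', mul_inv_cancel_left]]
        group
      exact (mul_inv_eq_one.1 (dh _ this)).symm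
    obtain ⟨x, rfl⟩ := (Finite.injective_iff_surjective.1 hc) b
    show x⁻¹ * δ x * δ (x⁻¹ * δ x) * δ (δ (x⁻¹ * δ x)) = 1
    simp only [map_mul, map_inv, d3]
    group
  have h1 := key γ h3 h a
  have h2 := key (γ.comp γ) (fun b => by simp [h3]) (fun b e => by
    refine h b ?_
    have : γ (γ b) = b := e
    calc γ b = γ (γ (γ b)) := by rw [this]
      _ = b := h3 b) a
  simp only [MonoidHom.comp_apply, h3] at h2
  have ea : a⁻¹ = γ a * γ (γ a) := inv_eq_of_mul_eq_one_right (by rw [← mul_assoc]; exact h1)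
  have eb : a⁻¹ = γ (γ a) * γ a := inv_eq_of_mul_eq_one_right (by rw [← mul_assoc]; exact h2)
  have hcc : Commute (γ a) (γ (γ a)) := ea.symm.trans eb
  have hc : Commute a (γ a) := by
    have h' := ((Commute.refl (γ a)).mul_left hcc.symm).inv_left
    rwa [← ea, inv_inv] at h'
  refine ⟨h1, hc, ?_⟩
  have h' := (hcc.mul_left (Commute.refl (γ (γ a)))).inv_left
  rwa [← ea, inv_inv] at h'

/-- The automorphism `α` is trivial. -/
theorem trivial_of_three (h3 : ¬ 3 ∣ Nat.card N) (z α : N →* N) (z3 : ∀ a, z (z (z a)) = a)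
    (α3 : ∀ a, α (α (α a)) = a) (hc : ∀ a, z (α a) = α (z a)) (hz : ∀ a, z a = a → a = 1)
    (hza : ∀ a, z (α a) = a → a = 1) (hzza : ∀ a, z (z (α a)) = a → a = 1) (a : N) : α a = a := by
  have γ1 := fun b => fpf_three (z.comp α) (fun x => by simp [hc, z3, α3]) hza b
  have γ2 := fun b => fpf_three ((z.comp z).comp α) (fun x => by simp [hc, z3, α3]) hzza b
  have hzr := fun b => fpf_three z z3 hz b
  simp only [MonoidHom.comp_apply] at γ1 γ2
  -- `a` commutes with `α a` and with `z (α a)`
  have c1 : ∀ b, Commute b (z (α b)) := fun b => (γ1 b).2.1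
  have c2 : ∀ b, Commute b (z (z (α b))) := fun b => (γ2 b).2.1
  have c0 : ∀ b, Commute b (α b) := fun b => by
    have e := (hzr (α b)).1
    rw [mul_assoc] at e
    rw [show α b = (z (α b) * z (z (α b)))⁻¹ from eq_inv_of_mul_eq_one_left e]
    exact ((c1 b).mul_right (c2 b)).inv_right
  set q := α a with hq
  set r := α q with hr
  have hαr : α r = a := α3 a
  have c_ar : Commute a r := by
    have := c0 r; rw [hαr] at this; exact this.symm
  have A : z (z r) = (z q)⁻¹ * a⁻¹ := by
    have e := (γ1 a).1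
    simp only [hc, ← hq, ← hr] at e
    rw [show α (z (z q)) = z (z r) by rw [← hc, ← hc, hr]] at e
    rw [← mul_inv_rev]; exact (inv_eq_of_mul_eq_one_right e).symm
  have A' : z r = (z (z q))⁻¹ * a⁻¹ := by
    have e := (γ2 a).1
    simp only [hc, ← hq, ← hr] at e
    rw [z3, show α (z q) = z r by rw [← hc, hr]] at e
    rw [← mul_inv_rev]; exact (inv_eq_of_mul_eq_one_right e).symm
  have B : z (z r) = (z r)⁻¹ * r⁻¹ := by
    rw [← mul_inv_rev]; exact (inv_eq_of_mul_eq_one_right (hzr r).1).symm
  have C : (z (z q))⁻¹ = q * z q := (eq_inv_of_mul_eq_one_left (hzr q).1).symm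
  have e1 : r * z r = a * z q := by
    have := congrArg (·⁻¹) (B.symm.trans A)
    simpa using this
  rw [A', C] at e1
  -- `r q zq a⁻¹ = a zq`
  have e2 : r * q * z q = a * a * z q := by
    calc r * q * z q = r * (q * z q * a⁻¹) * a := by group
      _ = a * z q * a := by rw [e1]
      _ = a * (z q * a) := by group
      _ = a * a * z q := by rw [hq, ← (c1 a).eq]; group
  have e3 : r * q = a * a := mul_right_cancel e2
  have e4 : a * r = q * q := by
    have := congrArg α e3
    rwa [map_mul, map_mul, hαr, ← hr, ← hq] at this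
  have e5 : a * a * a = q * q * q := by
    calc a * a * a = a * (a * a) := by group
      _ = a * (r * q) := by rw [e3]
      _ = q * q * q := by rw [← mul_assoc, e4]
  have haq : Commute a q := c0 a
  have h6 : (q⁻¹ * a) ^ 3 = 1 := by
    rw [haq.symm.inv_left.mul_pow, pow_three', pow_three', e5]
    group
  have h7 : orderOf (q⁻¹ * a) = 1 := by
    rcases (Nat.dvd_prime Nat.prime_three).1 (orderOf_dvd_of_pow_eq_one h6) with e | e
    · exact e
    · exact absurd (e ▸ orderOf_dvd_natCard (q⁻¹ * a)) h3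
  exact inv_mul_eq_one.1 (orderOf_eq_one_iff.1 h7)

end CfsgLib.ThreeLocalS8
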