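import Cfsg.Agent.Lib.Recognition.ThreeLocalS8.Four
import Cfsg.Agent.Lib.Recognition.ThreeLocalS8.ThreeFree
import Cfsg.Agent.Lib.Perm.ZGroup.Simple
import Cfsg.Agent.S3331
import Mathlib.GroupTheory.PGroup

/-!
# `d = i₅ (0 3 4)` acts trivially on `C(V)/V`, where it matters

`z` is self-centralising in `K = C(V)/V`; `z^{±1} d` has no fixed points outside `⟨z⟩`; so `d`
centralises every `⟨z, d⟩`-invariant subgroup of order prime to three.
-/

set_option autoImplicit false
set_option linter.unusedSectionVars false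
set_option maxRecDepth 20000
set_option maxHeartbeats 1000000

namespace CfsgLib.ThreeLocalS8

open Equiv Subgroup
open scoped Pointwise

theorem cent_Four : ∀ q : Perm (Fin 5), q * q0 = q0 * q → q * q1 = q1 * q →
    q = 1 ∨ q = q0 ∨ q = q1 ∨ q = q0 * q1 := by
  decide +kernel

theorem four_solve : ∀ w : Perm (Fin 5), w = 1 ∨ w = q0 ∨ w = q1 ∨ w = q0 * q1 →
    ∃ v : Perm (Fin 5), (v = 1 ∨ v = q0 ∨ v = q1 ∨ v = q0 * q1) ∧ w * (c2 * v * c2⁻¹) = v := by
  decide +kernel

theorem c2_conj_Four : ∀ v : Perm (Fin 5), (v = 1 ∨ v = q0 ∨ v = q1 ∨ v = q0 * q1) →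
    (c2 * v * c2⁻¹ = 1 ∨ c2 * v * c2⁻¹ = q0 ∨ c2 * v * c2⁻¹ = q1 ∨ c2 * v * c2⁻¹ = q0 * q1) := by
  decide +kernel

set_option synthInstance.maxSize 4000 in
set_option synthInstance.maxHeartbeats 400000 in
set_option maxHeartbeats 2000000 in
theorem five_klein : ∀ e : Perm (Fin 5), Equiv.Perm.sign e = 1 → e ≠ 1 → e * e = 1 →
    ∀ a : Perm (Fin 5), Equiv.Perm.sign a = 1 → a * e = e * a → a ≠ 1 → a ≠ e →
    ∀ b : Perm (Fin 5), Equiv.Perm.sign b = 1 → b * e = e * b → b ≠ 1 → b ≠ e →
      b = a ∨ b = a * e := by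
  decide +kernel

theorem perm5_seven : ∀ q : Perm (Fin 5), q ^ 7 = 1 → q = 1 := by decide +kernel

theorem perm3_seven : ∀ q : Perm (Fin 3), q ^ 7 = 1 → q = 1 := by decide +kernel

variable {G : Type*} [Group G] [Finite G] (S : Data G) (hb : S.b = t01 * t34)

include hb

/-- `d` centralises modulo `V` every element of `C(V)` that commutes with `e`, and all of `C(V)` as soon
as `C(V)` contains `σ A σ` centralised by `d`. -/
theorem Data.centV_fix {g : G} (hg : g ∈ centralizer (S.V : Set G))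
    (hcase : Commute g S.e ∨ ∀ q ∈ alternatingGroup (Fin 5),
      S.j5 q ∈ centralizer (S.V : Set G) ∧ Commute (S.j5 q) S.d) :
    ∃ v ∈ S.V, Commute (g * v) S.d := by
  classical
  set W := centralizer (S.V : Set G) with hW
  have hVcomm : ∀ {x y : G}, x ∈ S.V → y ∈ S.V → Commute x y := by
    intro x y hx hy
    obtain ⟨q, hq, rfl⟩ := S.mem_V.1 hx
    obtain ⟨r, hr, rfl⟩ := S.mem_V.1 hy
    rw [commute_iff_eq, ← map_mul, ← map_mul]
    refine congrArg S.i5 ?_
    rcases mem_Four.1 hq with rfl | rfl | rfl | rfl <;>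
      rcases mem_Four.1 hr with rfl | rfl | rfl | rfl <;> decide
  have hVW : S.V ≤ W := fun x hx => mem_centralizer_iff.2 fun y hy => (hVcomm hy hx).eq
  have hV2 : ∀ {v}, v ∈ S.V → v * v = 1 := by
    intro v hv
    obtain ⟨q, hq, rfl⟩ := S.mem_V.1 hv
    rw [← map_mul, show q * q = 1 by rcases mem_Four.1 hq with rfl | rfl | rfl | rfl <;> decide,
      map_one]
  have hzW : S.z ∈ W := mem_centralizer_iff.2 fun y hy => by
    obtain ⟨q, -, rfl⟩ := S.mem_V.1 hy; exact (S.comm rho q).symm.eq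
  have heW : S.e ∈ W := mem_centralizer_iff.2 fun y hy => by
    obtain ⟨q, -, rfl⟩ := S.mem_V.1 hy; exact (S.comm tau q).symm.eq
  have hdV : ∀ {v}, v ∈ S.V → S.d * v * S.d⁻¹ ∈ S.V := by
    intro v hv
    obtain ⟨q, hq, rfl⟩ := S.mem_V.1 hv
    rw [show S.d = S.i5 c2 from rfl, ← map_inv, ← map_mul, ← map_mul]
    exact mem_map_of_mem _ (mem_Four.2 (c2_conj_Four q (mem_Four.1 hq)))
  have hdW : ∀ {x}, x ∈ W → S.d * x * S.d⁻¹ ∈ W := by
    intro x hx
    refine mem_centralizer_iff.2 fun y hy => ?_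
    have hy' : S.d⁻¹ * y * S.d ∈ S.V := by
      have hn : S.d ∈ normalizer (S.V : Set G) := mem_normalizer_of_conj_mem fun d hd => hdV hd
      have := (mem_normalizer_iff.1 (inv_mem hn) y).1 hy
      rwa [inv_inv] at this
    have := mem_centralizer_iff.1 hx _ hy'
    calc y * (S.d * x * S.d⁻¹) = S.d * (S.d⁻¹ * y * S.d * x) * S.d⁻¹ := by group
      _ = S.d * (x * (S.d⁻¹ * y * S.d)) * S.d⁻¹ := by rw [this]
      _ = _ := by group
  set Vw := S.V.subgroupOf W with hVw
  have hVn : Vw.Normal := ⟨fun x hx y => by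
    have hc : Commute (y : G) x := (mem_centralizer_iff.1 y.2 _ (mem_subgroupOf.1 hx)).symm
    refine mem_subgroupOf.2 ?_
    push_cast
    rw [hc.eq, mul_inv_cancel_right]
    exact mem_subgroupOf.1 hx⟩
  let mk := QuotientGroup.mk' Vw
  have hmk : ∀ {x y : W}, mk x = mk y → ∃ v ∈ S.V, (y : G) = x * v := fun {x y} e =>
    ⟨(x : G)⁻¹ * y, mem_subgroupOf.1 (QuotientGroup.eq.1 e), by group⟩
  let zW : W := ⟨S.z, hzW⟩
  let eW : W := ⟨S.e, heW⟩
  have hcentz : ∀ {x : W}, Commute (x : G) S.z → mk x ∈ zpowers (mk zW) := by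
    intro x hx
    obtain ⟨a, q, e, ha⟩ := S.cent_z hx
    have hc : ∀ r ∈ Four, q * r = r * q := fun r hr => by
      have := mem_centralizer_iff.1 x.2 _ (mem_map_of_mem S.i5 hr)
      rw [e, show S.i5 r = S.i3 1 * S.i5 r by simp, S.mul_pair, S.mul_pair] at this
      exact (S.pair.1 this).2.symm
    have hq : q ∈ Four := mem_Four.2 (cent_Four q (hc _ (mem_Four.2 (Or.inr (Or.inl rfl))))
      (hc _ (mem_Four.2 (Or.inr (Or.inr (Or.inl rfl))))))
    have hqV : S.i5 q ∈ S.V := mem_map_of_mem _ hq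
    have hex : ∃ n : ℤ, S.i3 a = S.z ^ n := by
      rcases ha with rfl | rfl | rfl
      exacts [⟨0, by simp⟩, ⟨1, (zpow_one _).symm⟩, ⟨2, by rw [zpow_two, map_mul]; rfl⟩]
    obtain ⟨n, hn⟩ := hex
    refine mem_zpowers_iff.2 ⟨n, ?_⟩
    rw [← map_zpow]
    refine QuotientGroup.eq.2 (mem_subgroupOf.2 ?_)
    push_cast
    rw [e, ← hn, inv_mul_cancel_left]
    exact hqV
  have hzK : mk zW ≠ 1 := fun e => by
    have hzV : S.z ∈ S.V := mem_subgroupOf.1 ((QuotientGroup.eq_one_iff _).1 e)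
    apply S.z_ne
    calc S.z = S.z * (S.z * S.z) := by rw [hV2 hzV, mul_one]
      _ = 1 := by rw [← mul_assoc, S.z3]
  have hzK3 : mk zW * mk zW * mk zW = 1 := by
    rw [← map_mul, ← map_mul, show zW * zW * zW = 1 from Subtype.ext S.z3, map_one]
  have hself : ∀ k, Commute k (mk zW) → k ∈ zpowers (mk zW) := by
    intro k hk
    obtain ⟨x, rfl⟩ := QuotientGroup.mk'_surjective Vw k
    have h : mk (x * zW * x⁻¹) = mk zW := by
      rw [map_mul, map_mul, map_inv, hk.eq, mul_inv_cancel_right]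
    obtain ⟨v, hv, e⟩ := hmk h.symm
    push_cast at e
    change (x : G) * S.z * (x : G)⁻¹ = S.z * v at e
    have hzv : Commute S.z v := mem_centralizer_iff.1 hzW v hv |>.symm
    have hv1 : v = 1 := by
      have h1 : (S.z * v) ^ 3 = 1 := by
        rw [← e, conj_pow, pow_three', S.z3]; group
      rw [hzv.mul_pow, pow_three', pow_three', S.z3, one_mul, hV2 hv, one_mul] at h1
      exact h1
    rw [hv1, mul_one] at e
    exact hcentz (mul_inv_eq_iff_eq_mul.1 e)
  have hX : Nat.card (zpowers (mk zW)) = 3 := by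
    have : Fact (Nat.Prime 3) := ⟨Nat.prime_three⟩
    rw [Nat.card_zpowers]
    exact orderOf_eq_prime (by rw [pow_three']; exact hzK3) hzK
  have hXC : centralizer ((zpowers (mk zW) : Subgroup (W ⧸ Vw)) : Set (W ⧸ Vw)) = zpowers (mk zW) := by
    refine le_antisymm (fun k hk => hself k (mem_centralizer_iff.1 hk _ (mem_zpowers _)).symm) ?_
    intro k hk
    refine mem_centralizer_iff.2 fun y hy => ?_
    obtain ⟨m, rfl⟩ := mem_zpowers_iff.1 hy
    obtain ⟨n, rfl⟩ := mem_zpowers_iff.1 hk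
    exact (Commute.zpow_zpow_self _ m n).eq
  -- the two automorphisms
  let cW : W →* W := ((MulAut.conj S.d).toMonoidHom.comp W.subtype).codRestrict W fun x => hdW x.2
  have hcW : ∀ x : W, (cW x : G) = S.d * x * S.d⁻¹ := fun _ => rfl
  let α : W ⧸ Vw →* W ⧸ Vw := QuotientGroup.map Vw Vw cW fun x hx => hdV hx
  let ζ : W ⧸ Vw →* W ⧸ Vw := (MulAut.conj (mk zW)).toMonoidHom
  have hαmk : ∀ x, α (mk x) = mk (cW x) := fun _ => rfl
  have hd3 : S.d * S.d * S.d = 1 := by
    rw [show S.d = S.i5 c2 from rfl, ← map_mul, ← map_mul, c2_three, map_one]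
  have hα3 : ∀ k, α (α (α k)) = k := fun k => by
    obtain ⟨x, rfl⟩ := QuotientGroup.mk'_surjective Vw k
    rw [hαmk, hαmk, hαmk]
    refine congrArg mk (Subtype.ext ?_)
    rw [hcW, hcW, hcW]
    calc _ = S.d * S.d * S.d * (x : G) * (S.d * S.d * S.d)⁻¹ := by group
      _ = x := by rw [hd3]; group
  have hαz : α (mk zW) = mk zW := by
    refine congrArg mk (Subtype.ext ?_)
    show S.d * S.z * S.d⁻¹ = S.z
    rw [show S.d * S.z = S.z * S.d from (S.comm rho c2).symm.eq, mul_inv_cancel_right]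
  have hαe : α (mk eW) = mk eW := by
    refine congrArg mk (Subtype.ext ?_)
    show S.d * S.e * S.d⁻¹ = S.e
    rw [show S.d * S.e = S.e * S.d from (S.comm tau c2).symm.eq, mul_inv_cancel_right]
  have hζ : ∀ k, ζ k = mk zW * k * (mk zW)⁻¹ := fun _ => rfl
  have hζ3 : ∀ k, ζ (ζ (ζ k)) = k := fun k => by
    rw [hζ, hζ, hζ]
    calc _ = mk zW * mk zW * mk zW * k * (mk zW * mk zW * mk zW)⁻¹ := by group
      _ = k := by rw [hzK3]; group
  have hcomm : ∀ k, ζ (α k) = α (ζ k) := fun k => by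
    rw [hζ, hζ, map_mul, map_mul, map_inv, hαz]
  have hadjust : ∀ {δ : G}, (∀ v ∈ S.V, δ * v * δ⁻¹ = S.d * v * S.d⁻¹) → ∀ x : W, ∀ w ∈ S.V,
      δ * x * δ⁻¹ = x * w → ∃ v ∈ S.V, Commute ((x : G) * v) δ := by
    intro δ hδ x w hw e
    obtain ⟨q, hq, rfl⟩ := S.mem_V.1 hw
    obtain ⟨v, hv, hv'⟩ := four_solve q (mem_Four.1 hq)
    refine ⟨S.i5 v, mem_map_of_mem _ (mem_Four.2 hv), (mul_inv_eq_iff_eq_mul.1 ?_).symm⟩
    calc δ * ((x : G) * S.i5 v) * δ⁻¹ = δ * x * δ⁻¹ * (δ * S.i5 v * δ⁻¹) := by group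
      _ = (x : G) * S.i5 (q * (c2 * v * c2⁻¹)) := by
        rw [e, hδ _ (mem_map_of_mem _ (mem_Four.2 hv)), map_mul, map_mul, map_mul, map_inv, mul_assoc]
        rfl
      _ = _ := by rw [hv']
  have hlift : ∀ x : W, α (mk x) = mk x → ∃ v ∈ S.V, Commute ((x : G) * v) S.d := by
    intro x hx
    obtain ⟨w, hw, e⟩ := hmk hx.symm
    exact hadjust (fun _ _ => rfl) x w hw e
  have hmixed : ∀ {a : Perm (Fin 3)}, (a = rho ∨ a = rho * rho) → ∀ k,
      (∀ x : W, mk x = k → ∃ w ∈ S.V, S.i3 a * S.d * x * (S.i3 a * S.d)⁻¹ = (x : G) * w) →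
      k ∈ zpowers (mk zW) := by
    intro a ha k hk
    obtain ⟨x, rfl⟩ := QuotientGroup.mk'_surjective Vw k
    obtain ⟨w, hw, e⟩ := hk x rfl
    obtain ⟨v, hv, hc⟩ := hadjust (δ := S.i3 a * S.d) (fun y hy => by
      have h' := hdV hy
      obtain ⟨r, -, er⟩ := S.mem_V.1 h'
      calc S.i3 a * S.d * y * (S.i3 a * S.d)⁻¹ = S.i3 a * (S.d * y * S.d⁻¹) * (S.i3 a)⁻¹ := by group
        _ = _ := by rw [← er, (S.comm a r).eq, mul_inv_cancel_right]) x w hw e
    set h := (x : G) * v with hh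
    have hhW : h ∈ W := mul_mem x.2 (hVW hv)
    have hxk : mk ⟨h, hhW⟩ = mk x := (QuotientGroup.eq.2 (mem_subgroupOf.2 (by
      push_cast; rw [hh, inv_mul_cancel_left]; exact hv))).symm
    show mk x ∈ _
    rw [← hxk]
    refine hcentz ?_
    -- move `d` to `c`
    set r := S.i5 r2 with hr
    set n := r⁻¹ * h * r with hn
    have hrd : r * S.c * r⁻¹ = S.d := by
      rw [hr, show S.c = S.i5 cyc from rfl, ← map_inv, ← map_mul, ← map_mul, r2_conj]; rfl
    have hrz : r * S.z * r⁻¹ = S.z := by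
      rw [show r * S.z = S.z * r from (S.comm rho r2).symm.eq, mul_inv_cancel_right]
    have hra : Commute r (S.i3 a) := (S.comm a r2).symm
    have hnm : Commute n (S.i3 a * S.i5 cyc) := by
      have e1 : r⁻¹ * (S.i3 a * S.d) * r = S.i3 a * S.i5 cyc := by
        rw [← hrd, ← mul_assoc r⁻¹, (hra.inv_left).eq, show S.c = S.i5 cyc from rfl]; group
      have h2 := hc.map (MulAut.conj r⁻¹).toMonoidHom
      simp only [MulEquiv.coe_toMonoidHom, MulAut.conj_apply, inv_inv] at h2
      rwa [e1, ← hn] at h2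
    have hnN := S.cent_mixed ha (Or.inl rfl) hnm
    have hnz := S.conj_z ((mem_normalizer_iff.1 hnN _).1 S.z_mem)
    have hrz' : ∀ {w : G}, n * S.z * n⁻¹ = w → h * S.z * h⁻¹ = r * w * r⁻¹ := fun {w} e => by
      rw [← e, hn]
      conv_lhs => rw [← hrz]
      group
    rcases hnz with e' | e' | e' | e'
    · exact mul_inv_eq_iff_eq_mul.1 ((hrz' e').trans hrz)
    · exfalso
      -- `d` would go to a mixed element
      have hza : h * S.i3 a * h⁻¹ = S.i3 (a * a) := by
        have hz2 : h * S.z * h⁻¹ = S.z * S.z := by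
          rw [hrz' e', show r * (S.z * S.z) * r⁻¹ = r * S.z * r⁻¹ * (r * S.z * r⁻¹) by group, hrz]
        rcases ha with rfl | rfl
        · rw [map_mul]; exact hz2
        · rw [map_mul, show h * (S.i3 rho * S.i3 rho) * h⁻¹ = h * S.i3 rho * h⁻¹ * (h * S.i3 rho * h⁻¹) by
            group, show S.i3 rho = S.z from rfl, hz2, map_mul, map_mul]
          rfl
      have hdd : (r⁻¹ * h * r) * S.c * (r⁻¹ * h * r)⁻¹ = S.i3 (a * a * a⁻¹ * a⁻¹ * (a * a)) * S.i5 cyc := by
        have hd' : h * S.d * h⁻¹ = S.i3 (a * a)⁻¹ * S.i3 a * S.d := by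
          have h2 : h * (S.i3 a * S.d) * h⁻¹ = S.i3 a * S.d := by rw [hc.eq, mul_inv_cancel_right]
          calc h * S.d * h⁻¹ = (h * S.i3 a * h⁻¹)⁻¹ * (h * (S.i3 a * S.d) * h⁻¹) := by group
            _ = _ := by rw [hza, h2, map_inv, mul_assoc]
        calc r⁻¹ * h * r * S.c * (r⁻¹ * h * r)⁻¹ = r⁻¹ * (h * (r * S.c * r⁻¹) * h⁻¹) * r := by group
          _ = r⁻¹ * (S.i3 ((a * a)⁻¹ * a) * (r * S.c * r⁻¹)) * r := by
            rw [hrd, hd', map_mul]
          _ = S.i3 ((a * a)⁻¹ * a) * S.c := by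
            rw [← mul_assoc r⁻¹, ((S.comm _ r2).symm.inv_left).eq, ← hr]; group
          _ = _ := by
            rw [show (a * a)⁻¹ * a = a * a * a⁻¹ * a⁻¹ * (a * a) from by
              rcases ha with rfl | rfl <;> decide]
            rfl
      have hbad : a * a * a⁻¹ * a⁻¹ * (a * a) = rho ∨ a * a * a⁻¹ * a⁻¹ * (a * a) = rho * rho := by
        rcases ha with rfl | rfl <;> decide
      refine S.not_conj (r⁻¹ * h * r * S.σ) (d := S.i3 (a * a * a⁻¹ * a⁻¹ * (a * a)) * S.i5 cyc)
        (fun t ht => S.cent_mixed hbad (Or.inl rfl) (mem_centralizer_singleton_iff.1 ht)) ?_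
      rw [← hdd, ← S.σz']
      simp only [mul_inv_rev, S.σinv, mul_assoc]
    all_goals
      exfalso
      have hin : h * S.z * h⁻¹ ∈ W := mul_mem (mul_mem hhW hzW) (inv_mem hhW)
      rw [hrz' e'] at hin
      have hq0 := mem_centralizer_iff.1 hin _ (S.f_mem_V hb)
      first
        | (rw [hrd, S.f_eq hb, show S.d = S.i5 c2 from rfl, ← map_mul, ← map_mul] at hq0
           exact absurd (S.i5_inj hq0) (by decide))
        | (rw [show r * (S.c * S.c) * r⁻¹ = r * S.c * r⁻¹ * (r * S.c * r⁻¹) by group, hrd, S.f_eq hb,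
            show S.d = S.i5 c2 from rfl, ← map_mul, ← map_mul, ← map_mul] at hq0
           exact absurd (S.i5_inj hq0) (by decide))
  have hfree1 : ∀ k, ζ (α k) = k → k ∈ zpowers (mk zW) := fun k hk => hmixed (Or.inl rfl) k fun x hx => by
    subst hx
    rw [hαmk, hζ, ← map_inv, ← map_mul, ← map_mul] at hk
    obtain ⟨w, hw, e⟩ := hmk hk.symm
    refine ⟨w, hw, ?_⟩
    rw [← e]; push_cast; rw [hcW]
    change S.z * S.d * (x : G) * (S.z * S.d)⁻¹ = S.z * (S.d * (x : G) * S.d⁻¹) * S.z⁻¹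
    group
  have hfree2 : ∀ k, ζ (ζ (α k)) = k → k ∈ zpowers (mk zW) := fun k hk => hmixed (Or.inr rfl) k fun x hx => by
    subst hx
    rw [hαmk, hζ, hζ, ← map_inv, ← map_mul, ← map_mul, ← map_mul, ← map_mul] at hk
    obtain ⟨w, hw, e⟩ := hmk hk.symm
    refine ⟨w, hw, ?_⟩
    rw [← e]; push_cast; rw [hcW, map_mul]
    change S.z * S.z * S.d * (x : G) * (S.z * S.z * S.d)⁻¹ =
      S.z * (S.z * (S.d * (x : G) * S.d⁻¹) * S.z⁻¹) * S.z⁻¹
    group
  have hsub : ∀ M : Subgroup (W ⧸ Vw), (∀ m ∈ M, ζ m ∈ M) → (∀ m ∈ M, α m ∈ M) → ¬ 3 ∣ Nat.card M →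
      ∀ m ∈ M, α m = m := by
    intro M hMz hMa h3 m hm
    have hone : ∀ k : M, (k : W ⧸ Vw) ∈ zpowers (mk zW) → k = 1 := by
      intro k hk
      have h1 : orderOf (k : W ⧸ Vw) ∣ 3 := by
        rw [← hX]; simpa using orderOf_dvd_natCard (⟨_, hk⟩ : zpowers (mk zW))
      rcases (Nat.dvd_prime Nat.prime_three).1 h1 with e | e
      · exact Subtype.ext (orderOf_eq_one_iff.1 e)
      · exfalso
        have := orderOf_dvd_natCard k
        rw [← orderOf_coe, e] at this
        exact h3 this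
    let zM : M →* M := (ζ.comp M.subtype).codRestrict M fun x => hMz x x.2
    let aM : M →* M := (α.comp M.subtype).codRestrict M fun x => hMa x x.2
    have := trivial_of_three h3 zM aM (fun x => Subtype.ext (hζ3 x)) (fun x => Subtype.ext (hα3 x))
      (fun x => Subtype.ext (hcomm x))
      (fun x hx => hone x (hself _ (mul_inv_eq_iff_eq_mul.1 (congrArg Subtype.val hx)).symm))
      (fun x hx => hone x (hfree1 _ (congrArg Subtype.val hx)))
      (fun x hx => hone x (hfree2 _ (congrArg Subtype.val hx))) ⟨m, hm⟩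
    exact congrArg Subtype.val this
  -- a quotient modulo a fixed subgroup
  have hquot : ∀ N : Subgroup (W ⧸ Vw), N.Normal → (∀ n ∈ N, α n = n) → ¬ 3 ∣ Nat.card N →
      ∀ k, (α k)⁻¹ * k ∈ N → α k = k := by
    intro N _ hfix h3 k hk
    set n := (α k)⁻¹ * k with hn
    have e1 : α k = k * n⁻¹ := by rw [hn]; group
    have e3 := hα3 k
    rw [e1, map_mul, map_inv, hfix n hk, e1, map_mul, map_mul, map_inv, hfix n hk, e1] at e3
    have hn3 : n ^ 3 = 1 := by
      have : k * (n⁻¹ * n⁻¹ * n⁻¹) = k := by rw [← mul_assoc, ← mul_assoc]; exact e3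
      have h' := mul_eq_left.1 this
      rw [← inv_eq_one, ← inv_pow, pow_three']
      exact h'
    have hone : n = 1 := by
      rcases (Nat.dvd_prime Nat.prime_three).1 (orderOf_dvd_of_pow_eq_one hn3) with e | e
      · exact orderOf_eq_one_iff.1 e
      · exfalso
        have := orderOf_dvd_natCard (⟨n, hk⟩ : N)
        rw [orderOf_mk, e] at this
        exact h3 this
    rw [e1, hone, inv_one, mul_one]
  let x0 : W := ⟨g, hg⟩
  suffices hfin : α (mk x0) = mk x0 from hlift x0 hfin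
  have hez : mk eW * mk zW * mk eW = mk zW * mk zW := by
    rw [← map_mul, ← map_mul, ← map_mul]; exact congrArg mk (Subtype.ext S.ez)
  have hz_not : ∀ N : Subgroup (W ⧸ Vw), ¬ 3 ∣ Nat.card N → mk zW ∉ N := fun N h3 hm => by
    refine h3 ?_
    have h := card_dvd_of_le ((zpowers_le).2 hm)
    rwa [hX] at h
  rcases Cfsg.Agent.S3331.result (zpowers (mk zW)) hX hXC with
    ⟨N, hN, -, hcop, hQ⟩ | ⟨N, hN, -, hN2, ⟨ψ⟩⟩ | ⟨ψ⟩
  · -- the quotient has order dividing six, and is generated by the images of `z` and `e`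
    have h3 : ¬ 3 ∣ Nat.card N := fun h => by
      have := Nat.dvd_gcd h (dvd_refl 3); rw [hcop] at this; norm_num at this
    let π : W ⧸ Vw →* (W ⧸ Vw) ⧸ N := QuotientGroup.mk' N
    set zq := π (mk zW) with hzq
    set eq' := π (mk eW) with heq'
    have hzq1 : zq ≠ 1 := fun e => hz_not N h3 ((QuotientGroup.eq_one_iff _).1 e)
    have hzq3 : zq * zq * zq = 1 := by rw [hzq, ← map_mul, ← map_mul, hzK3, map_one]
    have hinv : eq' * zq * eq' = zq * zq := by
      have h := congrArg π hez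
      rwa [map_mul, map_mul, map_mul] at h
    have hcover : ∀ y, y ∈ zpowers zq ∨ y * eq' ∈ zpowers zq := by
      have hcard : Nat.card (zpowers zq) = 3 := by
        have : Fact (Nat.Prime 3) := ⟨Nat.prime_three⟩
        rw [Nat.card_zpowers]
        exact orderOf_eq_prime (by rw [pow_three']; exact hzq3) hzq1
      rcases hQ with e | ψ
      · intro y
        left
        rw [eq_top_of_card_eq (zpowers zq) (by rw [hcard, e])]
        trivial
      · have h2 : (zpowers zq).index = 2 := by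
          have := (zpowers zq).card_mul_index
          rw [hcard, Nat.card_congr ψ.some.toEquiv, Nat.card_eq_fintype_card, Fintype.card_perm,
            Fintype.card_fin, show Nat.factorial 3 = 6 from rfl] at this
          omega
        intro y
        by_cases hy : y ∈ zpowers zq
        · exact Or.inl hy
        refine Or.inr ((mul_mem_iff_of_index_two h2).2 (iff_of_false hy fun hm => ?_))
        obtain ⟨j, hj⟩ := mem_zpowers_iff.1 hm
        have hc : Commute eq' zq := hj ▸ (Commute.refl zq).zpow_left j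
        have he2 : eq' * eq' = 1 := by
          rw [heq', ← map_mul, ← map_mul, show eW * eW = 1 from Subtype.ext S.e2, map_one, map_one]
        rw [hc.eq, mul_assoc, he2, mul_one] at hinv
        exact hzq1 (mul_left_cancel (a := zq) (by rw [mul_one]; exact hinv.symm))
    have hord : ∀ m ∈ N, ∀ y, y ∈ zpowers zq → π (α m) = y → y = 1 := by
      intro m hm y hy e
      have h1 : orderOf y ∣ Nat.card N := by
        rw [← e]
        exact ((orderOf_map_dvd π _).trans (orderOf_map_dvd α m)).trans (N.orderOf_dvd_natCard hm)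
      have h2 : orderOf y ∣ 3 := by
        refine orderOf_dvd_of_pow_eq_one ?_
        obtain ⟨j, rfl⟩ := mem_zpowers_iff.1 hy
        rw [← zpow_natCast, zpow_comm, zpow_natCast, pow_three', hzq3, one_zpow]
      rcases (Nat.dvd_prime Nat.prime_three).1 h2 with e' | e'
      · exact orderOf_eq_one_iff.1 e'
      · exact absurd (e' ▸ h1) h3
    have hNa : ∀ m ∈ N, α m ∈ N := by
      intro m hm
      refine (QuotientGroup.eq_one_iff _).1 ?_
      show π (α m) = 1
      rcases hcover (π (α m)) with h | h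
      · exact hord m hm _ h rfl
      · exfalso
        obtain ⟨j, hj⟩ := mem_zpowers_iff.1 h
        -- the commutator with `z` would be a non-trivial power of the image of `z`
        have hcm : ζ m * m⁻¹ ∈ N := mul_mem (hN.conj_mem m hm _) (inv_mem hm)
        have hy : π (α m) = zq ^ j * eq'⁻¹ := by rw [hj, mul_inv_cancel_right]
        have he' : eq'⁻¹ = eq' := inv_eq_of_mul_eq_one_right (by
          rw [heq', ← map_mul, ← map_mul, show eW * eW = 1 from Subtype.ext S.e2, map_one, map_one])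
        have hval : π (α (ζ m * m⁻¹)) = zq⁻¹ := by
          have hz' : π (α (mk zW)) = zq := by rw [hαz]
          simp only [hζ, map_mul, map_inv, hz', hy, he', mul_inv_rev]
          calc zq * (zq ^ j * eq') * zq⁻¹ * (eq' * (zq ^ j)⁻¹)
              = zq ^ j * (zq * (eq' * zq * eq')⁻¹) * (zq ^ j)⁻¹ := by
                rw [show (eq' * zq * eq')⁻¹ = eq' * zq⁻¹ * eq' by
                  simp [mul_assoc, he']]
                group
            _ = zq⁻¹ := by rw [hinv]; group
        have := hord _ hcm zq⁻¹ (inv_mem (mem_zpowers _)) hval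
        exact hzq1 (inv_eq_one.1 this)
    have hfix := hsub N (fun m hm => hN.conj_mem m hm _) hNa h3
    have hkey : ∀ (w : W ⧸ Vw), α w = w → ∀ k, (w⁻¹ * k) ∈ N → α k = k := fun w hw k hk => by
      have := hfix _ hk
      rw [map_mul, map_inv, hw] at this
      exact mul_left_cancel this
    rcases hcover (π (mk x0)) with h | h
    · obtain ⟨j, hj⟩ := mem_zpowers_iff.1 h
      refine hkey (mk zW ^ j) (by rw [map_zpow, hαz]) _ ((QuotientGroup.eq_one_iff _).1 ?_)
      show π _ = 1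
      rw [map_mul, map_inv, map_zpow, ← hzq, hj, inv_mul_cancel]
    · obtain ⟨j, hj⟩ := mem_zpowers_iff.1 h
      refine hkey (mk zW ^ j * (mk eW)⁻¹) (by rw [map_mul, map_zpow, map_inv, hαz, hαe]) _
        ((QuotientGroup.eq_one_iff _).1 ?_)
      show π _ = 1
      rw [map_mul, map_inv, map_mul, map_zpow, map_inv, ← hzq, ← heq', hj, mul_inv_cancel_right,
        inv_mul_cancel]
  · -- the quotient is the alternating group of degree five
    have h3 : ¬ 3 ∣ Nat.card N := fun h => by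
      have : Fact (Nat.Prime 3) := ⟨Nat.prime_three⟩
      obtain ⟨m, hm⟩ := exists_prime_orderOf_dvd_card' 3 h
      have h2 : orderOf m ∣ 2 := orderOf_dvd_of_pow_eq_one (Subtype.ext (hN2 m m.2))
      rw [hm] at h2; norm_num at h2
    let π : W ⧸ Vw →* alternatingGroup (Fin 5) := ψ.toMonoidHom.comp (QuotientGroup.mk' N)
    have hπs : Function.Surjective π := ψ.surjective.comp (QuotientGroup.mk'_surjective N)
    have hπk : ∀ k, π k = 1 ↔ k ∈ N := fun k =>
      ψ.map_eq_one_iff.trans (QuotientGroup.eq_one_iff k)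
    have hαs : Function.Surjective α := fun k => ⟨α (α k), hα3 k⟩
    have hNa : ∀ m ∈ N, α m ∈ N := by
      have hn : (N.map (π.comp α)).Normal := hN.map _ (hπs.comp hαs)
      rcases hn.eq_bot_or_eq_top with e | e
      · intro m hm
        exact (hπk _).1 ((mem_bot).1 (e ▸ mem_map_of_mem (π.comp α) hm))
      · exfalso
        obtain ⟨m, hm, e'⟩ := (e ▸ mem_top (π (mk zW)) : π (mk zW) ∈ N.map (π.comp α))
        have h2 : π (mk zW) ^ 2 = 1 := by rw [← e', ← map_pow, hN2 m hm, map_one]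
        refine hz_not N h3 ((hπk _).1 ?_)
        calc π (mk zW) = π (mk zW) * π (mk zW) ^ 2 := by rw [h2, mul_one]
          _ = 1 := by rw [pow_two, ← map_mul, ← map_mul, ← mul_assoc, hzK3, map_one]
    have hfix := hsub N (fun m hm => hN.conj_mem m hm _) hNa h3
    have hkey : ∀ (w : W ⧸ Vw), α w = w → ∀ k, π k = π w → α k = k := fun w hw k hk => by
      have := hfix _ ((hπk (w⁻¹ * k)).1 (by rw [map_mul, map_inv, hk, inv_mul_cancel]))
      rw [map_mul, map_inv, hw] at this
      exact mul_left_cancel this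
    rcases hcase with hge | hA
    · -- in `A₅` the centraliser of an involution is a four-group
      let E := π (mk eW)
      have hE2 : E * E = 1 := by
        rw [← map_mul, ← map_mul, show eW * eW = 1 from Subtype.ext S.e2, map_one, map_one]
      have hE1 : E ≠ 1 := fun e => by
        have h := congrArg π hez
        rw [map_mul, map_mul, map_mul, show π (mk eW) = E from rfl, e, one_mul, mul_one] at h
        exact hz_not N h3 ((hπk _).1 (mul_left_cancel (a := π (mk zW)) (by rw [mul_one]; exact h.symm)))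
      have hπα : ∀ {k l}, π k = π l → π (α k) = π (α l) := fun {k l} e => by
        have := (hπk _).2 (hNa _ ((hπk (l⁻¹ * k)).1 (by rw [map_mul, map_inv, e, inv_mul_cancel])))
        rw [map_mul, map_mul, map_inv, map_inv] at this
        exact (inv_mul_eq_one.1 this).symm
      have hc0 : Commute (mk x0) (mk eW) := by
        rw [commute_iff_eq, ← map_mul, ← map_mul]; exact congrArg mk (Subtype.ext hge.eq)
      set k := mk x0 with hk
      by_cases k1 : π k = 1
      · exact hkey 1 (map_one α) k (by rw [k1, map_one])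
      by_cases kE : π k = E
      · exact hkey (mk eW) hαe k kE
      have hcα : Commute (α k) (mk eW) := hαe ▸ hc0.map α
      have a1 : π (α k) ≠ 1 := fun e => k1 (by
        have h := hπα (hπα (k := α k) (l := 1) (by rw [e, map_one]))
        rw [hα3, map_one, map_one, map_one] at h; exact h)
      have aE : π (α k) ≠ E := fun e => kE (by
        have h := hπα (hπα (k := α k) (l := mk eW) e)
        rw [hα3, hαe, hαe] at h; exact h)
      have hv : ∀ {u v : alternatingGroup (Fin 5)}, (u : Perm (Fin 5)) = v → u = v := fun h => Subtype.ext h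
      rcases five_klein (E : Perm (Fin 5)) E.2 (fun e => hE1 (hv e)) (congrArg Subtype.val hE2)
        (π k : Perm (Fin 5)) (π k).2 (congrArg Subtype.val (hc0.map π).eq) (fun e => k1 (hv e))
        (fun e => kE (hv e)) (π (α k) : Perm (Fin 5)) (π (α k)).2
        (congrArg Subtype.val (hcα.map π).eq) (fun e => a1 (hv e)) (fun e => aE (hv e)) with e | e
      · exact hquot N hN hfix h3 k ((hπk _).1 (by
          rw [map_mul, map_inv, hv e, inv_mul_cancel]))
      · exfalso
        have e1 : π (α k) = π (k * mk eW) := (hv e).trans (map_mul π k _).symm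
        have e2 : π (α (α k)) = π k := by
          rw [hπα e1, map_mul α, hαe, map_mul π, e1, map_mul π, mul_assoc]
          show π k * (E * E) = π k
          rw [hE2, mul_one]
        have e3 := hπα e2
        rw [hα3, e1, map_mul] at e3
        exact hE1 (mul_left_cancel (a := π k) (by rw [mul_one]; exact e3.symm))
    · -- `σ A σ` covers the quotient
      let θ : alternatingGroup (Fin 5) →* W :=
        (S.j5.comp (alternatingGroup (Fin 5)).subtype).codRestrict W fun q => (hA q q.2).1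
      have hθα : ∀ q, α (mk (θ q)) = mk (θ q) := fun q => by
        refine congrArg mk (Subtype.ext ?_)
        show S.d * S.j5 q * S.d⁻¹ = S.j5 q
        rw [← (hA q q.2).2.eq, mul_inv_cancel_right]
      let μ : alternatingGroup (Fin 5) →* alternatingGroup (Fin 5) := π.comp (mk.comp θ)
      have hμ : Function.Injective μ := by
        rw [← MonoidHom.ker_eq_bot_iff]
        refine (μ.normal_ker.eq_bot_or_eq_top).resolve_right fun e => ?_
        have hcy : cyc ∈ alternatingGroup (Fin 5) := by rw [Equiv.Perm.mem_alternatingGroup]; decide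
        have h1 : μ ⟨cyc, hcy⟩ = 1 := MonoidHom.mem_ker.1 (e ▸ mem_top _)
        have hz' : θ ⟨cyc, hcy⟩ = zW := Subtype.ext S.j5_cyc
        change π (mk (θ ⟨cyc, hcy⟩)) = 1 at h1
        rw [hz'] at h1
        exact hz_not N h3 ((hπk _).1 h1)
      obtain ⟨q, hq⟩ := (Finite.injective_iff_surjective.1 hμ) (π (mk x0))
      exact hkey _ (hθα q) _ hq.symm
  · -- `PSL(2,7)`: a Sylow 7-subgroup would be centralised by `d`
    exfalso
    have : Fact (Nat.Prime 7) := ⟨by norm_num⟩
    have : Fact (Nat.Prime 3) := ⟨Nat.prime_three⟩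
    have hcardK : Nat.card (W ⧸ Vw) = 168 := by
      rw [Nat.card_congr ψ.some.toEquiv]
      have h := CfsgLib.Perm.ZGroup.card_psl2_gcd (F := ZMod 7)
      rw [ZMod.card, show Nat.gcd 2 (7 - 1) = 2 from rfl] at h
      omega
    let α' : MulAut (W ⧸ Vw) := MulEquiv.ofBijective α
      (Finite.injective_iff_bijective.1 (Function.LeftInverse.injective (g := fun k => α (α k)) hα3))
    let ζ' : MulAut (W ⧸ Vw) := MulAut.conj (mk zW)
    have hα'3 : α' ^ 3 = 1 := MulEquiv.ext fun k => by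
      rw [pow_three', MulAut.mul_apply, MulAut.mul_apply]; exact hα3 k
    have hζ'3 : ζ' ^ 3 = 1 := by rw [← map_pow, pow_three', hzK3, map_one]
    have hcc : Commute ζ' α' := MulEquiv.ext fun k => hcomm k
    have hΓc : ∀ (a : zpowers ζ') (b : zpowers α'),
        Commute ((zpowers ζ').subtype a) ((zpowers α').subtype b) := fun a b => by
      obtain ⟨i, hi⟩ := mem_zpowers_iff.1 a.2
      obtain ⟨j, hj⟩ := mem_zpowers_iff.1 b.2
      show Commute (a : MulAut (W ⧸ Vw)) (b : MulAut (W ⧸ Vw))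
      rw [← hi, ← hj]; exact hcc.zpow_zpow i j
    let Γ := ((zpowers ζ').subtype.noncommCoprod (zpowers α').subtype hΓc).range
    have hΓ : IsPGroup 3 Γ := by
      rintro ⟨g, a, rfl⟩
      refine ⟨1, Subtype.ext ?_⟩
      show ((zpowers ζ').subtype.noncommCoprod (zpowers α').subtype hΓc a) ^ (3 ^ 1) = 1
      rw [← map_pow]
      obtain ⟨i, hi⟩ := mem_zpowers_iff.1 a.1.2
      obtain ⟨j, hj⟩ := mem_zpowers_iff.1 a.2.2
      have e : a ^ (3 ^ 1) = 1 := by
        refine Prod.ext (Subtype.ext ?_) (Subtype.ext ?_)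
        · rw [Prod.pow_fst]; push_cast
          rw [← hi, ← zpow_natCast, zpow_comm, zpow_natCast, hζ'3, one_zpow]; rfl
        · rw [Prod.pow_snd]; push_cast
          rw [← hj, ← zpow_natCast, zpow_comm, zpow_natCast, hα'3, one_zpow]; rfl
      rw [e, map_one]
    have hn7 : ¬ 3 ∣ Nat.card (Sylow 7 (W ⧸ Vw)) := by
      have h1 := card_sylow_modEq_one 7 (W ⧸ Vw)
      let P0 : Sylow 7 (W ⧸ Vw) := Classical.arbitrary _
      have h2 : Nat.card (Sylow 7 (W ⧸ Vw)) ∣ P0.index := P0.card_dvd_index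
      have h3 : P0.index ∣ 168 := hcardK ▸ P0.index_dvd_card
      have h4 : ¬ 7 ∣ P0.index := P0.not_dvd_index
      intro hdiv
      have h5 := h2.trans h3
      have hle := Nat.le_of_dvd (by norm_num) h5
      unfold Nat.ModEq at h1
      have h7 : ¬ 7 ∣ Nat.card (Sylow 7 (W ⧸ Vw)) := fun h => h4 (h.trans h2)
      have hd : Nat.card (Sylow 7 (W ⧸ Vw)) ∣ 24 :=
        Nat.Coprime.dvd_of_dvd_mul_left
          (((Nat.Prime.coprime_iff_not_dvd (by norm_num : Nat.Prime 7)).2 h7).symm)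
          (show _ ∣ 7 * 24 by norm_num; exact h5)
      exact (by decide : ∀ n ≤ 24, n ∣ 24 → n % 7 = 1 → ¬ 3 ∣ n) _
        (Nat.le_of_dvd (by norm_num) hd) hd h1 hdiv
    obtain ⟨P, hP⟩ := hΓ.nonempty_fixed_point_of_prime_not_dvd_card (Sylow 7 (W ⧸ Vw)) hn7
    have hinvP : ∀ γ ∈ Γ, ∀ m ∈ (P : Subgroup (W ⧸ Vw)), γ m ∈ (P : Subgroup (W ⧸ Vw)) := by
      intro γ hγ m hm
      have h : (⟨γ, hγ⟩ : Γ) • P = P := hP ⟨γ, hγ⟩
      have h' : γ • (P : Subgroup (W ⧸ Vw)) = (P : Subgroup (W ⧸ Vw)) := congrArg Sylow.toSubgroup h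
      rw [← h']
      exact smul_mem_pointwise_smul m γ _ hm
    have h3P : ¬ 3 ∣ Nat.card (P : Subgroup (W ⧸ Vw)) := fun h => by
      obtain ⟨n, hn⟩ := IsPGroup.iff_card.1 P.2
      rw [hn] at h
      have := Nat.prime_three.dvd_of_dvd_pow h
      norm_num at this
    have hfix := hsub P
      (hinvP ζ' ⟨(⟨ζ', mem_zpowers _⟩, 1), by simp⟩)
      (hinvP α' ⟨(1, ⟨α', mem_zpowers _⟩), by simp⟩) h3P
    obtain ⟨m, hm⟩ := exists_prime_orderOf_dvd_card' (G := (P : Subgroup (W ⧸ Vw))) 7
      (P.dvd_card_of_dvd_card (by rw [hcardK]; norm_num))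
    obtain ⟨y, hy⟩ := QuotientGroup.mk'_surjective Vw (m : W ⧸ Vw)
    obtain ⟨v, hv, hc⟩ := hlift y (by rw [show mk y = (m : W ⧸ Vw) from hy]; exact hfix _ m.2)
    let h' : W := y * ⟨v, hVW hv⟩
    have hh' : mk h' = (m : W ⧸ Vw) := by
      rw [← hy]; exact (QuotientGroup.eq.2 (mem_subgroupOf.2 (by
        show (y : G)⁻¹ * ((y : G) * v) ∈ S.V
        rw [inv_mul_cancel_left]; exact hv))).symm
    have h7 : 7 ∣ orderOf h' := by
      have := orderOf_map_dvd mk h'
      rwa [hh', orderOf_coe, hm] at this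
    have hne : orderOf h' ≠ 0 := (orderOf_pos h').ne'
    set p := ((h' : W) : G) ^ (orderOf h' / 7) with hp
    have hp7 : orderOf p = 7 := by
      rw [hp, ← orderOf_coe h', orderOf_pow_orderOf_div (by rw [orderOf_coe]; exact hne)
        (by rw [orderOf_coe]; exact h7)]
    have hpd : Commute p S.d := by
      refine Commute.pow_left ?_ _
      exact hc
    set r := S.i5 r2
    have hrd : r * S.c * r⁻¹ = S.d := by
      rw [show S.c = S.i5 cyc from rfl, ← map_inv, ← map_mul, ← map_mul, r2_conj]; rfl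
    let Φ : G ≃* G := MulAut.conj (S.σ * r⁻¹)
    have hΦd : Φ S.d = S.z := by
      show S.σ * r⁻¹ * S.d * (S.σ * r⁻¹)⁻¹ = S.z
      rw [← hrd, ← S.σc, mul_inv_rev, S.σinv]; group
    have hcz : Commute (Φ p) S.z := hΦd ▸ hpd.map Φ.toMonoidHom
    obtain ⟨a, q, e, -⟩ := S.cent_z hcz
    have h71 : (S.i3 a * S.i5 q) ^ 7 = S.i3 1 * S.i5 1 := by
      rw [← e, ← map_pow, ← hp7, pow_orderOf_eq_one, map_one, map_one, map_one, mul_one]
    rw [(S.comm a q).mul_pow, ← map_pow, ← map_pow, S.pair] at h71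
    rw [perm3_seven a h71.1, perm5_seven q h71.2, map_one, map_one, mul_one, ← map_one Φ] at e
    rw [Φ.injective e, orderOf_one] at hp7
    norm_num at hp7

end CfsgLib.ThreeLocalS8
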