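import Cfsg.Agent.Lib.Recognition.ThreeLocalS8.Involutions

/-!
# The classes of involutions met by a Sylow 2-subgroup
-/

set_option autoImplicit false
set_option linter.unusedSectionVars false
set_option maxRecDepth 20000

namespace CfsgLib.ThreeLocalS8

open Equiv Subgroup

theorem s_conj_facts : q1 * t34 * q1⁻¹ = q0 * t34 := by decide

theorem q0_cent_three : ∀ q : Perm (Fin 5), q * q0 = q0 * q → q * q * q = 1 → q = 1 := by
  decide +kernel

variable {G : Type*} [Group G] [Finite G] (S : Data G) (hb : S.b = t01 * t34)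

include hb

theorem Data.P2_le_X : S.P2 hb ≤ S.X hb := sup_le_sup (S.VV_le_core hb) le_rfl

/-- The Sylow 2-subgroup. -/
def Data.P2S : Sylow 2 G :=
  haveI : Fact (Nat.Prime 2) := ⟨Nat.prime_two⟩
  (IsPGroup.of_card (n := 6) ((S.card_P2 hb).trans (by norm_num))).toSylow (by
    intro h2
    have h1 := (S.P2 hb).card_mul_index
    rw [← (S.X hb).card_mul_index, S.card_P2 hb, S.card_X hb, S.card_T4 hb] at h1
    obtain ⟨k, hk⟩ := S.index_odd hb
    obtain ⟨m, hm⟩ := h2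
    rw [hk, hm] at h1
    omega)

theorem Data.P2S_eq : (S.P2S hb : Subgroup G) = S.P2 hb := rfl

theorem Data.conj_T4 {x t : G} (hx : x ∈ S.X hb) (ht : t ∈ S.T4) : x * t * x⁻¹ * t ∈ S.core hb := by
  obtain ⟨a, ha, b, hb', u, hu, rfl⟩ := (S.mem_X hb).1 hx
  set n := S.i5 a * S.j5 b
  have hn : n ∈ S.core hb := (S.mem_core hb).2 ⟨a, ha, b, hb', rfl⟩
  have hc : Commute u t := by
    have hσs : Commute S.σ S.s := by
      rw [commute_iff_eq]
      calc S.σ * S.s = S.σ * S.s * S.σ * S.σ := by rw [mul_assoc (S.σ * S.s), S.σ2, mul_one]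
        _ = S.s * S.σ := by rw [S.σs']
    rcases S.mem_T4.1 hu with rfl | rfl | rfl | rfl <;>
      rcases S.mem_T4.1 ht with rfl | rfl | rfl | rfl
    all_goals first
      | exact Commute.one_left _
      | exact Commute.one_right _
      | exact Commute.refl _
      | exact hσs
      | exact hσs.symm
      | exact (Commute.refl _).mul_right hσs
      | exact hσs.symm.mul_right (Commute.refl _)
      | exact (Commute.refl _).mul_left hσs.symm
      | exact hσs.mul_left (Commute.refl _)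
  have ht2 : t⁻¹ = t := by
    have hσs : S.s * S.σ = S.σ * S.s := by
      calc S.s * S.σ = S.σ * S.s * S.σ * S.σ := by rw [S.σs']
        _ = S.σ * S.s := by rw [mul_assoc (S.σ * S.s), S.σ2, mul_one]
    refine inv_eq_of_mul_eq_one_right ?_
    rcases S.mem_T4.1 ht with rfl | rfl | rfl | rfl
    exacts [one_mul 1, S.s2, S.σ2, by
      rw [mul_assoc, ← mul_assoc S.s, hσs, mul_assoc S.σ, S.s2, mul_one, S.σ2]]
  have e : n * u * t * (n * u)⁻¹ * t = n * (t * n⁻¹ * t⁻¹) := by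
    rw [ht2]
    calc n * u * t * (n * u)⁻¹ * t = n * (u * t * u⁻¹) * n⁻¹ * t := by group
      _ = _ := by rw [hc.eq, mul_inv_cancel_right]; group
  rw [e]
  exact mul_mem hn ((mem_normalizer_iff.1 (S.T4_le hb ht) _).1 (inv_mem hn))

theorem Data.s_not_core : S.s ∉ S.core hb := fun h =>
  S.s_ne (S.T4_disjoint hb (S.mem_T4.2 (Or.inr (Or.inl rfl))) h)

/-- The conjugates of `s` in `P₂`. -/
theorem Data.s_conj_P2 {g : G} (hg : g * S.s * g⁻¹ ∈ S.P2 hb) :
    ∃ p q : Perm (Fin 5), (p = 1 ∨ p = q0) ∧ (q = 1 ∨ q = q0) ∧ g * S.s * g⁻¹ = S.i5 p * S.j5 q * S.s := by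
  have hgX := S.fix_s hb (S.P2_le_X hb hg)
  have hsT : S.s ∈ S.T4 := S.mem_T4.2 (Or.inr (Or.inl rfl))
  set y := g * S.s * g⁻¹ with hy
  have hy2 : y * y = 1 := by
    rw [hy]
    calc g * S.s * g⁻¹ * (g * S.s * g⁻¹) = g * (S.s * S.s) * g⁻¹ := by group
      _ = 1 := by rw [S.s2]; group
  have hys : y * S.s ∈ S.core hb := S.conj_T4 hb hgX hsT
  have hy' : y ∈ (↑(S.VV hb ⊔ S.T4) : Set G) := hg
  rw [coe_mul_of_right_le_normalizer_left _ _ (S.T4_VV hb)] at hy'
  obtain ⟨v, hv, t, ht, hvt⟩ := hy'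
  change v * t = y at hvt
  have hts : t = S.s := by
    have h1 : t * S.s ∈ S.core hb := by
      have := mul_mem (inv_mem (S.VV_le_core hb hv)) hys
      rwa [← hvt, mul_assoc v, inv_mul_cancel_left] at this
    have h2 := S.T4_disjoint hb (mul_mem ht hsT) h1
    calc t = t * S.s * S.s := by rw [mul_assoc, S.s2, mul_one]
      _ = S.s := by rw [h2, one_mul]
  subst hts
  obtain ⟨p, hp, q, hq, rfl⟩ := (S.mem_VV hb).1 hv
  have hps : S.s * (S.i5 p * S.j5 q) * S.s = S.i5 (t34 * p * t34) * S.j5 (t34 * q * t34) := by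
    rw [map_mul, map_mul, map_mul, map_mul, S.j5_t34, show S.i5 t34 = S.s from rfl]
    calc S.s * (S.i5 p * S.j5 q) * S.s = S.s * S.i5 p * (S.s * S.s) * S.j5 q * S.s := by
          rw [S.s2]; group
      _ = _ := by group
  have h1 : S.i5 (t34 * p * t34) * S.j5 (t34 * q * t34) = S.i5 p * S.j5 q := by
    rw [← hps]
    have hp2 : S.i5 p * S.j5 q * (S.i5 p * S.j5 q) = 1 := by
      rw [(S.commute_AA hb (Four_le hp) (Four_le hq)).symm.mul_mul_mul_comm, ← map_mul, ← map_mul]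
      rcases mem_Four.1 hp with rfl | rfl | rfl | rfl <;>
        rcases mem_Four.1 hq with rfl | rfl | rfl | rfl <;>
        simp [show q0 * q0 = 1 by decide, show q1 * q1 = 1 by decide,
          show q0 * q1 * (q0 * q1) = 1 by decide]
    rw [← hvt] at hy2
    calc S.s * (S.i5 p * S.j5 q) * S.s
        = S.i5 p * S.j5 q * (S.i5 p * S.j5 q) * (S.s * (S.i5 p * S.j5 q) * S.s) := by rw [hp2, one_mul]
      _ = S.i5 p * S.j5 q * (S.i5 p * S.j5 q * S.s * (S.i5 p * S.j5 q * S.s)) := by group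
      _ = _ := by rw [hy2, mul_one]
  have hA : ∀ {r}, r ∈ Four → t34 * r * t34 ∈ alternatingGroup (Fin 5) := fun {r} hr =>
    Four_le (mem_Four.2 (four_t34 r (mem_Four.1 hr)))
  obtain ⟨e1, e2⟩ := (S.core_pair hb (hA hp) (Four_le hp) (hA hq) (Four_le hq)).1 h1
  exact ⟨p, q, four_s_fixed p (mem_Four.1 hp) e1, four_s_fixed q (mem_Four.1 hq) e2, hvt.symm⟩

/-- Centralisers in `P₂` of conjugates of `s` have order at least sixteen. -/
theorem Data.cent16 {g : G} (hg : g * S.s * g⁻¹ ∈ S.P2 hb) :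
    16 ≤ Nat.card ↥((centralizer ({g * S.s * g⁻¹} : Set G)).subgroupOf (S.P2 hb)) := by
  classical
  set y := g * S.s * g⁻¹ with hy
  set C := (centralizer ({y} : Set G)).subgroupOf (S.P2 hb)
  let T : Finset G := {S.s, S.e * S.s, S.f * S.s, S.f * S.e * S.s}
  have hmem : ∀ w : ↥(S.P2 hb), (w : G) * y * (w : G)⁻¹ ∈ T := by
    intro w
    have h : (w : G) * g * S.s * ((w : G) * g)⁻¹ = (w : G) * y * (w : G)⁻¹ := by rw [hy]; group
    obtain ⟨p, q, hp, hq, e⟩ := S.s_conj_P2 hb (g := (w : G) * g)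
      (by rw [h]; exact mul_mem (mul_mem w.2 hg) (inv_mem w.2))
    rw [← h, e]
    rcases hp with rfl | rfl <;> rcases hq with rfl | rfl <;>
      simp [T, S.e_eq hb, S.f_eq hb]
  let F : ↥(S.P2 hb) ⧸ C → T := fun w => ⟨(w.out : G) * y * (w.out : G)⁻¹, hmem _⟩
  have hF : Function.Injective F := by
    intro w w' e
    have e' := congrArg Subtype.val e
    simp only [F] at e'
    rw [← QuotientGroup.out_eq' w, ← QuotientGroup.out_eq' w']
    refine QuotientGroup.eq.2 (mem_subgroupOf.2 (mem_centralizer_singleton_iff.2 ?_))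
    push_cast
    calc (w.out : G)⁻¹ * w'.out * y = (w.out : G)⁻¹ * ((w'.out : G) * y * (w'.out : G)⁻¹) * w'.out := by
          group
      _ = (w.out : G)⁻¹ * ((w.out : G) * y * (w.out : G)⁻¹) * w'.out := by rw [e']
      _ = _ := by group
  have h4 : Nat.card (↥(S.P2 hb) ⧸ C) ≤ 4 :=
    (Nat.card_le_card_of_injective F hF).trans (by
      rw [Nat.card_eq_finsetCard]
      refine (Finset.card_insert_le _ _).trans (Nat.add_le_add_right ?_ 1)
      refine (Finset.card_insert_le _ _).trans (Nat.add_le_add_right ?_ 1)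
      exact (Finset.card_insert_le _ _).trans (by simp))
  have h := card_eq_card_quotient_mul_card_subgroup C
  rw [S.card_P2 hb] at h
  nlinarith

/-- An element of `N(D)` whose image is not central modulo `D` is not conjugate to `e f`. -/
theorem Data.not_conj_ef {x w : G} (hx : x ∈ normalizer (S.D : Set G))
    (hw : w ∈ normalizer (S.D : Set G)) (hxw : x * w * x⁻¹ * w⁻¹ ∉ S.D) (g : G) :
    g * x * g⁻¹ ≠ S.e * S.f := by
  intro e
  have hxs : Commute x S.s := S.s_central hx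
  set Cx := centralizer ({x} : Set G)
  let T : Sylow 2 G := g⁻¹ • S.P2S hb
  have : Fact (Nat.Prime 2) := ⟨Nat.prime_two⟩
  have hT : (T : Subgroup G) ≤ Cx := by
    intro y hy
    rw [Sylow.coe_subgroup_smul] at hy
    obtain ⟨p, hp, rfl⟩ := hy
    have h : Commute p (S.e * S.f) := mem_centralizer_singleton_iff.1 (S.P2_cent hb hp)
    rw [← e] at h
    have := h.map (MulAut.conj g⁻¹).toMonoidHom
    refine mem_centralizer_singleton_iff.2 ?_
    simpa [mul_assoc] using this.eq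
  let s' : Cx := ⟨S.s, mem_centralizer_singleton_iff.2 hxs.symm.eq⟩
  have hs2 : orderOf S.s = 2 := orderOf_eq_prime (by rw [pow_two]; exact S.s2) S.s_ne
  have hp : IsPGroup 2 (zpowers s') := IsPGroup.of_card (n := 1) (by
    rw [Nat.card_zpowers, ← orderOf_coe, show ((s' : Cx) : G) = S.s from rfl, hs2, pow_one])
  obtain ⟨Q, hQ⟩ := hp.exists_le_sylow
  obtain ⟨h, hh⟩ := MulAction.exists_smul_eq Cx Q (T.subtype hT)
  have hm : h * s' * h⁻¹ ∈ ((h • Q : Sylow 2 Cx) : Subgroup Cx) := by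
    rw [Sylow.coe_subgroup_smul]; exact ⟨s', hQ (mem_zpowers _), rfl⟩
  rw [hh, Sylow.coe_subtype, mem_subgroupOf, Sylow.coe_subgroup_smul] at hm
  obtain ⟨p, hp', hpe⟩ := hm
  change g⁻¹ * p * g⁻¹⁻¹ = (h : G) * S.s * (h : G)⁻¹ at hpe
  set k := g * (h : G) with hk
  have hpk : p = k * S.s * k⁻¹ := by
    calc p = g * (g⁻¹ * p * g⁻¹⁻¹) * g⁻¹ := by group
      _ = _ := by rw [hpe, hk]; group
  have hkP : k * S.s * k⁻¹ ∈ S.P2 hb := hpk ▸ hp'
  have h16 := S.cent16 hb hkP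
  set C0 := (centralizer ({k * S.s * k⁻¹} : Set G)).subgroupOf (S.P2 hb)
  have hkx : k * x * k⁻¹ = S.e * S.f := by
    have hhx : Commute (h : G) x := mem_centralizer_singleton_iff.1 h.2
    rw [← e, hk]
    calc g * (h : G) * x * (g * (h : G))⁻¹ = g * ((h : G) * x * (h : G)⁻¹) * g⁻¹ := by group
      _ = _ := by rw [hhx.eq, mul_inv_cancel_right]
  let R := (C0.map (S.P2 hb).subtype).map (MulAut.conj k⁻¹).toMonoidHom
  have hRcard : Nat.card R = Nat.card C0 := by
    rw [card_map_of_injective (MulAut.conj k⁻¹).injective, card_map_of_injective (S.P2 hb).subtype_injective]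
  have hRN : ∀ r ∈ R, r ∈ normalizer (S.D : Set G) ∧ Commute r x := by
    rintro _ ⟨_, ⟨p', hp', rfl⟩, rfl⟩
    have h1 : Commute (p' : G) (k * S.s * k⁻¹) := mem_centralizer_singleton_iff.1 hp'
    have h2 : Commute (p' : G) (S.e * S.f) := mem_centralizer_singleton_iff.1 (S.P2_cent hb p'.2)
    rw [← hkx] at h2
    constructor
    · refine (S.cent_s_eq hb).le (mem_centralizer_singleton_iff.2 ?_)
      have := h1.map (MulAut.conj k⁻¹).toMonoidHom
      simpa [mul_assoc] using this.eq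
    · have := h2.map (MulAut.conj k⁻¹).toMonoidHom
      rw [commute_iff_eq]
      simpa [mul_assoc] using this.eq
  have hR2 : ∀ r ∈ R, r ∈ S.D → r = 1 := by
    intro r hr hrD
    have h1 : r ^ (Nat.card C0) = 1 := by
      rw [← hRcard]; exact orderOf_dvd_iff_pow_eq_one.1 (R.orderOf_dvd_natCard hr)
    have h64 : Nat.card C0 ∣ 64 := S.card_P2 hb ▸ card_subgroup_dvd_card C0
    have h2 : r ^ 64 = 1 := by
      obtain ⟨m, hm⟩ := h64
      rw [hm, pow_mul, h1, one_pow]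
    have h3 : r ^ 3 = 1 := by rw [pow_three']; exact S.D_three hrD
    calc r = r ^ 64 := by rw [show 64 = 3 * 21 + 1 from rfl, pow_succ, pow_mul, h3, one_pow, one_mul]
      _ = 1 := h2
  have hdis : Nat.card ↥(S.D ⊔ R) = Nat.card S.D * Nat.card R :=
    card_sup_disjoint _ _ (fun r hr => (hRN r hr).1) hR2
  have htop : S.D ⊔ R = normalizer (S.D : Set G) := by
    refine eq_of_le_of_card_ge (sup_le le_normalizer fun r hr => (hRN r hr).1) ?_
    rw [hdis, S.card_D, S.cardN, hRcard]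
    omega
  have hwm : w ∈ (↑(S.D ⊔ R) : Set G) := htop.symm ▸ hw
  rw [coe_mul_of_right_le_normalizer_left _ _ (fun r hr => (hRN r hr).1)] at hwm
  obtain ⟨d, hd, r, hr, rfl⟩ := hwm
  apply hxw
  have e1 : x * (d * r) * x⁻¹ * (d * r)⁻¹ = x * d * x⁻¹ * d⁻¹ := by
    calc x * (d * r) * x⁻¹ * (d * r)⁻¹ = x * d * (r * x⁻¹ * r⁻¹) * d⁻¹ := by group
      _ = _ := by rw [((hRN r hr).2.inv_right).eq, mul_inv_cancel_right]
  rw [e1]
  exact mul_mem ((mem_normalizer_iff.1 hx _).1 hd) (inv_mem hd)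

theorem Data.fe_not_D : S.f * S.e ∉ S.D := fun h => by
  have h3 := S.D_three h
  have h2 : S.f * S.e * (S.f * S.e) = 1 := by rw [S.ef.mul_mul_mul_comm, S.f2, S.e2, one_mul]
  rw [h2, one_mul] at h3
  have e : S.f = S.e := by
    rw [← inv_eq_of_mul_eq_one_right S.e2]; exact eq_inv_of_mul_eq_one_left h3
  rw [S.f_eq hb, show S.e = S.i3 tau * S.i5 1 by rw [map_one, mul_one]; rfl,
    show S.i5 q0 = S.i3 1 * S.i5 q0 by rw [map_one, one_mul]] at e
  exact absurd (S.pair.1 e).1 (by decide)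

/-- `f` is not conjugate to `e f`. -/
theorem Data.f_not_ef (g : G) : g * S.f * g⁻¹ ≠ S.e * S.f := by
  refine S.not_conj_ef hb S.f_mem S.σ_mem ?_ g
  rw [inv_eq_of_mul_eq_one_right S.f2, S.σinv]
  rw [show S.f * S.σ * S.f * S.σ = S.f * (S.σ * S.f * S.σ) by group, S.σf]
  exact S.fe_not_D hb

/-- Neither `σ` nor `σ s` is conjugate to `e f`. -/
theorem Data.τ_not_ef {τ : G} (hτ : τ = S.σ ∨ τ = S.σ * S.s) (g : G) : g * τ * g⁻¹ ≠ S.e * S.f := by
  rcases hτ with rfl | rfl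
  · refine S.not_conj_ef hb S.σ_mem S.e_mem ?_ g
    rw [S.σinv, S.σe', inv_eq_of_mul_eq_one_right S.e2]
    exact S.fe_not_D hb
  · refine S.not_conj_ef hb (mul_mem S.σ_mem S.s_mem) S.e_mem ?_ g
    rw [show S.σ * S.s * S.e * (S.σ * S.s)⁻¹ = S.σ * (S.s * S.e * S.s⁻¹) * S.σ⁻¹ by group,
      S.es.symm.eq, mul_inv_cancel_right, S.σinv, S.σe', inv_eq_of_mul_eq_one_right S.e2]
    exact S.fe_not_D hb

/-- Neither `σ` nor `σ s` is conjugate to `f`. -/
theorem Data.τ_not_f {τ : G} (hτ : τ = S.σ ∨ τ = S.σ * S.s) (g : G) : g * τ * g⁻¹ ≠ S.f := by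
  intro e
  have : Fact (Nat.Prime 3) := ⟨Nat.prime_three⟩
  set m := S.c * S.z with hm
  have hmD : m ∈ S.D := mul_mem S.c_mem S.z_mem
  have hτm : Commute τ m := by
    have h1 : Commute S.σ m := by
      rw [commute_iff_eq]
      calc S.σ * m = S.σ * m * S.σ * S.σ := by rw [mul_assoc (S.σ * m), S.σ2, mul_one]
        _ = m * S.σ := by rw [hm, S.σ_mul, S.σc, S.σz', S.commute_zc.eq]
    rcases hτ with rfl | rfl
    exacts [h1, h1.mul_left (S.s_central (le_normalizer hmD)).symm]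
  set Cf := centralizer ({S.f} : Set G)
  let z' : Cf := ⟨S.z, mem_centralizer_singleton_iff.2 S.fz.symm.eq⟩
  have hp : IsPGroup 3 (zpowers z') := fun w => by
    obtain ⟨n, hn⟩ := mem_zpowers_iff.1 w.2
    refine ⟨1, Subtype.ext ?_⟩
    rw [SubmonoidClass.coe_pow, ← hn, pow_one, ← zpow_natCast, zpow_comm, zpow_natCast, pow_three',
      show z' * z' * z' = 1 from Subtype.ext S.z3, one_zpow]
    rfl
  obtain ⟨Q, hQ⟩ := hp.exists_le_sylow
  -- `Q = ⟨z⟩`
  obtain ⟨R, hR⟩ := (Q.2.map Cf.subtype).exists_le_sylow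
  obtain ⟨a, ha⟩ := MulAction.exists_smul_eq G R S.P
  have hRc : ∀ x ∈ (R : Subgroup G), ∀ y ∈ (R : Subgroup G), Commute x y ∧ x * x * x = 1 := by
    intro x hx y hy
    have hmem : ∀ w ∈ (R : Subgroup G), a * w * a⁻¹ ∈ S.D := fun w hw => by
      rw [← S.P_eq, ← ha, Sylow.coe_subgroup_smul]; exact ⟨w, hw, rfl⟩
    refine ⟨?_, ?_⟩
    · have := (S.D_commute (hmem x hx) (hmem y hy)).map (MulAut.conj a⁻¹).toMonoidHom
      simpa [mul_assoc] using this
    · have h3 := S.D_three (hmem x hx)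
      rw [show a * x * a⁻¹ * (a * x * a⁻¹) * (a * x * a⁻¹) = a * (x * x * x) * a⁻¹ by group] at h3
      exact conj_eq_one_iff.1 h3
  have hQz : ∀ q : Cf, q ∈ (Q : Subgroup Cf) → (q : G) ∈ zpowers S.z := by
    intro q hq
    obtain ⟨hc, h3⟩ := hRc _ (hR (mem_map_of_mem _ hq)) _ (hR (mem_map_of_mem _ (hQ (mem_zpowers _))))
    obtain ⟨i, r, hqe, hi⟩ := S.cent_z hc
    have hqf : Commute (q : G) S.f := mem_centralizer_singleton_iff.1 q.2
    change (q : G) * q * q = 1 at h3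
    change (q : G) = _ at hqe
    rw [hqe, S.f_eq hb, show S.i5 q0 = S.i3 1 * S.i5 q0 by rw [map_one, one_mul],
      commute_iff S.comm S.inj] at hqf
    rw [hqe, S.mul_pair, S.mul_pair, show (1 : G) = S.i3 1 * S.i5 1 by rw [map_one, map_one, one_mul],
      S.pair] at h3
    rw [hqe, q0_cent_three r hqf.2 h3.2, map_one, mul_one, mem_zpowers_three S.z3]
    rcases hi with rfl | rfl | rfl
    exacts [Or.inl (map_one _), Or.inr (Or.inl rfl), Or.inr (Or.inr (map_mul _ _ _))]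
  -- the mixed element
  let d' : Cf := ⟨g * m * g⁻¹, mem_centralizer_singleton_iff.2 (by
    rw [← e]; exact (hτm.symm.map (MulAut.conj g).toMonoidHom).eq)⟩
  have hp' : IsPGroup 3 (zpowers d') := fun w => by
    obtain ⟨n, hn⟩ := mem_zpowers_iff.1 w.2
    refine ⟨1, Subtype.ext ?_⟩
    rw [SubmonoidClass.coe_pow, ← hn, pow_one, ← zpow_natCast, zpow_comm, zpow_natCast, pow_three',
      show d' * d' * d' = 1 from Subtype.ext (by
        show g * m * g⁻¹ * (g * m * g⁻¹) * (g * m * g⁻¹) = 1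
        calc _ = g * (m * m * m) * g⁻¹ := by group
          _ = 1 := by rw [S.D_three hmD]; group), one_zpow]
    rfl
  obtain ⟨Q', hQ'⟩ := hp'.exists_le_sylow
  obtain ⟨h, hh⟩ := MulAction.exists_smul_eq Cf Q' Q
  have hmem : h * d' * h⁻¹ ∈ (Q : Subgroup Cf) := by
    rw [← hh, Sylow.coe_subgroup_smul]; exact ⟨d', hQ' (mem_zpowers _), rfl⟩
  have hz := hQz _ hmem
  have hmne : m ≠ 1 := fun h1 => by
    rw [hm, S.c_pair, S.z_pair, S.mul_pair, show (1 : G) = S.i3 1 * S.i5 1 by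
      rw [map_one, map_one, one_mul]] at h1
    exact absurd (S.pair.1 h1).1 (by decide)
  set k := (h : G) * g
  have hk : ((h * d' * h⁻¹ : Cf) : G) = k * m * k⁻¹ := by
    show (h : G) * (g * m * g⁻¹) * (h : G)⁻¹ = _
    simp only [k]; group
  rw [hk] at hz
  have hmval : m = S.i3 rho * S.i5 cyc := by rw [hm, S.commute_zc.symm.eq]; rfl
  have hzz : ∀ y, k * y * k⁻¹ = S.z → y ≠ m ∧ y ≠ m * m := by
    intro y hy
    have hy' : k⁻¹ * S.z * k⁻¹⁻¹ = y := by rw [← hy]; group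
    constructor <;> intro e'
    · refine S.not_conj k⁻¹ (d := y) (fun u hu => ?_) hy'
      rw [e', hmval] at hu
      exact S.cent_mixed (Or.inl rfl) (Or.inl rfl) (mem_centralizer_singleton_iff.1 hu)
    · refine S.not_conj k⁻¹ (d := y) (fun u hu => ?_) hy'
      rw [e', hmval, S.mul_pair] at hu
      exact S.cent_mixed (Or.inr rfl) (Or.inr rfl) (mem_centralizer_singleton_iff.1 hu)
  rcases (mem_zpowers_three S.z3).1 hz with e' | e' | e'
  · exact hmne (conj_eq_one_iff.1 e')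
  · exact (hzz m e').1 rfl
  · refine (hzz (m * m) ?_).2 rfl
    rw [show k * (m * m) * k⁻¹ = k * m * k⁻¹ * (k * m * k⁻¹) by group, e',
      show S.z * S.z * (S.z * S.z) = S.z * S.z * S.z * S.z by group, S.z3, one_mul]

/-- The types of the elements of `VV`. -/
theorem Data.VV_types {v : G} (hv : v ∈ S.VV hb) :
    v = 1 ∨ (∃ g, g * v * g⁻¹ = S.f) ∨ ∃ g, g * v * g⁻¹ = S.e * S.f := by
  obtain ⟨p, hp, q, hq, rfl⟩ := (S.mem_VV hb).1 hv
  have h2 : ∀ {r}, r ∈ Four → r * r = 1 := fun {r} hr => by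
    rcases mem_Four.1 hr with rfl | rfl | rfl | rfl <;> decide
  by_cases hp1 : p = 1
  · subst hp1
    by_cases hq1 : q = 1
    · subst hq1; left; rw [map_one, map_one, one_mul]
    right; left
    obtain ⟨x, hx, hxq⟩ := double_conj q (Equiv.Perm.mem_alternatingGroup.1 (Four_le hq)) (h2 hq) hq1
    refine ⟨S.σ * S.j5 x, ?_⟩
    rw [map_one, one_mul, show S.σ * S.j5 x * S.j5 q * (S.σ * S.j5 x)⁻¹ =
      S.σ * (S.j5 x * S.j5 q * (S.j5 x)⁻¹) * S.σ⁻¹ by group, ← map_inv, ← map_mul, ← map_mul, hxq,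
      ← S.e_eq hb, S.σinv, S.σe']
  by_cases hq1 : q = 1
  · subst hq1
    right; left
    obtain ⟨x, hx, hxp⟩ := double_conj p (Equiv.Perm.mem_alternatingGroup.1 (Four_le hp)) (h2 hp) hp1
    exact ⟨S.i5 x, by rw [map_one, mul_one, ← map_inv, ← map_mul, ← map_mul, hxp, ← S.f_eq hb]⟩
  right; right
  obtain ⟨n, -, hn⟩ := S.double_to_ef hb (Four_le hp) (Four_le hq) (h2 hp) hp1 (h2 hq) hq1
  exact ⟨n, hn⟩

end CfsgLib.ThreeLocalS8
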