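import Cfsg.Agent.Lib.Recognition.ThreeLocalS8.CentV

/-!
# The two copies of `A₅` commute
-/

set_option autoImplicit false
set_option linter.unusedSectionVars false
set_option maxRecDepth 20000

namespace CfsgLib.ThreeLocalS8

open Equiv Subgroup

/-- An even permutation taking `2` to `3`. -/
def g3 : Perm (Fin 5) := swap 2 3 * swap 0 1

/-- An even permutation taking `2` to `4`. -/
def g4 : Perm (Fin 5) := t34 * g3 * t34

/-- An even permutation fixing `3` and taking `4` to `0`. -/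
def w1 : Perm (Fin 5) := swap 4 0 * swap 0 1

/-- An even permutation taking `3` to `4` and `4` to `0`. -/
def w2 : Perm (Fin 5) := swap 3 4 * swap 4 0

theorem point_facts : g3⁻¹ * cyc * g3 = c2 * c2 * q0 * q1 ∧ g3⁻¹ * w1 * g3 = c2 * q1 ∧
    g4⁻¹ * w2 * g3 = c2 * c2 * q1 ∧ (w1 * g4)⁻¹ * w2 * g4 = c2 * q0 ∧
    cyc = q0 * q1 * (g3⁻¹ * g4) * (q0 * q1) ∧ t34 * c2 * t34 = c2 * c2 ∧
    (cyc * q1) ^ 5 = 1 := by decide +kernel

theorem cand_list : ∀ q : Perm (Fin 5), q * q0 = q0 * q → q * q = 1 →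
    q = 1 ∨ q = q0 ∨ q = q1 ∨ q = q0 * q1 ∨ q = t34 ∨ q = q0 * t34 := by
  decide +kernel

theorem four_s_fixed : ∀ q : Perm (Fin 5), (q = 1 ∨ q = q0 ∨ q = q1 ∨ q = q0 * q1) →
    t34 * q * t34 = q → q = 1 ∨ q = q0 := by
  decide +kernel

theorem four_c2_fixed : ∀ q : Perm (Fin 5), (q = 1 ∨ q = q0 ∨ q = q1 ∨ q = q0 * q1) →
    q * c2 = c2 * q → q = 1 := by
  decide +kernel

/-- A subgroup containing `Four` and `cyc` contains `A₅`. -/
theorem alternating_le {K : Subgroup (Perm (Fin 5))} (h0 : q0 ∈ K) (h1 : q1 ∈ K) (hc : cyc ∈ K) :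
    alternatingGroup (Fin 5) ≤ K := by
  set A := alternatingGroup (Fin 5)
  have hA : ∀ {x}, Equiv.Perm.sign x = 1 → x ∈ A := fun h => Equiv.Perm.mem_alternatingGroup.2 h
  have hcA : cyc ∈ A := hA (by decide)
  have h0A : q0 ∈ A := hA (by decide)
  have h1A : q1 ∈ A := hA (by decide)
  have h3 : 3 ∣ Nat.card ↥(K ⊓ A) := by
    have : Fact (Nat.Prime 3) := ⟨Nat.prime_three⟩
    have := (K ⊓ A).orderOf_dvd_natCard ⟨hc, hcA⟩
    rwa [orderOf_eq_prime (show cyc ^ 3 = 1 by decide) (by decide)] at this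
  have h5 : 5 ∣ Nat.card ↥(K ⊓ A) := by
    have : Fact (Nat.Prime 5) := ⟨by norm_num⟩
    have := (K ⊓ A).orderOf_dvd_natCard ⟨mul_mem hc h1, mul_mem hcA h1A⟩
    rwa [orderOf_eq_prime (show (cyc * q1) ^ 5 = 1 by decide +kernel) (by decide)] at this
  have h4 : 4 ∣ Nat.card ↥(K ⊓ A) := by
    have hF : Nat.card Four = 4 := by
      have e : Nat.card Four = ({1, q0, q1, q0 * q1} : Finset (Perm (Fin 5))).card :=
        Nat.card_eq_finsetCard _ ▸ Nat.card_congr (Equiv.subtypeEquivRight fun x => by simp [mem_Four])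
      rw [e]; decide
    rw [← hF]
    refine card_dvd_of_le fun q hq => ?_
    rcases mem_Four.1 hq with rfl | rfl | rfl | rfl
    exacts [one_mem _, ⟨h0, h0A⟩, ⟨h1, h1A⟩, mul_mem ⟨h0, h0A⟩ ⟨h1, h1A⟩]
  have hA60 : Nat.card A = 60 := by
    rw [Nat.card_eq_fintype_card, card_alternatingGroup, Fintype.card_fin]; rfl
  have hle : Nat.card A ≤ Nat.card ↥(K ⊓ A) := by
    rw [hA60]
    refine Nat.le_of_dvd Nat.card_pos ?_
    have h12 : 12 ∣ Nat.card ↥(K ⊓ A) :=
      Nat.Coprime.mul_dvd_of_dvd_of_dvd (show Nat.Coprime 3 4 by norm_num) h3 h4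
    exact Nat.Coprime.mul_dvd_of_dvd_of_dvd (show Nat.Coprime 12 5 by norm_num) h12 h5
  exact inf_eq_right.1 (eq_of_le_of_card_ge inf_le_right hle)

variable {G : Type*} [Group G] [Finite G] (S : Data G) (hb : S.b = t01 * t34)

include hb

/-- `f₁` and `u` commute. -/
theorem Data.commute_f1_u : Commute S.f1 S.u := by
  classical
  obtain ⟨pc, pw1, pw2, pw3, pword, pt, p5⟩ := point_facts
  have hf12 : S.f1 * S.f1 = 1 := by
    rw [Setup.f1, ← map_mul, show q1 * q1 = 1 by decide, map_one]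
  have hu2 : S.u * S.u = 1 := by rw [Setup.u, ← map_mul, show q1 * q1 = 1 by decide, map_one]
  have hf1i : S.f1⁻¹ = S.f1 := inv_eq_of_mul_eq_one_right hf12
  have hui : S.u⁻¹ = S.u := inv_eq_of_mul_eq_one_right hu2
  have cef1 : Commute S.e S.f1 := S.comm tau q1
  have cfu : Commute S.f S.u := S.f_u hb
  have ceu : Commute S.e S.u := S.e_u hb
  have cff1 : Commute S.f S.f1 := S.f_f1 hb
  set k := S.f1 * S.u * (S.f1 * S.u) with hk
  have cek : Commute S.e k := ((cef1.mul_right ceu).mul_right (cef1.mul_right ceu))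
  have cfk : Commute S.f k := ((cff1.mul_right cfu).mul_right (cff1.mul_right cfu))
  have hsk : S.s * k * S.s = k := by
    have h1 : S.s * (S.f1 * S.u) * S.s = S.f1 * S.u * (S.f * S.e) := by
      calc S.s * (S.f1 * S.u) * S.s = S.s * S.f1 * (S.s * S.s) * S.u * S.s := by
            rw [S.s2]; group
        _ = S.s * S.f1 * S.s * (S.s * S.u * S.s) := by group
        _ = S.f1 * S.f * (S.u * S.e) := by rw [S.s_f1 hb, S.s_u hb]
        _ = _ := by rw [cfu.mul_mul_mul_comm]
    have hc : Commute (S.f * S.e) (S.f1 * S.u) :=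
      (cff1.mul_right cfu).mul_left (cef1.mul_right ceu)
    calc S.s * k * S.s = S.s * (S.f1 * S.u) * (S.s * S.s) * (S.f1 * S.u) * S.s := by
          rw [S.s2, hk]; group
      _ = S.s * (S.f1 * S.u) * S.s * (S.s * (S.f1 * S.u) * S.s) := by group
      _ = S.f1 * S.u * (S.f * S.e) * (S.f1 * S.u * (S.f * S.e)) := by rw [h1]
      _ = k * (S.f * S.e * (S.f * S.e)) := by rw [hc.mul_mul_mul_comm]
      _ = k := by rw [S.ef.mul_mul_mul_comm, S.f2, S.e2, one_mul, mul_one]
  have csk : Commute k S.s := by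
    rw [commute_iff_eq]
    calc k * S.s = S.s * k * S.s * S.s := by rw [hsk]
      _ = S.s * k := by rw [mul_assoc (S.s * k), S.s2, mul_one]
  have hf1k : S.f1 * k * S.f1 = k⁻¹ := by
    rw [hk]
    calc S.f1 * (S.f1 * S.u * (S.f1 * S.u)) * S.f1 = S.f1 * S.f1 * S.u * S.f1 * S.u * S.f1 := by group
      _ = S.u⁻¹ * S.f1⁻¹ * (S.u⁻¹ * S.f1⁻¹) := by rw [hf12, hui, hf1i]; group
      _ = _ := by group
  have hk2 : k * k = 1 := by
    rcases S.cent_ef_square csk cek.symm cfk.symm with h | h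
    · exact h
    exfalso
    have h1 : S.f1 * S.s * S.f1 = S.s := by
      calc S.f1 * S.s * S.f1 = S.f1 * k * (S.f1 * S.f1) * k * S.f1 := by rw [hf12, ← h]; group
        _ = S.f1 * k * S.f1 * (S.f1 * k * S.f1) := by group
        _ = (k * k)⁻¹ := by rw [hf1k]; group
        _ = S.s := by rw [h]; exact inv_eq_of_mul_eq_one_right S.s2
    have h2 : S.s * S.f1 * S.s = S.f1 := by
      calc S.s * S.f1 * S.s = S.f1 * S.s * S.f1 * S.f1 * S.s := by rw [h1]
        _ = S.f1 * (S.s * (S.f1 * S.f1) * S.s) := by group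
        _ = S.f1 := by rw [hf12, mul_one, S.s2, mul_one]
    rw [S.s_f1 hb] at h2
    have hf : S.f = 1 := mul_eq_left.1 h2
    rw [S.f_eq hb] at hf
    exact absurd (S.i5_eq_one hf) (by decide)
  have cf1k : Commute S.f1 k := by
    have e : S.f1 * k * S.f1⁻¹ = k := by
      rw [hf1i, hf1k]; exact inv_eq_of_mul_eq_one_right hk2
    exact mul_inv_eq_iff_eq_mul.1 e
  have hkV : k ∈ centralizer (S.V : Set G) :=
    mem_centralizer_iff.2 fun v hv => (S.commute_V hb cfk.symm cf1k.symm hv).symm.eq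
  obtain ⟨v, hv, hkd⟩ := S.centV_fix hb hkV (Or.inl cek.symm)
  obtain ⟨qv, hqv, rfl⟩ := S.mem_V.1 hv
  set x := k * S.i5 qv with hx
  have hqv' := mem_Four.1 hqv
  have hxV : ∀ q ∈ Four, Commute x (S.i5 q) := fun q hq => by
    refine Commute.mul_left ?_ ?_
    · exact (mem_centralizer_iff.1 hkV _ (mem_map_of_mem _ hq)).symm
    · rw [commute_iff_eq, ← map_mul, ← map_mul]
      refine congrArg S.i5 ?_
      rcases hqv' with rfl | rfl | rfl | rfl <;>
        rcases mem_Four.1 hq with rfl | rfl | rfl | rfl <;> decide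
  have cxe : Commute x S.e := cek.symm.mul_left (S.comm tau qv).symm
  have hx2 : x * x = 1 := by
    have hkv : Commute k (S.i5 qv) := (mem_centralizer_iff.1 hkV _ (mem_map_of_mem _ hqv)).symm
    rw [hx, hkv.symm.mul_mul_mul_comm, hk2, one_mul, ← map_mul]
    rcases hqv' with rfl | rfl | rfl | rfl <;>
      exact (congrArg S.i5 (by decide)).trans (map_one _)
  -- `s` commutes with `x`
  have cxs : Commute x S.s := by
    have hs : S.s * x * S.s = k * S.i5 (t34 * qv * t34) := by
      calc S.s * x * S.s = S.s * k * (S.s * S.s) * S.i5 qv * S.s := by rw [S.s2, hx]; group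
        _ = S.s * k * S.s * (S.s * S.i5 qv * S.s) := by group
        _ = _ := by rw [hsk, map_mul, map_mul]; rfl
    have hd' : Commute (S.s * x * S.s) S.d := by
      have h := (hkd.map (MulAut.conj S.s).toMonoidHom)
      simp only [MulEquiv.coe_toMonoidHom, MulAut.conj_apply, inv_eq_of_mul_eq_one_right S.s2] at h
      have e : S.s * S.d * S.s = S.d * S.d := by
        rw [show S.s = S.i5 t34 from rfl, show S.d = S.i5 c2 from rfl, ← map_mul, ← map_mul, ← map_mul,
          pt]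
      rw [e] at h
      have h2 := h.mul_right h
      rwa [show S.d * S.d * (S.d * S.d) = S.d by
        rw [show S.d = S.i5 c2 from rfl, ← map_mul, ← map_mul]; exact congrArg S.i5 (by decide)] at h2
    have hq : qv * (t34 * qv * t34) = 1 := by
      refine four_c2_fixed _ ?_ ?_
      · rcases hqv' with rfl | rfl | rfl | rfl <;> decide
      · have h1 : Commute (x⁻¹ * (S.s * x * S.s)) S.d := (hkd.inv_left).mul_left hd'
        rw [hs, hx, mul_inv_rev, mul_assoc, inv_mul_cancel_left, ← map_inv, ← map_mul,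
          show S.d = S.i5 c2 from rfl, commute_iff_eq, ← map_mul, ← map_mul] at h1
        have hqq : qv⁻¹ = qv := by rcases hqv' with rfl | rfl | rfl | rfl <;> decide
        rw [hqq] at h1
        exact S.i5_inj h1
    have hq' : t34 * qv * t34 = qv := by
      have hqq : qv⁻¹ = qv := by rcases hqv' with rfl | rfl | rfl | rfl <;> decide
      exact ((eq_inv_of_mul_eq_one_right hq).trans hqq)
    rw [hq'] at hs
    rw [commute_iff_eq]
    calc x * S.s = S.s * x * S.s * S.s := by rw [hs]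
      _ = S.s * x := by rw [mul_assoc (S.s * x), S.s2, mul_one]
  let H : Subgroup (Perm (Fin 5)) := (centralizer ({x} : Set G)).comap S.i5
  have hH : ∀ {q}, q ∈ H ↔ Commute (S.i5 q) x := fun {q} => by
    rw [mem_comap, mem_centralizer_singleton_iff]; rfl
  have h0H : q0 ∈ H := hH.2 (hxV _ (mem_Four.2 (Or.inr (Or.inl rfl)))).symm
  have h1H : q1 ∈ H := hH.2 (hxV _ (mem_Four.2 (Or.inr (Or.inr (Or.inl rfl))))).symm
  have hdH : c2 ∈ H := hH.2 hkd.symm
  have hcH : cyc ∈ H := by
    by_contra hcH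
    let cj : Perm (Fin 5) → G := fun g => S.i5 g * x * (S.i5 g)⁻¹
    have hcj : ∀ g g' : Perm (Fin 5), g⁻¹ * g' ∈ H → cj g' = cj g := by
      intro g g' h
      show S.i5 g' * x * (S.i5 g')⁻¹ = _
      rw [show g' = g * (g⁻¹ * g') by group, map_mul]
      calc _ = S.i5 g * (S.i5 (g⁻¹ * g') * x * (S.i5 (g⁻¹ * g'))⁻¹) * (S.i5 g)⁻¹ := by group
        _ = _ := by rw [(hH.1 h).eq, mul_inv_cancel_right]
    have hact : ∀ w g : Perm (Fin 5), cj (w * g) = S.i5 w * cj g * (S.i5 w)⁻¹ := fun w g => by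
      show S.i5 (w * g) * x * (S.i5 (w * g))⁻¹ = S.i5 w * (S.i5 g * x * (S.i5 g)⁻¹) * (S.i5 w)⁻¹
      rw [map_mul]; group
    have cje : ∀ g, Commute (cj g) S.e := fun g => by
      have h1 : Commute S.e (S.i5 g) := S.comm tau g
      exact ((h1.mul_right cxe.symm).mul_right h1.inv_right).symm
    have cjc : Commute (cj g3) S.c := by
      have h1 : cj (cyc * g3) = cj g3 := hcj g3 (cyc * g3) (by
        rw [← mul_assoc, pc]; exact mul_mem (mul_mem (mul_mem hdH hdH) h0H) h1H)
      rw [hact] at h1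
      exact (mul_inv_eq_iff_eq_mul.1 h1).symm
    have hs34 : cj g4 = S.s * cj g3 * S.s := by
      show S.i5 (t34 * g3 * t34) * x * (S.i5 (t34 * g3 * t34))⁻¹ = _
      rw [map_mul, map_mul, show S.i5 t34 = S.s from rfl, mul_inv_rev, mul_inv_rev,
        inv_eq_of_mul_eq_one_right S.s2]
      calc S.s * S.i5 g3 * S.s * x * (S.s * ((S.i5 g3)⁻¹ * S.s))
          = S.s * S.i5 g3 * (S.s * x * S.s) * (S.i5 g3)⁻¹ * S.s := by group
        _ = S.s * S.i5 g3 * x * (S.i5 g3)⁻¹ * S.s := by
          rw [← cxs.eq, mul_assoc x, S.s2, mul_one]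
        _ = _ := by show _ = S.s * (S.i5 g3 * x * (S.i5 g3)⁻¹) * S.s; group
    have hsame : cj g4 ≠ cj g3 := fun e => hcH (by
      have hmem : g3⁻¹ * g4 ∈ H := by
        refine hH.2 (mul_inv_eq_iff_eq_mul.1 ?_)
        rw [map_mul, map_inv, mul_inv_rev, inv_inv]
        calc (S.i5 g3)⁻¹ * S.i5 g4 * x * ((S.i5 g4)⁻¹ * S.i5 g3)
            = (S.i5 g3)⁻¹ * cj g4 * S.i5 g3 := by
              show _ = (S.i5 g3)⁻¹ * (S.i5 g4 * x * (S.i5 g4)⁻¹) * S.i5 g3
              group
          _ = x := by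
            rw [e]
            show (S.i5 g3)⁻¹ * (S.i5 g3 * x * (S.i5 g3)⁻¹) * S.i5 g3 = x
            group
      rw [pword]; exact mul_mem (mul_mem (mul_mem h0H h1H) hmem) (mul_mem h0H h1H))
    -- the candidates
    have hy := cje g3
    obtain ⟨a, q, hq, ha⟩ := S.cent_z (g := S.σ * cj g3 * S.σ) (S.σc ▸ S.σ_commute cjc)
    have hyf : Commute (S.σ * cj g3 * S.σ) S.f := S.σe' ▸ S.σ_commute hy
    have hy2 : S.σ * cj g3 * S.σ * (S.σ * cj g3 * S.σ) = S.i3 1 * S.i5 1 := by
      rw [← S.σ_mul, map_one, map_one, one_mul]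
      have : cj g3 * cj g3 = 1 := by
        show S.i5 g3 * x * (S.i5 g3)⁻¹ * (S.i5 g3 * x * (S.i5 g3)⁻¹) = 1
        calc _ = S.i5 g3 * (x * x) * (S.i5 g3)⁻¹ := by group
          _ = 1 := by rw [hx2]; group
      rw [this, mul_one, S.σ2]
    rw [hq, S.mul_pair, S.pair] at hy2
    have ha1 : a = 1 := by
      rcases ha with rfl | rfl | rfl
      exacts [rfl, absurd hy2.1 (by decide), absurd hy2.1 (by decide)]
    subst ha1
    rw [map_one, one_mul] at hq
    have hq0 : q * q0 = q0 * q := by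
      rw [hq, S.f_eq hb, commute_iff_eq, ← map_mul, ← map_mul] at hyf
      exact S.i5_inj hyf
    have hval : cj g3 = S.j5 q := by rw [S.j5_apply, ← hq, S.σσ]
    have hconjs : S.s * S.j5 q * S.s = S.j5 (t34 * q * t34) := by
      rw [map_mul, map_mul, S.j5_t34]
    rw [hval, hconjs] at hs34
    have hdiff : t34 * q * t34 ≠ q := fun e => hsame (by rw [hs34, e, hval])
    have hdbl : cj g4 = cj g3 * S.e := by
      rw [hs34, hval, S.e_eq hb, ← map_mul]
      refine congrArg S.j5 ?_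
      rcases cand_list q hq0 hy2.2 with rfl | rfl | rfl | rfl | rfl | rfl
      all_goals first
        | exact absurd (by decide) hdiff
        | decide
    -- move the pair
    have e1 : cj (w1 * g4) = cj g3 * S.e := by
      have h3 : cj (w1 * g3) = cj g3 := hcj g3 (w1 * g3) (by
        rw [← mul_assoc, pw1]; exact mul_mem hdH h1H)
      rw [hact, hdbl]
      have hwe : Commute S.e (S.i5 w1) := S.comm tau w1
      calc S.i5 w1 * (cj g3 * S.e) * (S.i5 w1)⁻¹ = S.i5 w1 * cj g3 * (S.e * (S.i5 w1)⁻¹) := by group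
        _ = S.i5 w1 * cj g3 * (S.i5 w1)⁻¹ * S.e := by rw [hwe.inv_right.eq]; group
        _ = _ := by rw [← hact, h3]
    have e2 : cj (w1 * g4) = cj g4 * S.e := by
      have h3 : cj (w2 * g3) = cj g4 := hcj g4 (w2 * g3) (by
        rw [← mul_assoc, pw2]; exact mul_mem (mul_mem hdH hdH) h1H)
      have h4 : cj (w2 * g4) = cj (w1 * g4) := hcj (w1 * g4) (w2 * g4) (by
        rw [← mul_assoc, pw3]; exact mul_mem hdH h0H)
      rw [← h4, hact, hdbl]
      have hwe : Commute S.e (S.i5 w2) := S.comm tau w2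
      calc S.i5 w2 * (cj g3 * S.e) * (S.i5 w2)⁻¹ = S.i5 w2 * cj g3 * (S.e * (S.i5 w2)⁻¹) := by group
        _ = S.i5 w2 * cj g3 * (S.i5 w2)⁻¹ * S.e := by rw [hwe.inv_right.eq]; group
        _ = _ := by rw [← hact, h3, hdbl]
    exact hsame (mul_right_cancel (e2.symm.trans e1))
  -- so `x` centralises `A`
  obtain ⟨a, q, hq, ha⟩ := S.cent_z (g := S.σ * x * S.σ) (S.σc ▸ S.σ_commute (hH.1 hcH).symm)
  have hy2 : S.σ * x * S.σ * (S.σ * x * S.σ) = S.i3 1 * S.i5 1 := by
    rw [← S.σ_mul, hx2, mul_one, S.σ2, map_one, map_one, one_mul]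
  rw [hq, S.mul_pair, S.pair] at hy2
  have ha1 : a = 1 := by
    rcases ha with rfl | rfl | rfl
    exacts [rfl, absurd hy2.1 (by decide), absurd hy2.1 (by decide)]
  subst ha1
  rw [map_one, one_mul] at hq
  have hq0 : q * q0 = q0 * q := by
    have h := S.σe' ▸ S.σ_commute cxe
    rw [hq, S.f_eq hb, commute_iff_eq, ← map_mul, ← map_mul] at h
    exact S.i5_inj h
  have hxj : x = S.j5 q := by rw [S.j5_apply, ← hq, S.σσ]
  have hxf1 : Commute x S.f1 := hxV q1 (mem_Four.2 (Or.inr (Or.inr (Or.inl rfl))))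
  have hdone : ∀ q', (q' = q1 ∨ q' = q0 * q1) → Commute (S.j5 q') S.f1 → Commute S.f1 S.u := by
    rintro q' (rfl | rfl) h
    · exact h.symm
    · rw [map_mul, ← S.e_eq hb] at h
      have h2 := cef1.mul_left h
      rw [← mul_assoc, S.e2, one_mul] at h2
      exact h2.symm
  have hsne : ¬ Commute S.s S.f1 := fun h => by
    have h2 := S.s_f1 hb
    rw [h.eq, mul_assoc, S.s2] at h2
    have hf : S.f = 1 := mul_eq_left.1 (h2.symm.trans (mul_one _))
    rw [S.f_eq hb] at hf
    exact absurd (S.i5_eq_one hf) (by decide)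
  have key : ∀ w : G, (w = 1 ∨ w = S.e) → x = w → Commute S.f1 S.u := by
    intro w hw e
    have hkw : k = w * S.i5 qv := by
      rw [← e, hx, mul_assoc, ← map_mul, show qv * qv = 1 by
        rcases hqv' with rfl | rfl | rfl | rfl <;> decide, map_one, mul_one]
    have hws : Commute S.s w := by
      rcases hw with rfl | rfl
      exacts [Commute.one_right _, S.es.symm]
    have hqf : qv = 1 ∨ qv = q0 := by
      refine four_s_fixed qv hqv' (S.i5_inj ?_)
      have h := hsk
      rw [hkw] at h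
      rw [map_mul, map_mul, show S.i5 t34 = S.s from rfl]
      apply mul_left_cancel (a := w)
      calc w * (S.s * S.i5 qv * S.s) = S.s * (w * S.i5 qv) * S.s := by
            rw [← mul_assoc, ← mul_assoc, ← hws.eq]; group
        _ = w * S.i5 qv := h
    have hσk : S.σ * k * S.σ = k⁻¹ := by
      rw [hk, S.σ_mul, S.σ_mul, S.σf1, S.σu, mul_inv_rev, mul_inv_rev, hui, hf1i]
    have hkk : k⁻¹ = k := inv_eq_of_mul_eq_one_right hk2
    have hcase : k = 1 ∨ k = S.e * S.f := by
      rcases hw with rfl | rfl <;> rcases hqf with rfl | rfl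
      · left; rw [hkw, map_one, mul_one]
      · exfalso
        rw [one_mul, ← S.f_eq hb] at hkw
        rw [hkk, hkw, S.σf, show S.e = S.i3 tau * S.i5 1 by rw [map_one, mul_one]; rfl,
          S.f_eq hb, show S.i5 q0 = S.i3 1 * S.i5 q0 by rw [map_one, one_mul]] at hσk
        exact absurd (S.pair.1 hσk).1 (by decide)
      · exfalso
        rw [map_one, mul_one] at hkw
        rw [hkk, hkw, S.σe', show S.e = S.i3 tau * S.i5 1 by rw [map_one, mul_one]; rfl,
          S.f_eq hb, show S.i5 q0 = S.i3 1 * S.i5 q0 by rw [map_one, one_mul]] at hσk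
        exact absurd (S.pair.1 hσk).1 (by decide)
      · right; rw [hkw, ← S.f_eq hb]
    rcases hcase with h1 | h1
    · rw [commute_iff_eq]
      calc S.f1 * S.u = k * (S.f1 * S.u)⁻¹ := by rw [hk]; group
        _ = S.u * S.f1 := by rw [h1, one_mul, mul_inv_rev, hui, hf1i]
    · exfalso
      -- `s u` would send `f₁` to `f₁ e` and fix `c`
      set y := S.s * S.u with hy
      have huf : S.u * S.f1 * S.u = S.f1 * (S.e * S.f) := by
        rw [← h1, hk]
        calc S.u * S.f1 * S.u = S.f1 * S.f1 * (S.u * S.f1 * S.u) := by rw [hf12, one_mul]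
          _ = _ := by group
      have hyf : y * S.f1 * y⁻¹ = S.f1 * S.e := by
        rw [hy, mul_inv_rev, hui, inv_eq_of_mul_eq_one_right S.s2]
        calc S.s * S.u * S.f1 * (S.u * S.s) = S.s * (S.u * S.f1 * S.u) * S.s := by group
          _ = S.s * (S.f1 * (S.e * S.f)) * S.s := by rw [huf]
          _ = S.s * S.f1 * (S.s * S.s) * (S.e * S.f) * S.s := by rw [S.s2]; group
          _ = S.s * S.f1 * S.s * (S.s * (S.e * S.f) * S.s) := by group
          _ = S.f1 * S.f * (S.e * S.f) := by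
            rw [S.s_f1 hb, (S.es.symm.mul_right S.fs.symm).eq, mul_assoc (S.e * S.f), S.s2, mul_one]
          _ = _ := by rw [S.ef.eq, mul_assoc S.f1, ← mul_assoc S.f, S.f2, one_mul]
      have hyc : y * S.c * y⁻¹ = S.c := by
        have hcu : Commute S.u S.c := by
          rw [← S.σf1, ← S.σz']; exact S.σ_commute (S.comm rho q1).symm
        have hcs : Commute S.s S.c := (S.s_central (le_normalizer S.c_mem)).symm
        rw [(hcs.mul_left hcu).eq, mul_inv_cancel_right]
      have h5 : (S.c * S.f1) ^ 5 = 1 := by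
        rw [show S.c = S.i5 cyc from rfl, Setup.f1, ← map_mul, ← map_pow, p5, map_one]
      have h5' : (S.c * S.f1 * S.e) ^ 5 = 1 := by
        have : y * (S.c * S.f1) * y⁻¹ = S.c * S.f1 * S.e := by
          calc y * (S.c * S.f1) * y⁻¹ = y * S.c * y⁻¹ * (y * S.f1 * y⁻¹) := by group
            _ = _ := by rw [hyc, hyf]; group
        rw [← this, conj_pow, h5]; group
      have hce : Commute (S.c * S.f1) S.e := S.ec.symm.mul_left cef1.symm
      rw [hce.mul_pow, h5, one_mul, show 5 = 2 + 2 + 1 from rfl, pow_succ, pow_add, pow_two, S.e2,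
        one_mul, one_mul] at h5'
      rw [show S.e = S.i3 tau from rfl, ← map_one S.i3] at h5'
      exact absurd (S.i3_inj h5') (by decide)
  rcases cand_list q hq0 hy2.2 with rfl | rfl | rfl | rfl | rfl | rfl
  · exact key 1 (Or.inl rfl) (hxj.trans (map_one _))
  · exact key S.e (Or.inr rfl) (hxj.trans (S.e_eq hb).symm)
  · exact hdone _ (Or.inl rfl) (hxj ▸ hxf1)
  · exact hdone _ (Or.inr rfl) (hxj ▸ hxf1)
  · rw [hxj, S.j5_t34] at hxf1; exact absurd hxf1 hsne
  · rw [hxj, map_mul, S.j5_t34, ← S.e_eq hb] at hxf1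
    refine absurd ?_ hsne
    have h2 := cef1.mul_left hxf1
    rwa [← mul_assoc, S.e2, one_mul] at h2

/-- The two copies of `A₅` commute. -/
theorem Data.commute_AA {p q : Perm (Fin 5)} (hp : p ∈ alternatingGroup (Fin 5))
    (hq : q ∈ alternatingGroup (Fin 5)) : Commute (S.i5 p) (S.j5 q) := by
  have hu : ∀ p ∈ alternatingGroup (Fin 5), Commute (S.i5 p) S.u := by
    intro p hp
    have := alternating_le (K := (centralizer ({S.u} : Set G)).comap S.i5) ?_ ?_ ?_ hp
    · rw [mem_comap, mem_centralizer_singleton_iff] at this; exact this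
    all_goals rw [mem_comap, mem_centralizer_singleton_iff]
    · rw [← S.f_eq hb]; exact (S.f_u hb).eq
    · exact (S.commute_f1_u hb).eq
    · rw [← S.σf1, show S.i5 cyc = S.σ * S.i3 rho * S.σ from S.σz'.symm]
      exact (S.σ_commute (S.comm rho q1)).eq
  have := alternating_le (K := (centralizer ({S.i5 p} : Set G)).comap S.j5) ?_ ?_ ?_ hq
  · rw [mem_comap, mem_centralizer_singleton_iff] at this; exact this.symm
  all_goals rw [mem_comap, mem_centralizer_singleton_iff]
  · rw [← S.e_eq hb]; exact (S.comm tau p).eq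
  · exact (hu p hp).symm.eq
  · rw [S.j5_cyc]; exact (S.comm rho p).eq

end CfsgLib.ThreeLocalS8
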