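import Cfsg.Agent.Lib.Recognition.ThreeLocalS8.CoreFusion
import Cfsg.Agent.S3331
import Cfsg.Agent.Lib.Perm.ZGroup.Simple
import Mathlib.GroupTheory.FixedPointFree
import Mathlib.GroupTheory.Transfer

/-!
# The centralisers in `K` of the involutions `e`, `f` and `e f`
-/

set_option autoImplicit false
set_option linter.unusedSectionVars false
set_option maxRecDepth 20000

namespace CfsgLib.ThreeLocalS8

open Equiv Subgroup

theorem cent_q0_even : ∀ b : Perm (Fin 5), Equiv.Perm.sign b = 1 → b * q0 = q0 * b →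
    b = 1 ∨ b = q0 ∨ b = q1 ∨ b = q0 * q1 := by
  decide +kernel

theorem four_facts : ∀ v w : Perm (Fin 5), (v = 1 ∨ v = q0 ∨ v = q1 ∨ v = q0 * q1) →
    (w = 1 ∨ w = q0 ∨ w = q1 ∨ w = q0 * q1) → v * w = w * v ∧ v * v = 1 := by
  decide +kernel

theorem card_Four : Nat.card Four = 4 := by
  have e : Nat.card Four = ({1, q0, q1, q0 * q1} : Finset (Perm (Fin 5))).card :=
    Nat.card_eq_finsetCard _ ▸ Nat.card_congr (Equiv.subtypeEquivRight fun x => by simp [mem_Four])
  rw [e]; decide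

theorem q0_mem : q0 ∈ Four := mem_Four.2 (Or.inr (Or.inl rfl))

theorem q1_mem : q1 ∈ Four := mem_Four.2 (Or.inr (Or.inr (Or.inl rfl)))

theorem cyc_even : cyc ∈ alternatingGroup (Fin 5) := by
  rw [Equiv.Perm.mem_alternatingGroup]; decide

variable {G : Type*} [Group G] [Finite G] (S : Data G) (hb : S.b = t01 * t34)

theorem Setup.j5_inj (S : Setup G) {q q' : Perm (Fin 5)} (h : S.j5 q = S.j5 q') : q = q' :=
  S.i5_inj ((MulAut.conj S.σ).injective h)

include hb

/-- The product map on two copies of the four-group. -/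
def Data.pairHom : Four × Four →* G :=
  (S.AA hb).comp (MonoidHom.prodMap (inclusion Four_le) (inclusion Four_le))

theorem Data.pairHom_apply (v w : Four) : S.pairHom hb (v, w) = S.i5 v * S.j5 w := rfl

theorem Data.pairHom_injective : Function.Injective (S.pairHom hb) :=
  (S.AA_injective hb).comp fun _ _ h =>
    Prod.ext (inclusion_injective Four_le (congrArg Prod.fst h))
      (inclusion_injective Four_le (congrArg Prod.snd h))

theorem Data.VV_eq_range : S.VV hb = (S.pairHom hb).range := by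
  ext x
  rw [S.mem_VV hb, MonoidHom.mem_range]
  exact ⟨fun ⟨v, hv, w, hw, e⟩ => ⟨(⟨v, hv⟩, ⟨w, hw⟩), e.symm⟩,
    fun ⟨⟨v, w⟩, e⟩ => ⟨v, v.2, w, w.2, e.symm⟩⟩

/-- The projection to the second four-group. -/
noncomputable def Data.proj : S.VV hb →* Four :=
  (MonoidHom.snd Four Four).comp ((MonoidHom.ofInjective (S.pairHom_injective hb)).symm.toMonoidHom.comp
    (inclusion (S.VV_eq_range hb).le))

theorem Data.proj_apply {q : Perm (Fin 5)} (hq : q ∈ Four) (h : S.j5 q ∈ S.VV hb) :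
    S.proj hb ⟨S.j5 q, h⟩ = ⟨q, hq⟩ := by
  show ((MonoidHom.ofInjective (S.pairHom_injective hb)).symm _).2 = _
  have e : (MonoidHom.ofInjective (S.pairHom_injective hb)).symm
      (inclusion (S.VV_eq_range hb).le ⟨S.j5 q, h⟩) = (1, ⟨q, hq⟩) := by
    rw [MulEquiv.symm_apply_eq]
    refine Subtype.ext ?_
    show S.j5 q = S.pairHom hb (1, ⟨q, hq⟩)
    rw [S.pairHom_apply hb]
    simp
  rw [e]

theorem Data.i5_VV {p : Perm (Fin 5)} (hp : p ∈ Four) : S.i5 p ∈ S.VV hb :=
  (S.mem_VV hb).2 ⟨p, hp, 1, one_mem _, by rw [map_one, mul_one]⟩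

theorem Data.j5_VV {q : Perm (Fin 5)} (hq : q ∈ Four) : S.j5 q ∈ S.VV hb :=
  (S.mem_VV hb).2 ⟨1, one_mem _, q, hq, by rw [map_one, one_mul]⟩

/-- An element of the core commuting with `e` has second component in the four-group. -/
theorem Data.core_cent_e {n : G} (hn : n ∈ S.core hb) (hc : Commute n S.e) :
    ∃ a ∈ alternatingGroup (Fin 5), ∃ b ∈ Four, n = S.i5 a * S.j5 b := by
  obtain ⟨a, ha, b, hb', rfl⟩ := (S.mem_core hb).1 hn
  refine ⟨a, ha, b, mem_Four.2 (cent_q0_even b (Equiv.Perm.mem_alternatingGroup.1 hb') ?_), rfl⟩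
  rw [S.e_eq hb] at hc
  have h1 : Commute (S.j5 b) (S.j5 q0) := by
    have := (S.commute_AA hb ha (Four_le q0_mem)).inv_left.mul_left hc
    rwa [inv_mul_cancel_left] at this
  exact S.j5_inj (by rw [map_mul, map_mul, h1.eq])

theorem Data.i5_even {q : Perm (Fin 5)} (h : S.i5 q ∈ S.core hb) : q ∈ alternatingGroup (Fin 5) := by
  by_contra hq
  rw [Equiv.Perm.mem_alternatingGroup] at hq
  have hq' : q * t34 ∈ alternatingGroup (Fin 5) := by
    rw [Equiv.Perm.mem_alternatingGroup, map_mul, (Int.units_eq_one_or _).resolve_left hq]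
    decide
  have hsc := mul_mem (inv_mem h) (S.i5_mem_core hb hq')
  rw [← map_inv, ← map_mul, inv_mul_cancel_left] at hsc
  exact S.s_ne (S.T4_disjoint hb (S.mem_T4.2 (Or.inr (Or.inl rfl))) hsc)

variable {S} {hb} in
theorem Four4.σ_conj (F : Four4 S hb) {g : G} (hg : g ∈ F.K) : S.σ * g * S.σ ∈ F.K := by
  have := F.normal.conj_mem g hg S.σ
  rwa [S.σinv] at this

variable {S} {hb} in
/-- The elements of `K` centralising `e` and `c`. -/
theorem Four4.cent_e_c (F : Four4 S hb) {g : G} (hg : g ∈ F.K) (he : Commute g S.e)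
    (hc : Commute g S.c) : ∃ k : ℕ, ∃ v ∈ Four, g = S.c ^ k * S.j5 v := by
  have hg' := F.σ_conj hg
  have hz : Commute (S.σ * g * S.σ) S.z := S.σc ▸ S.σ_commute hc
  have hf : Commute (S.σ * g * S.σ) S.f := S.σe' ▸ S.σ_commute he
  obtain ⟨a, q, e, ha⟩ := S.cent_z hz
  obtain ⟨k, hk⟩ : ∃ k : ℕ, S.i3 a = S.z ^ k := by
    rcases ha with rfl | rfl | rfl
    exacts [⟨0, by simp⟩, ⟨1, (pow_one _).symm⟩, ⟨2, by rw [pow_two, map_mul]; rfl⟩]
  have hzc : S.z ^ k ∈ S.core hb := pow_mem (S.D_le_core hb S.z_mem) k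
  have hqK : S.i5 q ∈ F.K := by
    rw [e, hk] at hg'
    have := mul_mem (inv_mem (F.core_le hzc)) hg'
    rwa [inv_mul_cancel_left] at this
  have hq := S.i5_even hb (F.meet _ (S.i5_mem_X hb q) hqK)
  have hqF : q ∈ Four := by
    refine mem_Four.2 (cent_q0_even q (Equiv.Perm.mem_alternatingGroup.1 hq) ?_)
    rw [e, hk] at hf
    have h1 : Commute (S.i5 q) S.f := by
      have hzf : Commute (S.z ^ k) S.f := by
        refine Commute.pow_left ?_ k
        exact S.comm rho S.b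
      have := hzf.inv_left.mul_left hf
      rwa [inv_mul_cancel_left] at this
    rw [S.f_eq hb] at h1
    exact S.i5_inj (by rw [map_mul, map_mul, h1.eq])
  refine ⟨k, q, hqF, ?_⟩
  calc g = S.σ * (S.σ * g * S.σ) * S.σ := (S.σσ g).symm
    _ = S.σ * (S.z ^ k * S.i5 q) * S.σ := by rw [e, hk]
    _ = _ := by
      have h2 : ∀ n : ℕ, S.σ * S.z ^ n * S.σ = S.c ^ n := by
        intro n
        induction n with
        | zero => simp [S.σ2]
        | succ n ih => rw [pow_succ, pow_succ, S.σ_mul, ih, S.σz']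
      rw [S.σ_mul, h2, ← S.j5_apply]

variable {S} {hb} in
theorem Four4.not_32 (F : Four4 S hb) {H : Subgroup G} (hH : H ≤ F.K) : ¬ 32 ∣ Nat.card H := by
  intro h
  have h1 := h.trans (card_dvd_of_le hH)
  have h2 := ((S.VV hb).subgroupOf F.K).card_mul_index
  rw [Nat.card_congr (subgroupOfEquivOfLe F.VV_le).toEquiv, S.card_VV hb] at h2
  rw [← h2] at h1
  exact F.odd_index (Nat.dvd_of_mul_dvd_mul_left (k := 16) (by norm_num) h1)

variable {S} {hb} in
/-- `VV` is a Sylow subgroup of every subgroup of `K` containing it. -/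
theorem Four4.odd_relIndex (F : Four4 S hb) {H : Subgroup G} (h1 : S.VV hb ≤ H) (h2 : H ≤ F.K) :
    ¬ 2 ∣ ((S.VV hb).subgroupOf H).index := fun h =>
  F.odd_index (h.trans (Dvd.intro _ (relIndex_mul_relIndex _ _ _ h1 h2)))

variable {S} {hb} in
/-- A subgroup of `K` between `VV` and `K` as a group with Sylow subgroup `VV`. -/
def Four4.sylOf (F : Four4 S hb) {H : Subgroup G} (h1 : S.VV hb ≤ H) (h2 : H ≤ F.K) : Sylow 2 H :=
  haveI : Fact (Nat.Prime 2) := ⟨Nat.prime_two⟩
  (IsPGroup.of_card (n := 4)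
    ((Nat.card_congr (subgroupOfEquivOfLe h1).toEquiv).trans ((S.card_VV hb).trans (by norm_num)))).toSylow
    (F.odd_relIndex h1 h2)

variable {S} {hb} in
theorem Four4.sylOf_norm (F : Four4 S hb) {H : Subgroup G} (h1 : S.VV hb ≤ H) (h2 : H ≤ F.K) {n : H}
    (hn : n ∈ normalizer ((F.sylOf h1 h2 : Subgroup H) : Set H)) : (n : G) ∈ S.core hb := by
  refine F.norm_le (h2 n.2) (mem_normalizer_of_conj_mem fun w hw => ?_)
  exact (mem_normalizer_iff.1 hn ⟨w, h1 hw⟩).1 hw

variable {S} {hb} in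
open scoped IsMulCommutative in
/-- `C_K(e)` lies in the core. -/
theorem Four4.cent_e (F : Four4 S hb) {g : G} (hg : g ∈ F.K) (he : Commute g S.e) : g ∈ S.core hb := by
  classical
  have : Fact (Nat.Prime 2) := ⟨Nat.prime_two⟩
  set C1 : Subgroup G := F.K ⊓ centralizer {S.e} with hC1
  have hVC : S.VV hb ≤ C1 := le_inf F.VV_le fun x hx =>
    mem_centralizer_singleton_iff.2 (S.VV_commute hb hx (S.e_mem_VV hb)).eq
  have hK : C1 ≤ F.K := inf_le_left
  set H : Subgroup C1 := (S.VV hb).subgroupOf C1 with hH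
  have : IsMulCommutative H :=
    ⟨⟨fun u v => Subtype.ext (Subtype.ext (S.VV_commute hb u.2 v.2).eq)⟩⟩
  have hPc : IsMulCommutative (F.sylOf hVC hK : Subgroup C1) :=
    ⟨⟨fun u v => Subtype.ext (Subtype.ext (S.VV_commute hb u.2 v.2).eq)⟩⟩
  let ψ : C1 →* Four := ((S.proj hb).comp (subgroupOfEquivOfLe hVC).toMonoidHom).comp
    (MonoidHom.transfer (MonoidHom.id H))
  have hj : ∀ q (hq : q ∈ Four), ψ ⟨S.j5 q, hVC (S.j5_VV hb hq)⟩ = ⟨q, hq⟩ := by
    intro q hq
    set x : C1 := ⟨S.j5 q, hVC (S.j5_VV hb hq)⟩ with hx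
    have hx2 : x ^ 2 = 1 := Subtype.ext (by
      rw [pow_two]; show S.j5 q * S.j5 q = 1
      rw [← map_mul, (four_facts q q (mem_Four.1 hq) (mem_Four.1 hq)).2, map_one])
    have key : ∀ (k : ℕ) (g₀ : C1), g₀⁻¹ * x ^ k * g₀ ∈ H → g₀⁻¹ * x ^ k * g₀ = x ^ k := by
      intro k g₀ hk
      obtain ⟨r, hr, hxr⟩ : ∃ r ∈ Four, ((x ^ k : C1) : G) = S.j5 r :=
        ⟨q ^ k, pow_mem hq k, by rw [map_pow]; rfl⟩
      obtain ⟨n, hn, e⟩ := (F.sylOf hVC hK).conj_eq_normalizer_conj_of_mem (x ^ k) g₀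
        (show (x ^ k) ∈ H from mem_subgroupOf.2 (hxr ▸ S.j5_VV hb hr)) hk
      rw [e]
      obtain ⟨a, ha, b, hb', hn'⟩ := S.core_cent_e hb (F.sylOf_norm hVC hK hn)
        (mem_centralizer_singleton_iff.1 n.2.2)
      have hc : Commute ((n : G)) (S.j5 r) := by
        rw [hn']
        exact (S.commute_AA hb ha (Four_le hr)).mul_left (by
          rw [commute_iff_eq, ← map_mul, ← map_mul, (four_facts b r (mem_Four.1 hb') (mem_Four.1 hr)).1])
      refine Subtype.ext ?_
      push_cast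
      rw [show ((x : G)) ^ k = S.j5 r from hxr, mul_assoc, ← hc.eq, inv_mul_cancel_left]
    show (S.proj hb) (subgroupOfEquivOfLe hVC (MonoidHom.transfer (MonoidHom.id H) x)) = _
    rw [MonoidHom.transfer_eq_pow (MonoidHom.id H) x key]
    have hodd : x ^ H.index = x := by
      obtain ⟨m, hm⟩ := Nat.odd_iff.2 (Nat.two_dvd_ne_zero.1 (F.odd_relIndex hVC hK))
      rw [hm, pow_succ, pow_mul, hx2, one_pow, one_mul]
    rw [← S.proj_apply hb hq (S.j5_VV hb hq)]
    congr 1
    exact Subtype.ext (congrArg (Subtype.val : C1 → G) hodd)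
  -- the kernel
  set M := ψ.ker with hM
  have hAC : ∀ a ∈ alternatingGroup (Fin 5), S.i5 a ∈ C1 := fun a ha =>
    ⟨F.core_le (S.i5_mem_core hb ha), mem_centralizer_singleton_iff.2 (S.comm tau a).symm.eq⟩
  let ι : alternatingGroup (Fin 5) →* C1 :=
    (S.i5.comp (alternatingGroup (Fin 5)).subtype).codRestrict C1 fun a => hAC a a.2
  have hιM : ∀ a, ι a ∈ M := by
    have htop : (ψ.comp ι).ker = ⊤ := (ψ.comp ι).normal_ker.eq_bot_or_eq_top.resolve_left fun e => by
      have h2 := Nat.card_le_card_of_injective _ ((MonoidHom.ker_eq_bot_iff _).1 e)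
      rw [card_Four, Nat.card_eq_fintype_card, card_alternatingGroup, Fintype.card_fin] at h2
      revert h2; decide
    intro a
    have : a ∈ (ψ.comp ι).ker := by rw [htop]; trivial
    exact this
  have hidx : M.index = 4 := by
    rw [hM, index_ker, (MonoidHom.range_eq_top (f := ψ)).2 fun q => ⟨_, hj (q : Perm (Fin 5)) q.2⟩,
      Nat.card_congr Subgroup.topEquiv.toEquiv, card_Four]
  let ιM : alternatingGroup (Fin 5) →* M := ι.codRestrict M hιM
  have hιinj : Function.Injective ιM := fun a b h =>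
    Subtype.ext (S.i5_inj (congrArg (fun x : M => ((x : C1) : G)) h))
  have h8 : ¬ 8 ∣ Nat.card M := fun h => F.not_32 hK (by
    rw [← M.card_mul_index, hidx]; exact Nat.mul_dvd_mul_right h 4)
  have hA60 : Nat.card (alternatingGroup (Fin 5)) = 60 := by
    rw [Nat.card_eq_fintype_card, card_alternatingGroup, Fintype.card_fin]; rfl
  have h60 : Nat.card M = 60 := by
    let c' : M := ιM ⟨cyc, cyc_even⟩
    have hc3 : c' ^ 3 = 1 := by
      rw [← map_pow, ← map_one ιM]; exact congrArg ιM (Subtype.ext (by decide))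
    have hc1 : c' ≠ 1 := fun e => by
      have := congrArg Subtype.val (hιinj (e.trans (map_one ιM).symm))
      exact absurd this (by decide)
    have : Fact (Nat.Prime 3) := ⟨Nat.prime_three⟩
    have hX : Nat.card (zpowers c') = 3 := by
      rw [Nat.card_zpowers]; exact orderOf_eq_prime hc3 hc1
    have hC : centralizer (zpowers c' : Set M) = zpowers c' := by
      refine le_antisymm (fun m hm => ?_) fun x hx => ?_
      · have hcomm : Commute (((m : C1)) : G) S.c :=
          (congrArg (fun x : M => ((x : C1) : G)) (mem_centralizer_iff.1 hm c' (mem_zpowers c'))).symm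
        obtain ⟨k, v, hv, e⟩ := F.cent_e_c m.1.2.1 (mem_centralizer_singleton_iff.1 m.1.2.2) hcomm
        have e' : (m : C1) = (c' : C1) ^ k * ⟨S.j5 v, hVC (S.j5_VV hb hv)⟩ := by
          refine Subtype.ext ?_; push_cast; exact e
        have h1 : ψ (m : C1) = 1 := m.2
        have h2 : ψ (c' : C1) = 1 := c'.2
        rw [e', map_mul, map_pow, h2, one_pow, one_mul, hj v hv] at h1
        obtain rfl : v = 1 := congrArg Subtype.val h1
        have e'' : m = c' ^ k := by
          refine Subtype.ext (Subtype.ext ?_)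
          push_cast
          rw [e, map_one, mul_one]
          rfl
        rw [e'']
        exact pow_mem (mem_zpowers c') k
      · refine mem_centralizer_iff.2 fun y hy => ?_
        obtain ⟨i, rfl⟩ := mem_zpowers_iff.1 hx
        obtain ⟨j, rfl⟩ := mem_zpowers_iff.1 hy
        exact (Commute.zpow_zpow_self c' j i).eq
    rcases Cfsg.Agent.S3331.result (G := M) (zpowers c') hX hC with
      ⟨N, hN, -, hcop, hq⟩ | ⟨N, hN, hNc, hN2, ⟨ψ5⟩⟩ | ⟨ψ7⟩
    · exfalso
      have hle : Nat.card (M ⧸ N) ≤ 6 := by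
        rcases hq with h | ⟨⟨e6⟩⟩
        · omega
        · rw [Nat.card_congr e6.toEquiv, Nat.card_perm, Nat.card_fin]; decide
      have htop : ((QuotientGroup.mk' N).comp ιM).ker = ⊤ :=
        ((QuotientGroup.mk' N).comp ιM).normal_ker.eq_bot_or_eq_top.resolve_left fun e => by
          have h2 := Nat.card_le_card_of_injective _ ((MonoidHom.ker_eq_bot_iff _).1 e)
          omega
      have hmem : ιM.range ≤ N := by
        rintro _ ⟨a, rfl⟩
        refine (QuotientGroup.eq_one_iff _).1 ?_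
        have : a ∈ ((QuotientGroup.mk' N).comp ιM).ker := by rw [htop]; trivial
        exact this
      have h := card_dvd_of_le hmem
      rw [← Nat.card_congr (MonoidHom.ofInjective hιinj).toEquiv, hA60] at h
      exact absurd (Nat.Coprime.eq_one_of_dvd (hcop.symm) ((by norm_num : 3 ∣ 60).trans h))
        (by norm_num)
    · have hcard : Nat.card M = 60 * Nat.card N := by
        rw [card_eq_card_quotient_mul_card_subgroup N, Nat.card_congr ψ5.toEquiv, hA60]
      by_contra hne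
      have hN1 : Nat.card N ≠ 1 := fun e => hne (by rw [hcard, e])
      obtain ⟨p, hp, hpd⟩ := Nat.exists_prime_and_dvd hN1
      have : Fact p.Prime := ⟨hp⟩
      obtain ⟨n, hn⟩ := exists_prime_orderOf_dvd_card' p hpd
      have hn2 : n ^ 2 = 1 := Subtype.ext (by push_cast; exact hN2 n n.2)
      have hp2 : p = 2 :=
        (Nat.prime_dvd_prime_iff_eq hp Nat.prime_two).1 (hn ▸ orderOf_dvd_of_pow_eq_one hn2)
      refine h8 (hcard ▸ ?_)
      exact (by norm_num : 8 ∣ 60 * 2).trans (Nat.mul_dvd_mul_left 60 (hp2 ▸ hpd))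
    · exfalso
      have h := Subgroup.card_subgroup_dvd_card ιM.range
      rw [← Nat.card_congr (MonoidHom.ofInjective hιinj).toEquiv, hA60, Nat.card_congr ψ7.some.toEquiv] at h
      have : Fact (Nat.Prime 7) := ⟨by norm_num⟩
      have h7 := CfsgLib.Perm.ZGroup.card_psl2_gcd (F := ZMod 7)
      rw [ZMod.card, show Nat.gcd 2 (7 - 1) = 2 from rfl] at h7
      omega
  have hsurj : Function.Surjective ιM :=
    (Nat.bijective_iff_injective_and_card ιM |>.2 ⟨hιinj, by rw [hA60, h60]⟩).2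
  -- decompose
  set x : C1 := ⟨g, hg, mem_centralizer_singleton_iff.2 he.eq⟩ with hx
  set j : C1 := ⟨S.j5 (ψ x : Perm (Fin 5)), hVC (S.j5_VV hb (ψ x).2)⟩ with hj'
  have hm : x * j⁻¹ ∈ M := by
    rw [hM, MonoidHom.mem_ker, map_mul, map_inv, hj', hj _ (ψ x).2, mul_inv_cancel]
  obtain ⟨a, ha⟩ := hsurj ⟨_, hm⟩
  have ha' : S.i5 (a : Perm (Fin 5)) = g * (S.j5 (ψ x : Perm (Fin 5)))⁻¹ :=
    congrArg (fun y : M => ((y : C1) : G)) ha
  exact (S.mem_core hb).2 ⟨a, a.2, _, Four_le (ψ x).2, by rw [ha', inv_mul_cancel_right]⟩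

variable {S} {hb} in
/-- `C_K(f)` lies in the core. -/
theorem Four4.cent_f (F : Four4 S hb) {g : G} (hg : g ∈ F.K) (hf : Commute g S.f) : g ∈ S.core hb := by
  have h := F.cent_e (F.σ_conj hg) (S.σf ▸ S.σ_commute hf)
  have hσ : S.σ ∈ normalizer (S.core hb : Set G) :=
    S.T4_le hb (S.mem_T4.2 (Or.inr (Or.inr (Or.inl rfl))))
  have := (mem_normalizer_iff.1 hσ _).1 h
  rwa [S.σinv, S.σσ] at this

variable {S} {hb} in
theorem Four4.cent_i5 (F : Four4 S hb) {g : G} (hg : g ∈ F.K) {p : Perm (Fin 5)} (hp : p ∈ Four)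
    (hp1 : p ≠ 1) (h : Commute g (S.i5 p)) : g ∈ S.core hb := by
  obtain ⟨x, hx, hxp⟩ := double_conj p (Equiv.Perm.mem_alternatingGroup.1 (Four_le hp))
    (four_facts p p (mem_Four.1 hp) (mem_Four.1 hp)).2 hp1
  have hxc := S.i5_mem_core hb (Equiv.Perm.mem_alternatingGroup.2 hx)
  have h1 := F.cent_f (g := S.i5 x * g * (S.i5 x)⁻¹) (F.normal.conj_mem g hg _) (by
    have := h.map (MulAut.conj (S.i5 x)).toMonoidHom
    simp only [MulEquiv.coe_toMonoidHom, MulAut.conj_apply] at this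
    rwa [← map_inv S.i5 x, ← map_mul, ← map_mul, hxp, ← S.f_eq hb, map_inv] at this)
  have := mul_mem (mul_mem (inv_mem hxc) h1) hxc
  rwa [show (S.i5 x)⁻¹ * (S.i5 x * g * (S.i5 x)⁻¹) * S.i5 x = g by group] at this

theorem Data.core_cent_ef {n : G} (hn : n ∈ S.core hb)
    (hc : Commute n (S.e * S.f)) : n ∈ S.VV hb := by
  obtain ⟨a, ha, b, hb', rfl⟩ := (S.mem_core hb).1 hn
  rw [S.e_eq hb, S.f_eq hb,
    show S.j5 q0 * S.i5 q0 = S.i5 q0 * S.j5 q0 from (S.commute_AA hb (Four_le q0_mem) (Four_le q0_mem)).symm.eq] at hc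
  have h0 := Four_le q0_mem
  have e1 : S.i5 (a * q0) * S.j5 (b * q0) = S.i5 (q0 * a) * S.j5 (q0 * b) := by
    simp only [map_mul]
    rw [← (S.commute_AA hb h0 hb').symm.mul_mul_mul_comm, ← (S.commute_AA hb ha h0).symm.mul_mul_mul_comm]
    exact hc.eq
  obtain ⟨ea, eb⟩ := (S.core_pair hb (mul_mem ha h0) (mul_mem h0 ha) (mul_mem hb' h0) (mul_mem h0 hb')).1 e1
  exact (S.mem_VV hb).2 ⟨a, mem_Four.2 (cent_q0_even a (Equiv.Perm.mem_alternatingGroup.1 ha) ea),
    b, mem_Four.2 (cent_q0_even b (Equiv.Perm.mem_alternatingGroup.1 hb') eb), rfl⟩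

variable {S} {hb} in
/-- `C_K(e f) = VV`. -/
theorem Four4.cent_ef (F : Four4 S hb) {g : G} (hg : g ∈ F.K) (he : Commute g (S.e * S.f)) :
    g ∈ S.VV hb := by
  have : Fact (Nat.Prime 2) := ⟨Nat.prime_two⟩
  set C2 : Subgroup G := F.K ⊓ centralizer {S.e * S.f} with hC2
  have hVC : S.VV hb ≤ C2 := le_inf F.VV_le fun x hx => mem_centralizer_singleton_iff.2
    (S.VV_commute hb hx (mul_mem (S.e_mem_VV hb) (S.f_mem_VV hb))).eq
  have hK : C2 ≤ F.K := inf_le_left
  set P := F.sylOf hVC hK with hP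
  have hNC : normalizer ((P : Subgroup C2) : Set C2) ≤ centralizer ((P : Subgroup C2) : Set C2) := by
    intro n hn
    have h := S.core_cent_ef hb (F.sylOf_norm hVC hK hn) (mem_centralizer_singleton_iff.1 n.2.2)
    exact mem_centralizer_iff.2 fun y hy => Subtype.ext (S.VV_commute hb hy h).eq
  set M := (MonoidHom.transferSylow P hNC).ker with hM
  have hcompl : IsComplement' M (P : Subgroup C2) := MonoidHom.ker_transferSylow_isComplement' P hNC
  have hfree : ∀ p (hp : p ∈ Four), p ≠ 1 →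
      ∀ m : M, ((m : C2) : G)⁻¹ = S.i5 p * ((m : C2) : G) * (S.i5 p)⁻¹ := by
    intro p hp hp1
    set v : C2 := ⟨S.i5 p, hVC (S.i5_VV hb hp)⟩ with hv
    let φ : M ≃* M := MulAut.conjNormal v
    have hfp : MonoidHom.FixedPointFree φ := fun m hm => by
      have e : S.i5 p * ((m : C2) : G) * (S.i5 p)⁻¹ = ((m : C2) : G) :=
        congrArg (fun y : M => ((y : C2) : G)) hm
      have hc : Commute ((m : C2) : G) (S.i5 p) := (mul_inv_eq_iff_eq_mul.1 e).symm
      have hmc := F.cent_i5 m.1.2.1 hp hp1 hc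
      have hmV := S.core_cent_ef hb hmc (mem_centralizer_singleton_iff.1 m.1.2.2)
      exact Subtype.ext ((disjoint_def.1 hcompl.disjoint) m.2 hmV)
    have hinv : Function.Involutive φ := fun m => by
      refine Subtype.ext (Subtype.ext ?_)
      show S.i5 p * (S.i5 p * ((m : C2) : G) * (S.i5 p)⁻¹) * (S.i5 p)⁻¹ = _
      rw [show S.i5 p * (S.i5 p * ((m : C2) : G) * (S.i5 p)⁻¹) * (S.i5 p)⁻¹ =
        S.i5 p * S.i5 p * ((m : C2) : G) * (S.i5 p * S.i5 p)⁻¹ by group, ← map_mul,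
        (four_facts p p (mem_Four.1 hp) (mem_Four.1 hp)).2, map_one, one_mul, inv_one, mul_one]
    intro m
    exact (congrArg (fun y : M => ((y : C2) : G))
      (congrFun (hfp.coe_eq_inv_of_involutive hinv) m)).symm
  have hM1 : M = ⊥ := (eq_bot_iff_forall _).2 fun m hm => by
    have h0 := hfree q0 q0_mem (by decide) ⟨m, hm⟩
    have h1 := hfree q1 q1_mem (by decide) ⟨m, hm⟩
    have h01 := hfree (q0 * q1) (mul_mem q0_mem q1_mem) (by decide) ⟨m, hm⟩
    simp only at h0 h1 h01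
    have hc : ((m : G))⁻¹ = (m : G) := by
      rw [h01, map_mul, mul_inv_rev]
      calc S.i5 q0 * S.i5 q1 * (m : G) * ((S.i5 q1)⁻¹ * (S.i5 q0)⁻¹)
          = S.i5 q0 * (S.i5 q1 * (m : G) * (S.i5 q1)⁻¹) * (S.i5 q0)⁻¹ := by group
        _ = S.i5 q0 * ((m : G))⁻¹ * (S.i5 q0)⁻¹ := by rw [← h1]
        _ = (S.i5 q0 * (m : G) * (S.i5 q0)⁻¹)⁻¹ := by group
        _ = _ := by rw [← h0, inv_inv]
    have hm2 : m ^ 2 = 1 := Subtype.ext (by
      push_cast; rw [pow_two]; exact mul_eq_one_iff_eq_inv.2 hc.symm)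
    by_contra hm1
    have h2 := orderOf_eq_prime hm2 hm1
    have h3 : orderOf m ∣ Nat.card M := orderOf_dvd_natCard M hm
    rw [h2] at h3
    exact MonoidHom.not_dvd_card_ker_transferSylow P hNC h3
  have htop : (P : Subgroup C2) = ⊤ := isComplement'_bot_left.1 (hM1 ▸ hcompl)
  have : (⟨g, hg, mem_centralizer_singleton_iff.2 he.eq⟩ : C2) ∈ (P : Subgroup C2) := by
    rw [htop]; trivial
  exact this

end CfsgLib.ThreeLocalS8
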