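import Cfsg.Agent.Lib.Recognition.ThreeLocalS8.IndexFour

/-!
# The core contains the normaliser in `K` of its Sylow 2-subgroup
-/

set_option autoImplicit false
set_option linter.unusedSectionVars false
set_option maxRecDepth 20000

namespace CfsgLib.ThreeLocalS8

open Equiv Subgroup

theorem c2_cycles : c2 * q0 * c2⁻¹ ≠ q0 ∧
    ∀ v : Perm (Fin 5), (v = 1 ∨ v = q0 ∨ v = q1 ∨ v = q0 * q1) → v ≠ 1 →
      ∃ i : Fin 3, c2 ^ (i : ℕ) * q0 * (c2 ^ (i : ℕ))⁻¹ = v := by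
  decide +kernel

variable {G : Type*} [Group G] [Finite G] (S : Data G) (hb : S.b = t01 * t34)

include hb

theorem Data.VV_le_P2 : S.VV hb ≤ S.P2 hb := le_sup_left

variable {S} {hb} in
theorem Four4.VV_le (F : Four4 S hb) : S.VV hb ≤ F.K := (S.VV_le_core hb).trans F.core_le

variable {S} {hb} in
theorem Four4.sup_X (F : Four4 S hb) : S.X hb ⊔ F.K = ⊤ := by
  have := F.normal
  have h1 : F.K.relIndex (S.X hb) = 4 := by
    have hmeet : F.K.subgroupOf (S.X hb) = (S.core hb).subgroupOf (S.X hb) := by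
      ext x
      rw [mem_subgroupOf, mem_subgroupOf]
      exact ⟨F.meet _ x.2, fun h => F.core_le h⟩
    have hle : S.core hb ≤ S.X hb := le_sup_left
    have h2 := ((S.core hb).subgroupOf (S.X hb)).card_mul_index
    rw [Nat.card_congr (subgroupOfEquivOfLe hle).toEquiv, S.card_core hb, S.card_X hb, S.card_T4 hb] at h2
    rw [relIndex, hmeet]
    omega
  have h3 := relIndex_mul_index (le_sup_right : F.K ≤ S.X hb ⊔ F.K)
  rw [relIndex_sup_right, h1, F.index] at h3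
  exact index_eq_one.1 (by omega)

variable {S} {hb} in
theorem Four4.odd_index (F : Four4 S hb) : ¬ 2 ∣ ((S.VV hb).subgroupOf F.K).index := by
  intro h2
  have h1 := ((S.VV hb).subgroupOf F.K).card_mul_index
  rw [Nat.card_congr (subgroupOfEquivOfLe F.VV_le).toEquiv, S.card_VV hb] at h1
  have hG := F.K.card_mul_index
  rw [F.index, ← (S.X hb).card_mul_index, S.card_X hb, S.card_T4 hb] at hG
  obtain ⟨k, hk⟩ := S.index_odd hb
  obtain ⟨m, hm⟩ := h2
  rw [hm] at h1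
  rw [← h1, hk] at hG
  omega

variable {S} {hb} in
/-- `VV` as a Sylow 2-subgroup of `K`. -/
def Four4.syl (F : Four4 S hb) : Sylow 2 F.K :=
  haveI : Fact (Nat.Prime 2) := ⟨Nat.prime_two⟩
  (IsPGroup.of_card (n := 4)
    ((Nat.card_congr (subgroupOfEquivOfLe F.VV_le).toEquiv).trans ((S.card_VV hb).trans (by norm_num)))).toSylow
    F.odd_index

variable {S} {hb} in
theorem Four4.syl_eq (F : Four4 S hb) : (F.syl : Subgroup F.K) = (S.VV hb).subgroupOf F.K := rfl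

variable {S} {hb} in
/-- An odd power of an element of `N_K(VV)` lies in `VV`. -/
theorem Four4.odd_power (F : Four4 S hb) {g : G} (hg : g ∈ F.K)
    (hn : g ∈ normalizer (S.VV hb : Set G)) : ∃ m : ℕ, Odd m ∧ g ^ m ∈ S.VV hb := by
  have : Fact (Nat.Prime 2) := ⟨Nat.prime_two⟩
  obtain ⟨k, m, hm, hkm⟩ := Nat.exists_eq_two_pow_mul_odd (orderOf_pos (⟨g, hg⟩ : F.K)).ne'
  refine ⟨m, hm, ?_⟩
  set g' : F.K := ⟨g, hg⟩ ^ m with hg'
  have hp : IsPGroup 2 (zpowers g') := by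
    refine IsPGroup.of_card (n := k) ?_
    rw [Nat.card_zpowers, hg', orderOf_pow' _ (Nat.pos_iff_ne_zero.1 hm.pos), hkm,
      Nat.gcd_eq_right (dvd_mul_left m (2 ^ k)), Nat.mul_div_cancel _ hm.pos]
  have hgn : g' ∈ normalizer ((F.syl : Subgroup F.K) : Set F.K) := by
    rw [F.syl_eq]
    refine mem_normalizer_of_conj_mem fun x hx => ?_
    rw [mem_subgroupOf] at hx ⊢
    push_cast [hg']
    exact (mem_normalizer_iff.1 (pow_mem hn m) _).1 hx
  have h := hp.inf_normalizer_sylow F.syl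
  have hmem : g' ∈ zpowers g' ⊓ (F.syl : Subgroup F.K) := by
    rw [← h]; exact ⟨mem_zpowers _, hgn⟩
  have h2 := hmem.2
  rw [hg'] at h2
  exact h2

theorem Data.single_cases {v : G} (hv : v ∈ S.VV hb) :
    (∃ p ∈ Four, v = S.i5 p) ∨ (∃ q ∈ Four, v = S.j5 q) ∨ ∃ k, k * v * k⁻¹ = S.e * S.f := by
  obtain ⟨p, hp, q, hq, rfl⟩ := (S.mem_VV hb).1 hv
  have h2 : ∀ {r}, r ∈ Four → r * r = 1 := fun {r} hr => by
    rcases mem_Four.1 hr with rfl | rfl | rfl | rfl <;> decide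
  by_cases hp1 : p = 1
  · subst hp1; exact Or.inr (Or.inl ⟨q, hq, by rw [map_one, one_mul]⟩)
  by_cases hq1 : q = 1
  · subst hq1; exact Or.inl ⟨p, hp, by rw [map_one, mul_one]⟩
  obtain ⟨n, -, hn⟩ := S.double_to_ef hb (Four_le hp) (Four_le hq) (h2 hp) hp1 (h2 hq) hq1
  exact Or.inr (Or.inr ⟨n, hn⟩)

theorem Data.cent_VV {g : G} (h0 : Commute g S.f) (h1 : Commute g S.f1) : g ∈ S.core hb := by
  obtain ⟨v, hv, q, hq, e⟩ := S.cent_V hb (g := g)
    (mem_centralizer_iff.2 fun y hy => (S.commute_V hb h0 h1 hy).symm.eq)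
  exact (S.mem_core hb).2 ⟨v, Four_le hv, q, hq, e⟩

variable {S} {hb} in
/-- The normaliser of `VV` in `K` lies in the core. -/
theorem Four4.norm_le (F : Four4 S hb) {g : G} (hg : g ∈ F.K)
    (hn : g ∈ normalizer (S.VV hb : Set G)) : g ∈ S.core hb := by
  have hq0F : q0 ∈ Four := mem_Four.2 (Or.inr (Or.inl rfl))
  have hq1F : q1 ∈ Four := mem_Four.2 (Or.inr (Or.inr (Or.inl rfl)))
  have hi : ∀ {p}, p ∈ Four → S.i5 p ∈ S.VV hb := fun {p} hp =>
    (S.mem_VV hb).2 ⟨p, hp, 1, one_mem _, by rw [map_one, mul_one]⟩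
  have hfVV : S.f ∈ S.VV hb := S.f_mem_VV hb
  have hff1 : Commute S.f S.f1 := S.f_f1 hb
  have hsingle : ∀ p ∈ Four, p ≠ 1 → ∀ k, k * S.i5 p * k⁻¹ ≠ S.e * S.f := by
    intro p hp hp1 k e
    obtain ⟨x, -, hx⟩ := double_conj p (Equiv.Perm.mem_alternatingGroup.1 (Four_le hp))
      (by rcases mem_Four.1 hp with rfl | rfl | rfl | rfl <;> decide) hp1
    refine S.f_not_ef hb (k * (S.i5 x)⁻¹) ?_
    rw [← e, S.f_eq hb, ← hx, map_mul, map_mul, map_inv]; group
  -- the image of `V` is `V` or its transform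
  have himg : ∀ p ∈ Four, p ≠ 1 → ∀ h ∈ normalizer (S.VV hb : Set G),
      (∃ r ∈ Four, h * S.i5 p * h⁻¹ = S.i5 r) ∨ ∃ r ∈ Four, h * S.i5 p * h⁻¹ = S.j5 r := by
    intro p hp hp1 h hh
    rcases S.single_cases hb ((mem_normalizer_iff.1 hh _).1 (hi hp)) with h' | h' | ⟨k, hk⟩
    · exact Or.inl h'
    · exact Or.inr h'
    · exact absurd (show k * h * S.i5 p * (k * h)⁻¹ = S.e * S.f by rw [← hk]; group)
        (hsingle p hp hp1 (k * h))
  have hmix : ∀ {a b : Perm (Fin 5)}, a ∈ Four → b ∈ Four → a ≠ 1 → b ≠ 1 →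
      ∀ c ∈ Four, S.i5 a * S.j5 b ≠ S.i5 c ∧ S.i5 a * S.j5 b ≠ S.j5 c := by
    intro a b ha hb' ha1 hb1 c hc
    refine ⟨fun e => hb1 ?_, fun e => ha1 ?_⟩
    · exact ((S.core_pair hb (Four_le ha) (Four_le hc) (Four_le hb') (one_mem _)).1
        (by rw [e, map_one, mul_one])).2
    · exact ((S.core_pair hb (Four_le ha) (one_mem _) (Four_le hb') (Four_le hc)).1
        (by rw [e, map_one, one_mul])).1
  have hne : ∀ {p}, p ∈ Four → p ≠ 1 → ∀ h : G, ∀ r, h * S.i5 p * h⁻¹ = S.i5 r → r ≠ 1 := by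
    intro p hp hp1 h r e hr
    rw [hr, map_one, conj_eq_one_iff] at e
    exact hp1 (S.i5_eq_one e)
  have hne' : ∀ {p}, p ∈ Four → p ≠ 1 → ∀ h : G, ∀ r, h * S.i5 p * h⁻¹ = S.j5 r → r ≠ 1 := by
    intro p hp hp1 h r e hr
    rw [hr, map_one, conj_eq_one_iff] at e
    exact hp1 (S.i5_eq_one e)
  -- the whole of `V` goes to one of them
  have hwhole : ∀ h ∈ normalizer (S.VV hb : Set G), (∃ r ∈ Four, h * S.f * h⁻¹ = S.i5 r) →
      ∀ p ∈ Four, ∃ r ∈ Four, h * S.i5 p * h⁻¹ = S.i5 r := by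
    intro h hh ⟨r0, hr0, e0⟩ p hp
    by_cases hp1 : p = 1
    · subst hp1; exact ⟨1, one_mem _, by simp⟩
    rw [S.f_eq hb] at e0
    rcases himg p hp hp1 h hh with h' | ⟨r, hr, e⟩
    · exact h'
    exfalso
    by_cases hpq : p = q0
    · subst hpq
      rw [e0] at e
      exact hne' hp hp1 h r (e0.trans e) ((S.core_pair hb (Four_le hr0) (one_mem _) (one_mem _)
        (Four_le hr)).1 (by rw [map_one, map_one, mul_one, one_mul, e])).2.symm
    have hp' : q0 * p ∈ Four := mul_mem hq0F hp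
    have hp'1 : q0 * p ≠ 1 := fun e' => hpq (by
      rw [← eq_inv_of_mul_eq_one_right e' |>.symm]; decide)
    have e1 : h * S.i5 (q0 * p) * h⁻¹ = S.i5 r0 * S.j5 r := by
      rw [map_mul, show h * (S.i5 q0 * S.i5 p) * h⁻¹ = h * S.i5 q0 * h⁻¹ * (h * S.i5 p * h⁻¹) by group,
        e0, e]
    have hr1 := hne' hp hp1 h r e
    have hr01 := hne hq0F (by decide) h r0 e0
    rcases himg _ hp' hp'1 h hh with ⟨c, hc, ec⟩ | ⟨c, hc, ec⟩
    · exact (hmix hr0 hr hr01 hr1 c hc).1 (e1.symm.trans ec)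
    · exact (hmix hr0 hr hr01 hr1 c hc).2 (e1.symm.trans ec)
  have hwhole' : ∀ h ∈ normalizer (S.VV hb : Set G), (∃ r ∈ Four, h * S.f * h⁻¹ = S.j5 r) →
      ∀ p ∈ Four, ∃ r ∈ Four, h * S.i5 p * h⁻¹ = S.j5 r := by
    intro h hh ⟨r0, hr0, e0⟩ p hp
    have hσn : S.σ ∈ normalizer (S.VV hb : Set G) :=
      S.T4_VV hb (S.mem_T4.2 (Or.inr (Or.inr (Or.inl rfl))))
    obtain ⟨r, hr, e⟩ := hwhole (S.σ * h) (mul_mem hσn hh) ⟨r0, hr0, by
      rw [show S.σ * h * S.f * (S.σ * h)⁻¹ = S.σ * (h * S.f * h⁻¹) * S.σ⁻¹ by group, e0, S.σinv,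
        S.j5_apply, S.σσ]⟩ p hp
    refine ⟨r, hr, ?_⟩
    rw [S.j5_apply, ← e, mul_inv_rev, S.σinv]
    calc h * S.i5 p * h⁻¹ = (S.σ * S.σ) * (h * S.i5 p * h⁻¹) * (S.σ * S.σ) := by
          rw [S.σ2, one_mul, mul_one]
      _ = _ := by group
  -- no element of odd order modulo `VV` exchanges them or induces a transposition
  have hodd : ∀ h, h ∈ F.K → h ∈ normalizer (S.VV hb : Set G) → ∀ (x : G), x ∈ S.VV hb →
      h * (h * x * h⁻¹) * h⁻¹ = x → h * x * h⁻¹ = x := by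
    intro h hhK hh x hx e
    obtain ⟨m, ⟨j, hj⟩, hm⟩ := F.odd_power hhK hh
    have e2 : ∀ j : ℕ, h ^ (2 * j) * x * (h ^ (2 * j))⁻¹ = x := by
      intro j
      induction j with
      | zero => simp
      | succ j ih =>
        rw [show 2 * (j + 1) = 2 + 2 * j by ring, pow_add]
        calc h ^ 2 * h ^ (2 * j) * x * (h ^ 2 * h ^ (2 * j))⁻¹
            = h * (h * (h ^ (2 * j) * x * (h ^ (2 * j))⁻¹) * h⁻¹) * h⁻¹ := by group
          _ = x := by rw [ih, e]
    have e3 : h ^ m * x * (h ^ m)⁻¹ = x := by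
      rw [(S.VV_commute hb hm hx).eq, mul_inv_cancel_right]
    rw [hj, pow_add, pow_one] at e3
    calc h * x * h⁻¹ = h * (h ^ (2 * j) * x * (h ^ (2 * j))⁻¹) * h⁻¹ := by rw [e2]
      _ = h ^ (2 * j) * h * x * (h ^ (2 * j) * h)⁻¹ := by group
      _ = x := e3
  -- `g` stabilises `V`
  have hgV : ∃ r ∈ Four, g * S.f * g⁻¹ = S.i5 r := by
    rcases himg q0 hq0F (by decide) g hn with h' | ⟨r, hr, e⟩
    · rwa [S.f_eq hb]
    exfalso
    rw [← S.f_eq hb] at e
    -- the square fixes the transform of `V`, so `g` fixes it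
    have hg2 : ∀ p ∈ Four, ∃ r ∈ Four, g * g * S.i5 p * (g * g)⁻¹ = S.i5 r := by
      refine hwhole (g * g) (mul_mem hn hn) ?_
      rcases himg q0 hq0F (by decide) (g * g) (mul_mem hn hn) with h' | ⟨c, hc, ec⟩
      · rwa [S.f_eq hb]
      exfalso
      -- then `g` maps both to the transform
      rw [← S.f_eq hb] at ec
      have hb2 : S.f * S.f = 1 := S.f2
      obtain ⟨m, ⟨j, hj⟩, hm⟩ := F.odd_power hg hn
      have key : ∀ n : ℕ, 1 ≤ n → ∀ p ∈ Four, ∃ c ∈ Four, g ^ n * S.i5 p * (g ^ n)⁻¹ = S.j5 c := by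
        intro n hn1
        induction n, hn1 using Nat.le_induction with
        | base =>
          intro p hp
          rw [pow_one]
          exact hwhole' g hn ⟨r, hr, e⟩ p hp
        | succ n _ ih =>
          intro p hp
          have hgg : ∀ p ∈ Four, ∃ c ∈ Four, g * S.j5 p * g⁻¹ = S.j5 c := by
            intro p hp
            obtain ⟨p', hp', hp''⟩ : ∃ p' ∈ Four, g * S.i5 p' * g⁻¹ = S.j5 p := by
              let φ : Four → Four := fun p' => ⟨(hwhole' g hn ⟨r, hr, e⟩ p' p'.2).choose,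
                (hwhole' g hn ⟨r, hr, e⟩ p' p'.2).choose_spec.1⟩
              have hφ : Function.Injective φ := fun a b hab => by
                have ha := (hwhole' g hn ⟨r, hr, e⟩ a a.2).choose_spec.2
                have hb' := (hwhole' g hn ⟨r, hr, e⟩ b b.2).choose_spec.2
                rw [show (hwhole' g hn ⟨r, hr, e⟩ a a.2).choose = (hwhole' g hn ⟨r, hr, e⟩ b b.2).choose
                  from congrArg Subtype.val hab, ← hb'] at ha
                exact Subtype.ext (S.i5_inj (mul_left_cancel (mul_right_cancel ha)))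
              obtain ⟨p', hp'⟩ := (Finite.injective_iff_surjective.1 hφ) ⟨p, hp⟩
              exact ⟨p', p'.2, (hwhole' g hn ⟨r, hr, e⟩ p' p'.2).choose_spec.2.trans
                (congrArg (fun q : Four => S.j5 q) hp')⟩
            obtain ⟨c', hc', ec'⟩ := hwhole' (g * g) (mul_mem hn hn) ⟨c, hc, ec⟩ p' hp'
            refine ⟨c', hc', ?_⟩
            rw [← hp'', ← ec']; group
          obtain ⟨c1, hc1, e1⟩ := ih p hp
          obtain ⟨c2, hc2, e2⟩ := hgg c1 hc1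
          refine ⟨c2, hc2, ?_⟩
          rw [← e2, ← e1, pow_succ']; group
      obtain ⟨c1, hc1, e1⟩ := key m (by omega) q0 hq0F
      rw [(S.VV_commute hb hm (hi hq0F)).eq, mul_inv_cancel_right] at e1
      exact absurd ((S.core_pair hb (Four_le hq0F) (one_mem _) (one_mem _) (Four_le hc1)).1
        (by rw [map_one, map_one, mul_one, one_mul, e1])).1 (by decide)
    obtain ⟨m, ⟨j, hj⟩, hm⟩ := F.odd_power hg hn
    have e2 : ∀ j : ℕ, ∀ p ∈ Four, ∃ c ∈ Four, g ^ (2 * j) * S.i5 p * (g ^ (2 * j))⁻¹ = S.i5 c := by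
      intro j
      induction j with
      | zero => exact fun p hp => ⟨p, hp, by simp⟩
      | succ j ih =>
        intro p hp
        obtain ⟨c, hc, ec⟩ := ih p hp
        obtain ⟨c', hc', ec'⟩ := hg2 c hc
        refine ⟨c', hc', ?_⟩
        rw [← ec', ← ec, show 2 * (j + 1) = 2 + 2 * j by ring, pow_add]; group
    obtain ⟨c, hc, ec⟩ := e2 j q0 hq0F
    obtain ⟨c', hc', ec'⟩ := hwhole' g hn ⟨r, hr, e⟩ c hc
    have e3 : g ^ m * S.i5 q0 * (g ^ m)⁻¹ = S.j5 c' := by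
      rw [← ec', ← ec, hj, pow_succ']; group
    rw [(S.VV_commute hb hm (hi hq0F)).eq, mul_inv_cancel_right] at e3
    exact absurd ((S.core_pair hb (Four_le hq0F) (one_mem _) (one_mem _) (Four_le hc')).1
      (by rw [map_one, map_one, mul_one, one_mul, e3])).1 (by decide)
  -- adjust by a power of `d`
  obtain ⟨r, hr, er⟩ := hgV
  obtain ⟨i, hi'⟩ := c2_cycles.2 r (mem_Four.1 hr) (fun e => by
    rw [e, map_one, conj_eq_one_iff, S.f_eq hb] at er
    exact absurd (S.i5_eq_one er) (by decide))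
  have hdcore : S.d ∈ S.core hb := S.i5_mem_core hb (by rw [Equiv.Perm.mem_alternatingGroup]; decide)
  have hdn : S.d ∈ normalizer (S.VV hb : Set G) := mem_normalizer_of_conj_mem fun x hx => by
    obtain ⟨p, hp, q, hq, rfl⟩ := (S.mem_VV hb).1 hx
    refine (S.mem_VV hb).2 ⟨_, mem_Four.2 (c2_conj_Four p (mem_Four.1 hp)), q, hq, ?_⟩
    have hc : Commute S.d (S.j5 q) :=
      S.commute_AA hb (by rw [Equiv.Perm.mem_alternatingGroup]; decide) (Four_le hq)
    rw [show S.d * (S.i5 p * S.j5 q) * S.d⁻¹ = S.d * S.i5 p * (S.j5 q * S.d⁻¹) by group,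
      hc.symm.inv_right.eq, ← mul_assoc, show S.d = S.i5 c2 from rfl, map_mul, map_mul, map_inv]
  set k := (S.d ^ (i : ℕ))⁻¹ * g with hk
  have hkK : k ∈ F.K := mul_mem (inv_mem (pow_mem (F.core_le hdcore) _)) hg
  have hkn : k ∈ normalizer (S.VV hb : Set G) := mul_mem (inv_mem (pow_mem hdn _)) hn
  have hkf : k * S.f * k⁻¹ = S.f := by
    rw [hk, show (S.d ^ (i : ℕ))⁻¹ * g * S.f * ((S.d ^ (i : ℕ))⁻¹ * g)⁻¹ =
      (S.d ^ (i : ℕ))⁻¹ * (g * S.f * g⁻¹) * S.d ^ (i : ℕ) by group, er, ← hi', map_mul, map_mul,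
      map_inv, map_pow, ← S.f_eq hb, show S.i5 c2 = S.d from rfl]
    group
  obtain ⟨r1, hr1, er1⟩ := hwhole k hkn ⟨q0, hq0F, hkf.trans (S.f_eq hb)⟩ q1 hq1F
  have hkf1 : k * S.f1 * k⁻¹ = S.f1 := by
    refine hodd k hkK hkn S.f1 (hi hq1F) ?_
    rw [show S.f1 = S.i5 q1 from rfl, er1]
    rcases mem_Four.1 hr1 with rfl | rfl | rfl | rfl
    · exact absurd rfl (hne hq1F (by decide) k 1 er1)
    · exfalso
      rw [← S.f_eq hb] at er1
      exact absurd (S.i5_inj (show S.i5 q1 = S.i5 q0 by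
        rw [← S.f_eq hb]; exact mul_left_cancel (mul_right_cancel (er1.trans hkf.symm)))) (by decide)
    · rw [er1]
    · rw [map_mul, show k * (S.i5 q0 * S.i5 q1) * k⁻¹ = k * S.i5 q0 * k⁻¹ * (k * S.i5 q1 * k⁻¹) by group,
        er1, ← S.f_eq hb, hkf, map_mul, ← S.f_eq hb, ← mul_assoc, S.f2, one_mul]
  have hkc := S.cent_VV hb (mul_inv_eq_iff_eq_mul.1 hkf) (mul_inv_eq_iff_eq_mul.1 hkf1)
  have h := mul_mem (pow_mem hdcore (i : ℕ)) hkc
  rwa [hk, mul_inv_cancel_left] at h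

variable {S} {hb} in
/-- Elements of `VV` conjugate in `K` are conjugate in the core. -/
theorem Four4.fusion (F : Four4 S hb) {x g : G} (hx : x ∈ S.VV hb) (hg : g ∈ F.K)
    (hy : g * x * g⁻¹ ∈ S.VV hb) : ∃ n ∈ S.core hb, n * x * n⁻¹ = g * x * g⁻¹ := by
  have : Fact (Nat.Prime 2) := ⟨Nat.prime_two⟩
  have : IsMulCommutative (F.syl : Subgroup F.K) := by
    rw [F.syl_eq]
    exact ⟨⟨fun u v => Subtype.ext (Subtype.ext (S.VV_commute hb u.2 v.2).eq)⟩⟩
  obtain ⟨n, hn, e⟩ := F.syl.conj_eq_normalizer_conj_of_mem ⟨x, F.VV_le hx⟩ (⟨g, hg⟩ : F.K)⁻¹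
    (show (⟨x, F.VV_le hx⟩ : F.K) ∈ (F.syl : Subgroup F.K) by rw [F.syl_eq, mem_subgroupOf]; exact hx)
    (show _ ∈ (F.syl : Subgroup F.K) by rw [F.syl_eq, mem_subgroupOf, inv_inv]; push_cast; exact hy)
  rw [inv_inv] at e
  have hnN : ((n⁻¹ : F.K) : G) ∈ normalizer (S.VV hb : Set G) := by
    refine mem_normalizer_of_conj_mem fun w hw => ?_
    have h := (mem_normalizer_iff.1 (inv_mem hn) ⟨w, F.VV_le hw⟩).1
      (show (⟨w, F.VV_le hw⟩ : F.K) ∈ (F.syl : Subgroup F.K) by rw [F.syl_eq, mem_subgroupOf]; exact hw)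
    exact h
  refine ⟨((n⁻¹ : F.K) : G), F.norm_le (n⁻¹).2 hnN, ?_⟩
  have := congrArg (fun w : F.K => (w : G)) e
  push_cast at this ⊢
  rw [this, inv_inv]

end CfsgLib.ThreeLocalS8
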