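import Cfsg.Agent.Lib.Recognition.ThreeLocalS8.CoreCentral

/-!
# The core is the whole of `K`
-/

set_option autoImplicit false
set_option linter.unusedSectionVars false
set_option maxRecDepth 20000

namespace CfsgLib.ThreeLocalS8

open Equiv Subgroup

variable {G : Type*} [Group G] [Finite G] (S : Data G) (hb : S.b = t01 * t34)

include hb

/-- An involution of the core is core-conjugate to `f`, `e` or `e f`. -/
theorem Data.core_invol {i : G} (hi : i ∈ S.core hb) (h2 : i * i = 1) (h1 : i ≠ 1) :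
    ∃ n ∈ S.core hb, n * i * n⁻¹ = S.f ∨ n * i * n⁻¹ = S.e ∨ n * i * n⁻¹ = S.e * S.f := by
  obtain ⟨a, ha, b, hb', rfl⟩ := (S.mem_core hb).1 hi
  have hsq : S.i5 (a * a) * S.j5 (b * b) = S.i5 1 * S.j5 1 := by
    rw [map_one, map_one, one_mul, ← h2, map_mul, map_mul,
      (S.commute_AA hb ha hb').mul_mul_mul_comm]
  obtain ⟨ha2, hb2⟩ := (S.core_pair hb (mul_mem ha ha) (one_mem _) (mul_mem hb' hb') (one_mem _)).1 hsq
  have hsa := Equiv.Perm.mem_alternatingGroup.1 ha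
  have hsb := Equiv.Perm.mem_alternatingGroup.1 hb'
  by_cases ha1 : a = 1
  · subst ha1
    have hb1 : b ≠ 1 := fun e => h1 (by rw [e, map_one, map_one, one_mul])
    obtain ⟨x, hx, hxb⟩ := double_conj b hsb hb2 hb1
    refine ⟨S.j5 x, S.j5_mem_core hb (Equiv.Perm.mem_alternatingGroup.2 hx), Or.inr (Or.inl ?_)⟩
    rw [map_one, one_mul, ← map_inv, ← map_mul, ← map_mul, hxb, S.e_eq hb]
  by_cases hb1 : b = 1
  · subst hb1
    obtain ⟨x, hx, hxa⟩ := double_conj a hsa ha2 ha1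
    refine ⟨S.i5 x, S.i5_mem_core hb (Equiv.Perm.mem_alternatingGroup.2 hx), Or.inl ?_⟩
    rw [map_one, mul_one, ← map_inv, ← map_mul, ← map_mul, hxa, S.f_eq hb]
  obtain ⟨n, hn, e⟩ := S.double_to_ef hb ha hb' ha2 ha1 hb2 hb1
  exact ⟨n, hn, Or.inr (Or.inr e)⟩

variable {S} {hb} in
theorem Four4.to_VV (F : Four4 S hb) {i : G} (hi : i ∈ S.core hb) (h2 : i * i = 1) (h1 : i ≠ 1) :
    ∃ n ∈ S.core hb, n * i * n⁻¹ ∈ S.VV hb ∧
      ∀ g ∈ F.K, Commute g (n * i * n⁻¹) → g ∈ S.core hb := by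
  obtain ⟨n, hn, h⟩ := S.core_invol hb hi h2 h1
  refine ⟨n, hn, ?_⟩
  rcases h with e | e | e <;> rw [e]
  · exact ⟨S.f_mem_VV hb, fun g hg hc => F.cent_f hg hc⟩
  · exact ⟨S.e_mem_VV hb, fun g hg hc => F.cent_e hg hc⟩
  · exact ⟨mul_mem (S.e_mem_VV hb) (S.f_mem_VV hb),
      fun g hg hc => S.VV_le_core hb (F.cent_ef hg hc)⟩

variable {S} {hb} in
/-- The core is strongly embedded in `K`. -/
theorem Four4.embedded (F : Four4 S hb) {g i : G} (hg : g ∈ F.K) (hi : i ∈ S.core hb) (h2 : i * i = 1)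
    (h1 : i ≠ 1) (h : g * i * g⁻¹ ∈ S.core hb) : g ∈ S.core hb := by
  obtain ⟨n1, hn1, hx, hcent⟩ := F.to_VV hi h2 h1
  obtain ⟨n2, hn2, hy, -⟩ := F.to_VV h
    (by rw [show g * i * g⁻¹ * (g * i * g⁻¹) = g * (i * i) * g⁻¹ by group, h2]; group)
    (fun e => h1 (conj_eq_one_iff.1 e))
  have hhK : n2 * g * n1⁻¹ ∈ F.K := mul_mem (mul_mem (F.core_le hn2) hg) (inv_mem (F.core_le hn1))
  have e1 : n2 * g * n1⁻¹ * (n1 * i * n1⁻¹) * (n2 * g * n1⁻¹)⁻¹ = n2 * (g * i * g⁻¹) * n2⁻¹ := by group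
  obtain ⟨n, hn, e⟩ := F.fusion hx hhK (by rw [e1]; exact hy)
  have hc : Commute (n⁻¹ * (n2 * g * n1⁻¹)) (n1 * i * n1⁻¹) := by
    rw [commute_iff_eq]
    generalize n1 * i * n1⁻¹ = x at e ⊢
    generalize n2 * g * n1⁻¹ = k at e ⊢
    calc n⁻¹ * k * x = n⁻¹ * (k * x * k⁻¹) * k := by group
      _ = n⁻¹ * (n * x * n⁻¹) * k := by rw [e]
      _ = x * (n⁻¹ * k) := by group
  have := hcent _ (mul_mem (inv_mem (F.core_le hn)) hhK) hc
  have h3 := mul_mem (mul_mem (inv_mem hn2) (mul_mem hn this)) hn1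
  rwa [show n2⁻¹ * (n * (n⁻¹ * (n2 * g * n1⁻¹))) * n1 = g by group] at h3

variable {S} {hb} in
theorem Four4.eq_core (F : Four4 S hb) : F.K = S.core hb := by
  refine le_antisymm (fun g hg => ?_) F.core_le
  obtain ⟨x, hx⟩ : ∃ x, x = g * S.f * g⁻¹ := ⟨_, rfl⟩
  obtain ⟨y, hy⟩ : ∃ y, y = S.e * S.f := ⟨_, rfl⟩
  have hx2 : x * x = 1 := by
    rw [hx, show g * S.f * g⁻¹ * (g * S.f * g⁻¹) = g * (S.f * S.f) * g⁻¹ by group, S.f2]; group
  have hy2 : y * y = 1 := by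
    rw [hy, ← mul_assoc, mul_assoc S.e S.f S.e, ← S.ef.eq, ← mul_assoc, S.e2, one_mul, S.f2]
  have hyV : y ∈ S.VV hb := hy ▸ mul_mem (S.e_mem_VV hb) (S.f_mem_VV hb)
  have hyK : y ∈ F.K := F.VV_le hyV
  have hxK : x ∈ F.K := hx ▸ F.normal.conj_mem _ (F.VV_le (S.f_mem_VV hb)) g
  have hswap : ∀ n : ℕ, x * (x * y) ^ n * x = ((x * y) ^ n)⁻¹ := by
    intro n
    induction n with
    | zero => simp [hx2]
    | succ n ih =>
      have h0 : x * (x * y) * x = (x * y)⁻¹ := by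
        rw [mul_inv_rev, inv_eq_of_mul_eq_one_right hx2, inv_eq_of_mul_eq_one_right hy2,
          ← mul_assoc, hx2, one_mul]
      calc x * (x * y) ^ (n + 1) * x = x * (x * y) ^ n * (x * x) * (x * y) * x := by
            rw [hx2, pow_succ]; group
        _ = x * (x * y) ^ n * x * (x * (x * y) * x) := by group
        _ = ((x * y) * (x * y) ^ n)⁻¹ := by rw [ih, h0, ← mul_inv_rev]
        _ = _ := by rw [← pow_succ']
  obtain ⟨m, hm⟩ : ∃ m, orderOf (x * y) = 2 * m := by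
    rcases Nat.even_or_odd' (orderOf (x * y)) with ⟨m, hm | hm⟩
    · exact ⟨m, hm⟩
    exfalso
    have hp := pow_orderOf_eq_one (x * y)
    rw [hm] at hp
    refine S.f_not_ef hb ((x * y) ^ m * g) ?_
    have h := hswap m
    calc (x * y) ^ m * g * S.f * ((x * y) ^ m * g)⁻¹ = (x * y) ^ m * x * ((x * y) ^ m)⁻¹ := by
          rw [hx]; group
      _ = (x * y) ^ m * x * (x * (x * y) ^ m * x) := by rw [h]
      _ = (x * y) ^ m * (x * x) * (x * y) ^ m * x := by group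
      _ = (x * y) ^ m * (x * y) ^ m * (x * y) * (y⁻¹ * (x⁻¹ * x)) := by rw [hx2]; group
      _ = (x * y) ^ (2 * m + 1) * (y⁻¹ * (x⁻¹ * x)) := by rw [← pow_add, ← pow_succ, two_mul]
      _ = y := by rw [hp, one_mul, inv_mul_cancel, mul_one, inv_eq_of_mul_eq_one_right hy2]
      _ = S.e * S.f := hy
  have ho := orderOf_pos (x * y)
  set w := (x * y) ^ m with hw
  have hw2 : w * w = 1 := by rw [hw, ← pow_add, ← two_mul, ← hm, pow_orderOf_eq_one]
  have hw1 : w ≠ 1 := fun e => by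
    have := orderOf_le_of_pow_eq_one (by omega) e
    omega
  have hwx : Commute w x := by
    have h := hswap m
    rw [← hw, inv_eq_of_mul_eq_one_right hw2] at h
    calc w * x = x * w * x * x := by rw [h]
      _ = x * w * (x * x) := by group
      _ = x * w := by rw [hx2, mul_one]
  have hwy : Commute w y := by
    have h : Commute w (x * (x * y)) := hwx.mul_right ((Commute.refl (x * y)).pow_left m)
    rwa [← mul_assoc, hx2, one_mul] at h
  have hwK : w ∈ F.K := pow_mem (mul_mem hxK hyK) m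
  have hwc : w ∈ S.core hb := S.VV_le_core hb (F.cent_ef hwK (hy ▸ hwy))
  have hgw : g⁻¹ * w * g⁻¹⁻¹ ∈ S.core hb := by
    refine F.cent_f (F.normal.conj_mem w hwK g⁻¹) ?_
    have := hwx.map (MulAut.conj g⁻¹).toMonoidHom
    simpa [hx, mul_assoc] using this
  have := inv_mem (F.embedded (inv_mem hg) hwc hw2 hw1 hgw)
  rwa [inv_inv] at this

end CfsgLib.ThreeLocalS8
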