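import Cfsg.Agent.Lib.Recognition.ThreeLocalS8.Embedded
import Cfsg.Agent.Lib.Components.GenFitting

/-!
# The exceptional configuration: `F*(G) ≅ A₅ × A₅` of index four
-/

set_option autoImplicit false
set_option linter.unusedSectionVars false
set_option maxRecDepth 20000

namespace CfsgLib.ThreeLocalS8

open Equiv Subgroup CfsgLib.Components
open scoped commutatorElement

theorem alt_center : ∀ a : Perm (Fin 5), Equiv.Perm.sign a = 1 → a ≠ 1 →
    ∃ x : Perm (Fin 5), Equiv.Perm.sign x = 1 ∧ a * x ≠ x * a := by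
  decide +kernel

theorem cent_alt : ∀ q : Perm (Fin 5), q * q0 = q0 * q → q * q1 = q1 * q → q * cyc = cyc * q →
    q = 1 := by
  decide +kernel

theorem alt_noncomm : ¬ IsMulCommutative (alternatingGroup (Fin 5)) := fun h => by
  have := congrArg Subtype.val (h.is_comm.comm (⟨q0, Four_le q0_mem⟩ : alternatingGroup (Fin 5)) ⟨cyc, cyc_even⟩)
  exact absurd this (by decide)

theorem quasisimple_simple {K : Type*} [Group K] [IsSimpleGroup K] (hna : ¬ IsMulCommutative K) :
    Cfsg.IsQuasisimple K := by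
  have hz : Subgroup.center K = ⊥ := by
    rcases (inferInstance : (Subgroup.center K).Normal).eq_bot_or_eq_top with h | h
    · exact h
    · exact absurd ⟨⟨fun a b => Subgroup.mem_center_iff.mp (h ▸ Subgroup.mem_top b) a⟩⟩ hna
  refine ⟨?_, ?_⟩
  · rw [Group.isPerfect_def]
    rcases (inferInstance : (commutator K).Normal).eq_bot_or_eq_top with h | h
    · refine absurd ⟨⟨fun a b => ?_⟩⟩ hna
      have : ⁅a, b⁆ ∈ commutator K :=
        Subgroup.commutator_mem_commutator (Subgroup.mem_top a) (Subgroup.mem_top b)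
      rw [h, Subgroup.mem_bot, commutatorElement_eq_one_iff_mul_comm] at this
      exact this
    · exact h
  · have e : K ⧸ Subgroup.center K ≃* K :=
      (QuotientGroup.quotientMulEquivOfEq hz).trans QuotientGroup.quotientBot
    exact e.isSimpleGroup

variable {G : Type*} [Group G] [Finite G] (S : Data G) (hb : S.b = t01 * t34)

include hb

/-- The first factor. -/
def Data.factorA : Subgroup G := ((S.AA hb).comp (MonoidHom.inl _ _)).range

/-- The second factor. -/
def Data.factorB : Subgroup G := ((S.AA hb).comp (MonoidHom.inr _ _)).range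

theorem Data.AA_apply (p : alternatingGroup (Fin 5) × alternatingGroup (Fin 5)) :
    S.AA hb p = S.i5 p.1 * S.j5 p.2 := rfl

theorem Data.factors_sup : S.core hb ≤ S.factorA hb ⊔ S.factorB hb := by
  rintro _ ⟨⟨a, b⟩, rfl⟩
  rw [show (a, b) = (a, 1) * ((1, b) : alternatingGroup (Fin 5) × alternatingGroup (Fin 5)) by simp, map_mul]
  exact mul_mem (mem_sup_left ⟨a, rfl⟩) (mem_sup_right ⟨b, rfl⟩)

theorem Data.cent_core : centralizer (S.core hb : Set G) = ⊥ := by
  refine (eq_bot_iff_forall _).2 fun g hg => ?_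
  have hc : ∀ x ∈ S.core hb, Commute g x := fun x hx => (mem_centralizer_iff.1 hg x hx).symm
  obtain ⟨a, q, rfl, ha⟩ := S.cent_z (hc _ (S.D_le_core hb S.z_mem))
  have h5 : ∀ p ∈ alternatingGroup (Fin 5), q * p = p * q := fun p hp => by
    have h := hc _ (S.i5_mem_core hb hp)
    rw [show S.i5 p = S.i3 1 * S.i5 p by simp, commute_iff S.comm S.inj] at h
    exact h.2
  obtain rfl := cent_alt q (h5 _ (Four_le q0_mem)) (h5 _ (Four_le q1_mem)) (h5 _ cyc_even)
  have he := hc _ (S.VV_le_core hb (S.e_mem_VV hb))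
  rw [show S.e = S.i3 tau * S.i5 1 by rw [map_one, mul_one]; rfl, commute_iff S.comm S.inj] at he
  have ha1 : a = 1 := by
    have := he.1
    rcases ha with rfl | rfl | rfl
    · rfl
    all_goals exact absurd this (by decide)
  rw [ha1, map_one, map_one, one_mul]

theorem Data.core_minimal (K : Subgroup G) (hK : K.Normal)
    (hle : K ≤ S.core hb) : K = ⊥ ∨ K = S.core hb := by
  refine or_iff_not_imp_left.2 fun hne => le_antisymm hle ?_
  set L := K.comap (S.AA hb) with hL
  have hswap : ∀ a b, ((a, b) : alternatingGroup (Fin 5) × alternatingGroup (Fin 5)) ∈ L → (b, a) ∈ L := by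
    intro a b h
    have := hK.conj_mem _ (mem_comap.1 h) S.σ
    rw [S.σinv, S.AA_apply hb, S.σ_mul, ← S.j5_apply, S.j5_apply b, S.σσ,
      ← (S.commute_AA hb b.2 a.2).eq] at this
    exact this
  obtain ⟨k, hk, hk1⟩ := K.ne_bot_iff_exists_ne_one.1 hne |>.elim fun k hk =>
    (⟨k, k.2, fun e => hk (Subtype.ext e)⟩ : ∃ k, k ∈ K ∧ k ≠ 1)
  obtain ⟨⟨a, b⟩, rfl⟩ := hle hk
  obtain ⟨a', b', h', ha'⟩ : ∃ a' b', ((a', b') : alternatingGroup (Fin 5) × _) ∈ L ∧ a' ≠ 1 := by
    by_cases ha : a = 1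
    · exact ⟨b, a, hswap a b hk, fun e => hk1 (by rw [ha, e]; exact map_one _)⟩
    · exact ⟨a, b, hk, ha⟩
  obtain ⟨x, hx, hxa⟩ := alt_center a' (Equiv.Perm.mem_alternatingGroup.1 a'.2)
    (fun e => ha' (Subtype.ext e))
  let x' : alternatingGroup (Fin 5) := ⟨x, Equiv.Perm.mem_alternatingGroup.2 hx⟩
  have hLn : L.Normal := hK.comap _
  have hcomm : (a' * x' * a'⁻¹ * x'⁻¹, 1) ∈ L := by
    have := mul_mem h' (hLn.conj_mem _ (inv_mem h') (x', 1))
    simpa [mul_assoc] using this
  have htop : L.comap (MonoidHom.inl (alternatingGroup (Fin 5)) (alternatingGroup (Fin 5))) = ⊤ :=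
    (hLn.comap _).eq_bot_or_eq_top.resolve_left fun e => hxa (by
      have h1 : a' * x' * a'⁻¹ * x'⁻¹ = 1 := mem_bot.1 (e ▸ mem_comap.2 hcomm)
      have h2 : a' * x' = x' * a' := mul_inv_eq_iff_eq_mul.1 (mul_inv_eq_one.1 h1)
      exact congrArg Subtype.val h2)
  have hA : ∀ c, ((c, 1) : alternatingGroup (Fin 5) × alternatingGroup (Fin 5)) ∈ L := fun c => by
    have : c ∈ L.comap (MonoidHom.inl (alternatingGroup (Fin 5)) (alternatingGroup (Fin 5))) := by
      rw [htop]; trivial
    exact this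
  rintro _ ⟨⟨c, d⟩, rfl⟩
  have := mul_mem (hA c) (hswap _ _ (hA d))
  rw [Prod.mk_mul_mk, mul_one, one_mul] at this
  exact this

theorem Data.factor_component {f : alternatingGroup (Fin 5) →* G} (hf : Function.Injective f)
    (hle : f.range ≤ S.core hb) (hn : (S.core hb).Normal)
    (hfn : ∀ x ∈ S.core hb, ∀ a, ∃ a', x * f a * x⁻¹ = f a') : Cfsg.IsComponent f.range := by
  refine ⟨IsSubnormal.step _ _ hle hn.isSubnormal ⟨fun y hy x => ?_⟩, ?_⟩
  · obtain ⟨a, ha⟩ := mem_subgroupOf.1 hy
    obtain ⟨a', ha'⟩ := hfn x x.2 a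
    exact mem_subgroupOf.2 ⟨a', by push_cast; rw [← ha, ha']⟩
  · exact IsQuasisimple.of_mulEquiv
      (quasisimple_simple alt_noncomm) (MonoidHom.ofInjective hf)

theorem Data.genFitting_core (hn : (S.core hb).Normal) :
    Cfsg.generalizedFittingSubgroup G = S.core hb := by
  have hconj : ∀ p ∈ (Set.univ : Set (alternatingGroup (Fin 5) × alternatingGroup (Fin 5))), ∀ q,
      S.AA hb p * S.AA hb q * (S.AA hb p)⁻¹ = S.AA hb (p * q * p⁻¹) := fun p _ q => by simp
  have hA : Cfsg.IsComponent (S.factorA hb) := by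
    refine S.factor_component hb ((S.AA_injective hb).comp fun a b h => congrArg Prod.fst h)
      (by rintro _ ⟨a, rfl⟩; exact ⟨_, rfl⟩) hn fun x hx a => ?_
    obtain ⟨p, rfl⟩ := hx
    exact ⟨p.1 * a * p.1⁻¹, (hconj p trivial _).trans (congrArg _ (Prod.ext rfl (by simp)))⟩
  have hB : Cfsg.IsComponent (S.factorB hb) := by
    refine S.factor_component hb ((S.AA_injective hb).comp fun a b h => congrArg Prod.snd h)
      (by rintro _ ⟨a, rfl⟩; exact ⟨_, rfl⟩) hn fun x hx a => ?_
    obtain ⟨p, rfl⟩ := hx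
    exact ⟨p.2 * a * p.2⁻¹, (hconj p trivial _).trans (congrArg _ (Prod.ext (by simp) rfl))⟩
  have hc := S.cent_core hb
  refine le_antisymm (sup_le (layer_le_iff.mpr fun M hM => ?_) ?_)
    ((S.factors_sup hb).trans ((sup_le (IsComponent.le_layer hA) (IsComponent.le_layer hB)).trans le_sup_left))
  · by_contra h
    have h1 : M ≠ S.factorA hb := fun e => h (e ▸ by rintro _ ⟨a, rfl⟩; exact ⟨_, rfl⟩)
    have h2 : M ≠ S.factorB hb := fun e => h (e ▸ by rintro _ ⟨a, rfl⟩; exact ⟨_, rfl⟩)
    refine IsComponent.ne_bot hM (le_bot_iff.mp (hc ▸ ?_))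
    intro m hm
    have hmA : m ∈ centralizer ((S.factorA hb ⊔ S.factorB hb : Subgroup G) : Set G) := by
      rw [sup_eq_closure, centralizer_closure, mem_centralizer_iff]
      rintro y (hy | hy)
      · exact mem_centralizer_iff.1 (IsComponent.le_centralizer_of_ne hM hA h1 hm) y hy
      · exact mem_centralizer_iff.1 (IsComponent.le_centralizer_of_ne hM hB h2 hm) y hy
    exact centralizer_le (S.factors_sup hb) hmA
  · have : Group.IsNilpotent ↥(Cfsg.fittingSubgroup G) := CfsgLib.Solvable.Cores.fittingSubgroup_isNilpotent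
    have hF : ∀ {J : Subgroup G}, Cfsg.IsComponent J → Cfsg.fittingSubgroup G ≤ centralizer (J : Set G) := by
      intro J hJ
      have h := IsComponent.commutator_solvable_eq_bot hJ (N := Cfsg.fittingSubgroup G)
        (by rw [normalizer_eq_top]; exact le_top)
      rwa [commutator_comm, commutator_eq_bot_iff_le_centralizer] at h
    refine le_trans ?_ bot_le
    rw [← hc]
    intro m hm
    have hmA : m ∈ centralizer ((S.factorA hb ⊔ S.factorB hb : Subgroup G) : Set G) := by
      rw [sup_eq_closure, centralizer_closure, mem_centralizer_iff]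
      rintro y (hy | hy)
      · exact mem_centralizer_iff.1 (hF hA hm) y hy
      · exact mem_centralizer_iff.1 (hF hB hm) y hy
    exact centralizer_le (S.factors_sup hb) hmA

/-- The exceptional configuration. -/
theorem Data.double : ∃ N : Subgroup G, N.Normal ∧ Cfsg.generalizedFittingSubgroup G = N ∧
    Nonempty (N ≃* alternatingGroup (Fin 5) × alternatingGroup (Fin 5)) ∧
    (∀ K : Subgroup G, K.Normal → K ≤ N → K = ⊥ ∨ K = N) ∧
    N.index = 4 ∧ ∀ g : G, g ^ 2 ∈ N := by
  obtain ⟨F⟩ := S.exists_four hb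
  have e := F.eq_core
  have hn : (S.core hb).Normal := e ▸ F.normal
  exact ⟨S.core hb, hn, S.genFitting_core hb hn,
    ⟨(MonoidHom.ofInjective (S.AA_injective hb)).symm⟩, S.core_minimal hb,
    e ▸ F.index, fun g => e ▸ (pow_two g).symm ▸ F.sq g⟩

end CfsgLib.ThreeLocalS8
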