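import Cfsg.Agent.Lib.Recognition.ThreeLocalS8.CentSMarked
import Mathlib.GroupTheory.SpecificGroups.Alternating

/-!
# The case of a double transposition: the four-groups and the elements `f₁`, `u`
-/

set_option autoImplicit false
set_option linter.unusedSectionVars false

namespace CfsgLib.ThreeLocalS8

open Equiv Subgroup

/-- The double transposition `(0 1)(3 4)`. -/
def q0 : Perm (Fin 5) := t01 * t34

/-- The double transposition `(0 3)(1 4)`. -/
def q1 : Perm (Fin 5) := swap 0 3 * swap 1 4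

/-- The four-group fixing `2`. -/
def Four : Subgroup (Perm (Fin 5)) where
  carrier := {q | q = 1 ∨ q = q0 ∨ q = q1 ∨ q = q0 * q1}
  one_mem' := Or.inl rfl
  mul_mem' := by
    rintro a b (rfl | rfl | rfl | rfl) (rfl | rfl | rfl | rfl) <;>
      simp only [Set.mem_setOf_eq] <;> decide
  inv_mem' := by
    rintro a (rfl | rfl | rfl | rfl) <;> simp only [Set.mem_setOf_eq] <;> decide

theorem mem_Four {q : Perm (Fin 5)} : q ∈ Four ↔ q = 1 ∨ q = q0 ∨ q = q1 ∨ q = q0 * q1 := Iff.rfl

theorem Four_le : Four ≤ alternatingGroup (Fin 5) := by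
  intro q hq
  rw [Equiv.Perm.mem_alternatingGroup]
  rcases mem_Four.1 hq with rfl | rfl | rfl | rfl <;> decide

/-- The three-cycle `(0 3 4)`. -/
def c2 : Perm (Fin 5) := swap 0 3 * swap 3 4

/-- An even permutation taking `cyc` to `c2`. -/
def r2 : Perm (Fin 5) := swap 1 3 * swap 2 4

theorem r2_conj : r2 * cyc * r2⁻¹ = c2 := by decide

theorem c2_three : c2 * c2 * c2 = 1 := by decide

theorem cent_q1_q0 : ∀ q : Perm (Fin 5), q * q0 = q0 * q → q * q1 = q1 * q → q ∈ Four := by
  simp only [mem_Four]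
  decide +kernel

variable {G : Type*} [Group G]

/-- The image of `i₅` transported by `σ`. -/
def Setup.j5 (S : Setup G) : Perm (Fin 5) →* G :=
  (MulAut.conj S.σ).toMonoidHom.comp S.i5

theorem Setup.j5_apply (S : Setup G) (q : Perm (Fin 5)) : S.j5 q = S.σ * S.i5 q * S.σ := by
  show S.σ * S.i5 q * S.σ⁻¹ = _
  rw [S.σinv]

theorem Setup.j5_cyc (S : Setup G) : S.j5 cyc = S.z := (S.j5_apply _).trans S.σc

theorem Setup.j5_t34 (S : Setup G) : S.j5 t34 = S.s := (S.j5_apply _).trans S.σs'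

/-- The four-group. -/
def Setup.V (S : Setup G) : Subgroup G := Four.map S.i5

/-- The second generator of the four-group. -/
def Setup.f1 (S : Setup G) : G := S.i5 q1

/-- Its conjugate under `σ`. -/
def Setup.u (S : Setup G) : G := S.j5 q1

/-- The element of order three rotating the four-group. -/
def Setup.d (S : Setup G) : G := S.i5 c2

theorem Setup.σu (S : Setup G) : S.σ * S.u * S.σ = S.f1 := by
  rw [Setup.u, j5_apply, S.σσ]; rfl

theorem Setup.σf1 (S : Setup G) : S.σ * S.f1 * S.σ = S.u := (S.j5_apply _).symm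

theorem Setup.mem_V (S : Setup G) {x : G} : x ∈ S.V ↔ ∃ q ∈ Four, S.i5 q = x := Subgroup.mem_map

theorem Setup.f1_mem_V (S : Setup G) : S.f1 ∈ S.V :=
  mem_map_of_mem _ (mem_Four.2 (Or.inr (Or.inr (Or.inl rfl))))

section Double

variable (S : Setup G) (hb : S.b = t01 * t34)

include hb

theorem Setup.f_eq : S.f = S.i5 q0 := by rw [Setup.f, hb]; rfl

theorem Setup.e_eq : S.e = S.j5 q0 := by rw [j5_apply, ← S.σf, S.f_eq hb]

theorem Setup.f_mem_V : S.f ∈ S.V := by
  rw [S.f_eq hb]; exact mem_map_of_mem _ (mem_Four.2 (Or.inr (Or.inl rfl)))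

theorem Setup.f_f1 : Commute S.f S.f1 := by
  rw [S.f_eq hb, Setup.f1, commute_iff_eq, ← map_mul, ← map_mul]
  exact congrArg S.i5 (by decide)

theorem Setup.e_u : Commute S.e S.u := by
  rw [← S.σf, ← S.σf1]; exact S.σ_commute (S.f_f1 hb)

theorem Setup.f_u : Commute S.f S.u := by
  rw [← S.σe', ← S.σf1]; exact S.σ_commute (S.comm tau q1)

theorem Setup.commute_V {x : G} (h0 : Commute x S.f) (h1 : Commute x S.f1) {v : G} (hv : v ∈ S.V) :
    Commute x v := by
  obtain ⟨q, hq, rfl⟩ := S.mem_V.1 hv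
  rw [S.f_eq hb] at h0
  rcases mem_Four.1 hq with rfl | rfl | rfl | rfl
  · rw [map_one]; exact Commute.one_right _
  · exact h0
  · exact h1
  · rw [map_mul]; exact h0.mul_right h1

end Double

theorem Setup.s_f1 (S : Setup G) (hb : S.b = t01 * t34) : S.s * S.f1 * S.s = S.f1 * S.f := by
  rw [S.f_eq hb, show S.s = S.i5 t34 from rfl, Setup.f1, ← map_mul, ← map_mul, ← map_mul]
  exact congrArg S.i5 (by decide)

theorem Setup.s_u (S : Setup G) (hb : S.b = t01 * t34) : S.s * S.u * S.s = S.u * S.e := by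
  rw [← S.σf1, ← S.σf, ← S.σs', ← S.σ_mul, ← S.σ_mul, ← S.σ_mul, S.s_f1 hb]

end CfsgLib.ThreeLocalS8
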