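import Cfsg.Agent.Lib.Recognition.ThreeLocalS8.Classes
import Cfsg.Agent.Lib.Fusion.ThompsonTransfer

/-!
# Two transfers: a normal subgroup of index four meeting `X` in the core
-/

set_option autoImplicit false
set_option linter.unusedSectionVars false
set_option maxRecDepth 20000

namespace CfsgLib.ThreeLocalS8

open Equiv Subgroup

variable {G : Type*} [Group G] [Finite G] (S : Data G) (hb : S.b = t01 * t34)

include hb

theorem Data.T4_conj_s {t : G} (ht : t ∈ S.T4) (v : G) (hv : v ∈ S.core hb) {g : G}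
    (h : g * S.s * g⁻¹ = v * t) : t = S.s := by
  have hsT : S.s ∈ S.T4 := S.mem_T4.2 (Or.inr (Or.inl rfl))
  have hgX : g ∈ S.X hb := S.fix_s hb (h ▸ mul_mem_sup hv ht)
  have h1 := S.conj_T4 hb hgX hsT
  rw [h] at h1
  have h2 : t * S.s ∈ S.core hb := by
    have := mul_mem (inv_mem hv) h1
    rwa [mul_assoc v, inv_mul_cancel_left] at this
  calc t = t * S.s * S.s := by rw [mul_assoc, S.s2, mul_one]
    _ = S.s := by rw [S.T4_disjoint hb (mul_mem ht hsT) h2, one_mul]

/-- A subgroup of index two of the Sylow subgroup avoiding a given element of `⟨s, σ⟩`. -/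
theorem Data.transfer {u w : G} (hu : u ∈ S.T4) (hw : w ∈ S.T4) (hu2 : u * u = 1) (hw2 : w * w = 1)
    (hu1 : u ≠ 1) (hw1 : w ≠ 1) (huw : u ≠ w)
    (hno : ∀ g : G, g * u * g⁻¹ ∈ (↑(S.VV hb ⊔ zpowers w) : Set G) → False) :
    ∃ M : Subgroup G, M.Normal ∧ M.index = 2 ∧ u ∉ M := by
  have : Fact (Nat.Prime 2) := ⟨Nat.prime_two⟩
  have hZ : zpowers w ≤ S.T4 := zpowers_le.2 hw
  have hsub : S.VV hb ⊔ zpowers w ≤ S.P2 hb := sup_le_sup le_rfl hZ
  have hcard : Nat.card ↥(S.VV hb ⊔ zpowers w) = 32 := by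
    rw [card_sup_disjoint _ _ (hZ.trans (S.T4_VV hb))
      fun t ht hm => S.T4_disjoint hb (hZ ht) (S.VV_le_core hb hm), S.card_VV hb, Nat.card_zpowers,
      orderOf_eq_prime (p := 2) (by rw [pow_two]; exact hw2) hw1]
  have hrel : (S.VV hb ⊔ zpowers w).relIndex (S.P2 hb) = 2 := by
    have := ((S.VV hb ⊔ zpowers w).subgroupOf (S.P2 hb)).card_mul_index
    rw [Nat.card_congr (subgroupOfEquivOfLe hsub).toEquiv, hcard, S.card_P2 hb] at this
    rw [relIndex]; omega
  have huQ : u ∉ S.VV hb ⊔ zpowers w := fun h => by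
    have h' : u ∈ (↑(S.VV hb ⊔ zpowers w) : Set G) := h
    rw [coe_mul_of_right_le_normalizer_left _ _ (hZ.trans (S.T4_VV hb))] at h'
    obtain ⟨v, hv, t, ht, e⟩ := h'
    change v * t = u at e
    have h1 : u * t⁻¹ ∈ S.core hb := by
      rw [← e, mul_inv_cancel_right]; exact S.VV_le_core hb hv
    have h2 := S.T4_disjoint hb (mul_mem hu (inv_mem (hZ ht))) h1
    obtain ⟨n, hn⟩ := mem_zpowers_iff.1 ht
    rcases Int.even_or_odd' n with ⟨m, rfl | rfl⟩
    · apply hu1
      rw [mul_inv_eq_one.1 h2, ← hn, zpow_mul, zpow_two, hw2, one_zpow]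
    · apply huw
      rw [mul_inv_eq_one.1 h2, ← hn, zpow_add_one, zpow_mul, zpow_two, hw2, one_zpow, one_mul]
  refine (Fusion.ThompsonTransfer.thompson_transfer (S.P2S hb) _ hsub hrel u
    (by rw [pow_two]; exact hu2) (mem_sup_right hu) huQ).resolve_right fun ⟨g, hg⟩ => hno g hg

omit hb in
theorem sq_mem_of_index_two' {H : Subgroup G} (hH : H.index = 2) (g : G) : g * g ∈ H :=
  (mul_mem_iff_of_index_two hH).2 Iff.rfl

/-- The data of the normal subgroup of index four. -/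
structure Four4 where
  /-- The subgroup. -/
  K : Subgroup G
  normal : K.Normal
  index : K.index = 4
  core_le : S.core hb ≤ K
  meet : ∀ x ∈ S.X hb, x ∈ K → x ∈ S.core hb
  sq : ∀ g : G, g * g ∈ K

omit hb in
/-- The sign character of a subgroup of index two. -/
noncomputable def indexTwoSign' (H : Subgroup G) (h : H.index = 2) : G →* ℤˣ := by
  classical
  exact
  { toFun := fun g => if g ∈ H then 1 else -1
    map_one' := by simp [one_mem]
    map_mul' := fun a b => by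
      have := mul_mem_iff_of_index_two h (a := a) (b := b)
      by_cases ha : a ∈ H <;> by_cases hb : b ∈ H <;> simp [ha, hb] at this ⊢ <;> simp [this] }

omit hb in
theorem indexTwoSign'_eq_one (H : Subgroup G) (h : H.index = 2) (g : G) :
    indexTwoSign' H h g = 1 ↔ g ∈ H := by
  classical
  show (if g ∈ H then (1 : ℤˣ) else -1) = 1 ↔ _
  by_cases hg : g ∈ H <;> simp [hg]

theorem Data.core_le_of_index_two {H : Subgroup G} (hH : H.index = 2) : S.core hb ≤ H := by
  have key : ∀ h : Perm (Fin 5) →* G, ∀ a ∈ alternatingGroup (Fin 5), h a ∈ H := by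
    intro h a ha
    let χ := (indexTwoSign' H hH).comp (h.comp (alternatingGroup (Fin 5)).subtype)
    have htop : χ.ker = ⊤ := χ.normal_ker.eq_bot_or_eq_top.resolve_left fun e => by
      have h2 := Nat.card_le_card_of_injective χ ((MonoidHom.ker_eq_bot_iff χ).1 e)
      rw [Nat.card_eq_fintype_card, card_alternatingGroup, Fintype.card_fin,
        Nat.card_eq_fintype_card] at h2
      revert h2; decide
    exact (indexTwoSign'_eq_one H hH _).1 (MonoidHom.mem_ker.1 (show (⟨a, ha⟩ : alternatingGroup (Fin 5)) ∈ χ.ker by rw [htop]; trivial))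
  intro x hx
  obtain ⟨a, ha, b, hb', rfl⟩ := (S.mem_core hb).1 hx
  exact mul_mem (key _ a ha) (key _ b hb')

theorem Data.exists_four : Nonempty (Four4 S hb) := by
  have hsT : S.s ∈ S.T4 := S.mem_T4.2 (Or.inr (Or.inl rfl))
  have hσT : S.σ ∈ S.T4 := S.mem_T4.2 (Or.inr (Or.inr (Or.inl rfl)))
  have hσ1 : S.σ ≠ 1 := fun e => by
    have h := S.σz'
    rw [e, one_mul, mul_one, S.z_pair, S.c_pair] at h
    exact absurd (S.pair.1 h).1 (by decide)
  have hσs : S.σ ≠ S.s := fun e => by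
    have h := S.σz'
    rw [e, (S.s_central (le_normalizer S.z_mem)).symm.eq, mul_assoc, S.s2, mul_one, S.z_pair,
      S.c_pair] at h
    exact absurd (S.pair.1 h).1 (by decide)
  obtain ⟨H1, hH1n, hH1, hs1⟩ := S.transfer hb hsT hσT S.s2 S.σ2 S.s_ne hσ1 hσs.symm fun g hg => by
    rw [coe_mul_of_right_le_normalizer_left _ _ ((zpowers_le.2 hσT).trans (S.T4_VV hb))] at hg
    obtain ⟨v, hv, t, ht, e⟩ := hg
    have ht' := zpowers_le.2 hσT ht
    have e1 := S.T4_conj_s hb ht' v (S.VV_le_core hb hv) e.symm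
    obtain ⟨n, hn⟩ := mem_zpowers_iff.1 ht
    rcases Int.even_or_odd' n with ⟨m, rfl | rfl⟩
    · rw [zpow_mul, zpow_two, S.σ2, one_zpow] at hn
      exact S.s_ne (e1.symm.trans hn.symm)
    · rw [zpow_add_one, zpow_mul, zpow_two, S.σ2, one_zpow, one_mul] at hn
      exact hσs (hn.trans e1)
  obtain ⟨τ, hτ, hτH⟩ : ∃ τ, (τ = S.σ ∨ τ = S.σ * S.s) ∧ τ ∈ H1 := by
    by_cases h : S.σ ∈ H1
    · exact ⟨_, Or.inl rfl, h⟩
    · exact ⟨_, Or.inr rfl, (mul_mem_iff_of_index_two hH1).2 (iff_of_false h hs1)⟩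
  have hτT : τ ∈ S.T4 := by
    rcases hτ with rfl | rfl
    exacts [hσT, mul_mem hσT hsT]
  have hτ1 : τ ≠ 1 := by
    rcases hτ with rfl | rfl
    · exact hσ1
    · exact fun e => hσs (by
        calc S.σ = S.σ * (S.s * S.s) := by rw [S.s2, mul_one]
          _ = S.s := by rw [← mul_assoc, e, one_mul])
  have hτs : τ ≠ S.s := fun e => hs1 (e ▸ hτH)
  have hτ2 : τ * τ = 1 := by
    rcases hτ with rfl | rfl
    · exact S.σ2
    · calc S.σ * S.s * (S.σ * S.s) = S.σ * S.s * S.σ * S.s := by group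
        _ = 1 := by rw [S.σs', S.s2]
  obtain ⟨H2, hH2n, hH2, hτ2'⟩ := S.transfer hb hτT hsT hτ2 S.s2 hτ1 S.s_ne hτs fun g hg => by
    rw [coe_mul_of_right_le_normalizer_left _ _ ((zpowers_le.2 hsT).trans (S.T4_VV hb))] at hg
    obtain ⟨v, hv, t, ht, e⟩ := hg
    change v * t = g * τ * g⁻¹ at e
    rcases S.mem_zpowers_s.1 ht with rfl | rfl
    · rw [mul_one] at e
      rcases S.VV_types hb hv with rfl | ⟨k, hk⟩ | ⟨k, hk⟩
      · exact hτ1 (conj_eq_one_iff.1 e.symm)
      · exact S.τ_not_f hb hτ (k * g) (by rw [← hk, e]; group)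
      · exact S.τ_not_ef hb hτ (k * g) (by rw [← hk, e]; group)
    · -- the involutions of `VV · s` are conjugate to `s`
      have hsq : v * S.s * (v * S.s) = 1 := by
        rw [e]
        calc g * τ * g⁻¹ * (g * τ * g⁻¹) = g * (τ * τ) * g⁻¹ := by group
          _ = 1 := by rw [hτ2]; group
      obtain ⟨p, hp, q, hq, rfl⟩ := (S.mem_VV hb).1 hv
      have hcm : ∀ p q, S.s * (S.i5 p * S.j5 q) * S.s = S.i5 (t34 * p * t34) * S.j5 (t34 * q * t34) :=
        fun p q => by
        rw [map_mul, map_mul, map_mul, map_mul, S.j5_t34, show S.i5 t34 = S.s from rfl]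
        calc S.s * (S.i5 p * S.j5 q) * S.s = S.s * S.i5 p * (S.s * S.s) * S.j5 q * S.s := by
              rw [S.s2]; group
          _ = _ := by group
      have hA : ∀ {r}, r ∈ Four → t34 * r * t34 ∈ alternatingGroup (Fin 5) := fun {r} hr =>
        Four_le (mem_Four.2 (four_t34 r (mem_Four.1 hr)))
      have h1 : S.i5 (p * (t34 * p * t34)) * S.j5 (q * (t34 * q * t34)) = 1 := by
        rw [map_mul S.i5 p, map_mul S.j5 q]
        calc S.i5 p * S.i5 (t34 * p * t34) * (S.j5 q * S.j5 (t34 * q * t34))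
            = S.i5 p * S.j5 q * (S.i5 (t34 * p * t34) * S.j5 (t34 * q * t34)) :=
              (S.commute_AA hb (hA hp) (Four_le hq)).mul_mul_mul_comm _ _
          _ = _ := by rw [← hcm, ← hsq]; group
      obtain ⟨hq', hp'⟩ := S.AA_inj hb (mul_mem (Four_le hq) (hA hq)) (mul_mem (Four_le hp) (hA hp)) h1
      have hfix : ∀ {r}, r ∈ Four → r * (t34 * r * t34) = 1 → r = 1 ∨ r = q0 := fun {r} hr h => by
        have hrr : r⁻¹ = r := by rcases mem_Four.1 hr with rfl | rfl | rfl | rfl <;> decide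
        exact four_s_fixed r (mem_Four.1 hr) ((eq_inv_of_mul_eq_one_right h).trans hrr)
      obtain ⟨n, hn, hns⟩ : ∃ n ∈ S.core hb, n * S.s * n⁻¹ = S.i5 p * S.j5 q * S.s := by
        have hq1 : q1 ∈ alternatingGroup (Fin 5) := Four_le (mem_Four.2 (Or.inr (Or.inr (Or.inl rfl))))
        obtain ⟨p', hp'A, hp''⟩ : ∃ p' ∈ alternatingGroup (Fin 5), p' * (t34 * p'⁻¹ * t34) = p := by
          rcases hfix hp hp' with rfl | rfl
          exacts [⟨1, one_mem _, by decide⟩, ⟨q1, hq1, by decide⟩]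
        obtain ⟨q', hq'A, hq''⟩ : ∃ q' ∈ alternatingGroup (Fin 5), q' * (t34 * q'⁻¹ * t34) = q := by
          rcases hfix hq hq' with rfl | rfl
          exacts [⟨1, one_mem _, by decide⟩, ⟨q1, hq1, by decide⟩]
        have heven : t34 * p'⁻¹ * t34 ∈ alternatingGroup (Fin 5) := by
          rw [Equiv.Perm.mem_alternatingGroup, map_mul, map_mul,
            Equiv.Perm.mem_alternatingGroup.1 (inv_mem hp'A), mul_one, ← map_mul]
          decide
        refine ⟨S.i5 p' * S.j5 q', (S.mem_core hb).2 ⟨p', hp'A, q', hq'A, rfl⟩, ?_⟩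
        calc S.i5 p' * S.j5 q' * S.s * (S.i5 p' * S.j5 q')⁻¹
            = S.i5 p' * S.j5 q' * (S.s * (S.i5 p'⁻¹ * S.j5 q'⁻¹) * S.s) * S.s := by
              rw [(S.commute_AA hb (inv_mem hp'A) (inv_mem hq'A)).eq, map_inv, map_inv, mul_inv_rev]
              simp [mul_assoc, S.s2]
          _ = _ := by
              rw [hcm, ← (S.commute_AA hb heven hq'A).mul_mul_mul_comm, ← map_mul, ← map_mul, hp'', hq'']
      have hc : (g⁻¹ * n) * S.s * (g⁻¹ * n)⁻¹ = 1 * τ := by
        rw [one_mul]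
        calc g⁻¹ * n * S.s * (g⁻¹ * n)⁻¹ = g⁻¹ * (n * S.s * n⁻¹) * g := by group
          _ = τ := by rw [hns, e]; group
      exact hτs (S.T4_conj_s hb hτT 1 (one_mem _) hc)
  have hne : H1 ⊓ H2 ≠ H1 := fun e => hτ2' ((e.symm ▸ hτH : τ ∈ H1 ⊓ H2)).2
  refine ⟨⟨H1 ⊓ H2, inferInstance, ?_, le_inf (S.core_le_of_index_two hb hH1) (S.core_le_of_index_two hb hH2),
    ?_, fun g => ⟨sq_mem_of_index_two' hH1 g, sq_mem_of_index_two' hH2 g⟩⟩⟩
  · have h1 := relIndex_mul_index (inf_le_left : H1 ⊓ H2 ≤ H1)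
    have h2 : (H1 ⊓ H2).index ≤ 4 := index_inf_le.trans (by rw [hH1, hH2])
    have h3 : (H1 ⊓ H2).relIndex H1 ≠ 1 := fun e => hne (le_antisymm inf_le_left (relIndex_eq_one.1 e))
    have h4 : (H1 ⊓ H2).relIndex H1 ≠ 0 := index_ne_zero_of_finite
    rw [hH1] at h1
    omega
  · intro x hx hxK
    obtain ⟨a, ha, b, hb', t, ht, rfl⟩ := (S.mem_X hb).1 hx
    have hn : S.i5 a * S.j5 b ∈ S.core hb := (S.mem_core hb).2 ⟨a, ha, b, hb', rfl⟩
    have hnH : S.i5 a * S.j5 b ∈ H1 ⊓ H2 :=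
      le_inf (S.core_le_of_index_two hb hH1) (S.core_le_of_index_two hb hH2) hn
    have htK : t ∈ H1 ⊓ H2 := by
      have := mul_mem (inv_mem hnH) hxK
      rwa [inv_mul_cancel_left] at this
    have hts : t = 1 ∨ t = S.s ∨ t = τ ∨ t = τ * S.s := by
      rcases S.mem_T4.1 ht with h | h | h | h
      · exact Or.inl h
      · exact Or.inr (Or.inl h)
      all_goals rcases hτ with rfl | rfl
      · exact Or.inr (Or.inr (Or.inl h))
      · exact Or.inr (Or.inr (Or.inr (by rw [mul_assoc, S.s2, mul_one]; exact h)))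
      · exact Or.inr (Or.inr (Or.inr h))
      · exact Or.inr (Or.inr (Or.inl h))
    rcases hts with rfl | rfl | rfl | rfl
    · rw [mul_one]; exact hn
    · exact absurd htK.1 hs1
    · exact absurd htK.2 hτ2'
    · exact absurd ((mul_mem_cancel_left hτH).1 htK.1) hs1

end CfsgLib.ThreeLocalS8
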