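import Cfsg.Agent.Lib.Recognition.ThreeLocalS8.Overgroup
import Mathlib.GroupTheory.GroupAction.Quotient

/-!
# The involution `s` fixes one coset of `X`, so `X` has odd index
-/

set_option autoImplicit false
set_option linter.unusedSectionVars false
set_option maxRecDepth 20000

namespace CfsgLib.ThreeLocalS8

open Equiv Subgroup

variable {G : Type*} [Group G] [Finite G] (S : Data G) (hb : S.b = t01 * t34)

include hb

theorem Data.card_T4 : Nat.card S.T4 = 4 := by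
  have hse : S.σ ≠ S.s := fun e => by
    have h := S.σz'
    rw [e, (S.s_central (le_normalizer S.z_mem)).symm.eq, mul_assoc, S.s2, mul_one] at h
    rw [S.z_pair, S.c_pair] at h
    exact absurd (S.pair.1 h).1 (by decide)
  have hσ1 : S.σ ≠ 1 := fun e => by
    have h := S.σz'
    rw [e, one_mul, mul_one, S.z_pair, S.c_pair] at h
    exact absurd (S.pair.1 h).1 (by decide)
  have hσs : S.σ * S.s ≠ 1 := fun e => hse (by
    calc S.σ = S.σ * (S.s * S.s) := by rw [S.s2, mul_one]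
      _ = S.s := by rw [← mul_assoc, e, one_mul])
  have h1 : S.σ * S.s ≠ S.σ := fun e => S.s_ne (mul_eq_left.1 e)
  have h2 : S.σ * S.s ≠ S.s := fun e => hσ1 (mul_eq_right.1 e)
  classical
  have e : Nat.card S.T4 = ({1, S.s, S.σ, S.σ * S.s} : Finset G).card :=
    Nat.card_eq_finsetCard _ ▸ Nat.card_congr (Equiv.subtypeEquivRight fun x => by simp [S.mem_T4])
  rw [e]
  simp [S.s_ne, S.s_ne.symm, hσ1, hσ1.symm, hσs, hσs.symm, hse, hse.symm, h1, h1.symm, h2, h2.symm]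

/-- The involutions of `X`: those centralising an element of order three, and those of type double-double. -/
theorem Data.invol_cases {i : G} (hi : i ∈ S.X hb) (h2 : i * i = 1) :
    (∃ d ∈ S.X hb, d * d * d = 1 ∧ d ≠ 1 ∧ Commute i d) ∨
      ∃ a b : Perm (Fin 5), a ∈ alternatingGroup (Fin 5) ∧ b ∈ alternatingGroup (Fin 5) ∧
        a * a = 1 ∧ a ≠ 1 ∧ b * b = 1 ∧ b ≠ 1 ∧ i = S.i5 a * S.j5 b := by
  obtain ⟨a, ha, b, hb', t, ht, rfl⟩ := (S.mem_X hb).1 hi
  have hcy : cyc ∈ alternatingGroup (Fin 5) := by rw [Equiv.Perm.mem_alternatingGroup]; decide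
  have hc : Commute (S.i5 a) (S.j5 b) := S.commute_AA hb ha hb'
  have hcX : S.c ∈ S.X hb := mem_sup_left (S.D_le_core hb S.c_mem)
  have hzX : S.z ∈ S.X hb := mem_sup_left (S.D_le_core hb S.z_mem)
  have heven : ∀ {p}, p ∈ alternatingGroup (Fin 5) → t34 * p * t34 ∈ alternatingGroup (Fin 5) :=
    fun {p} hp => by
      rw [Equiv.Perm.mem_alternatingGroup, map_mul, map_mul, Equiv.Perm.mem_alternatingGroup.1 hp,
        mul_one, ← map_mul]
      decide
  -- the case `t = s`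
  by_cases hts : t = S.s
  · subst hts
    left
    have e : S.i5 a * S.j5 b * S.s * (S.i5 a * S.j5 b * S.s) =
        S.i5 (a * t34 * (a * t34)) * S.j5 (t34 * (t34 * b * t34) * t34 * (t34 * b * t34)) := by
      have h1 : S.s * S.i5 a = S.i5 (t34 * a * t34) * S.s := by
        rw [map_mul, map_mul, show S.i5 t34 = S.s from rfl, mul_assoc _ S.s S.s, S.s2, mul_one]
      have h3 : S.s * S.j5 b = S.j5 (t34 * b * t34) * S.s := by
        rw [map_mul, map_mul, S.j5_t34, mul_assoc _ S.s S.s, S.s2, mul_one]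
      calc S.i5 a * S.j5 b * S.s * (S.i5 a * S.j5 b * S.s)
          = S.i5 a * S.j5 b * (S.s * S.i5 a) * S.j5 b * S.s := by group
        _ = S.i5 a * (S.j5 b * S.i5 (t34 * a * t34)) * (S.s * S.j5 b) * S.s := by rw [h1]; group
        _ = S.i5 a * (S.i5 (t34 * a * t34) * S.j5 b) * (S.j5 (t34 * b * t34) * S.s) * S.s := by
          rw [← (S.commute_AA hb (heven ha) hb').eq, h3]
        _ = S.i5 (a * (t34 * a * t34)) * S.j5 (b * (t34 * b * t34)) * (S.s * S.s) := by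
          simp only [map_mul, mul_assoc]
        _ = _ := by
          rw [S.s2, mul_one, show a * (t34 * a * t34) = a * t34 * (a * t34) by group,
            show t34 * (t34 * b * t34) * t34 * (t34 * b * t34) =
              t34 * t34 * b * (t34 * t34) * (t34 * b * t34) by group,
            show t34 * t34 = 1 by decide, one_mul, mul_one]
    rw [e] at h2
    have hA1 : a * t34 * (a * t34) ∈ alternatingGroup (Fin 5) := by
      rw [show a * t34 * (a * t34) = a * (t34 * a * t34) by group]; exact mul_mem ha (heven ha)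
    have hA2 : t34 * (t34 * b * t34) * t34 * (t34 * b * t34) ∈ alternatingGroup (Fin 5) :=
      mul_mem (heven (heven hb')) (heven hb')
    obtain ⟨γ, hγ, hγ3, hγ1, hγc⟩ := odd_involution a (Equiv.Perm.mem_alternatingGroup.1 ha)
      (S.AA_inj hb hA2 hA1 h2).2
    have hγA := Equiv.Perm.mem_alternatingGroup.2 hγ
    refine ⟨S.i5 γ, S.i5_mem_X hb γ, by rw [← map_mul, ← map_mul, hγ3, map_one],
      fun e' => hγ1 (S.i5_eq_one e'), ?_⟩
    rw [show S.i5 a * S.j5 b * S.s = S.j5 b * (S.i5 a * S.s) by rw [hc.eq, mul_assoc]]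
    refine (S.commute_AA hb hγA hb').symm.mul_left ?_
    rw [show S.s = S.i5 t34 from rfl, ← map_mul, commute_iff_eq, ← map_mul, ← map_mul, hγc]
  -- the case `t ∈ {σ, σ s}`
  have htcases := S.mem_T4.1 ht
  by_cases ht1 : t = 1
  · subst ht1
    rw [mul_one] at h2 ⊢
    have e : S.i5 (a * a) * S.j5 (b * b) = 1 := by
      rw [map_mul, map_mul, ← hc.symm.mul_mul_mul_comm]; exact h2
    obtain ⟨hb2, ha2⟩ := S.AA_inj hb (mul_mem hb' hb') (mul_mem ha ha) e
    by_cases a1 : a = 1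
    · left
      subst a1
      refine ⟨S.c, hcX, S.c3, S.c_ne, ?_⟩
      rw [map_one, one_mul]
      exact (S.commute_AA hb hcy hb').symm
    by_cases b1 : b = 1
    · left
      subst b1
      refine ⟨S.z, hzX, S.z3, S.z_ne, ?_⟩
      rw [map_one, mul_one, ← S.j5_cyc]
      exact S.commute_AA hb ha hcy
    exact Or.inr ⟨a, b, ha, hb', ha2, a1, hb2, b1, rfl⟩
  left
  have ht' : t = S.σ ∨ t = S.σ * S.s := (htcases.resolve_left ht1).resolve_left hts
  obtain ⟨θ, hθ2, hθt, htθ⟩ : ∃ θ : Perm (Fin 5), θ * θ = 1 ∧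
      (∀ p ∈ alternatingGroup (Fin 5), θ * p * θ ∈ alternatingGroup (Fin 5)) ∧ t = S.σ * S.i5 θ := by
    rcases ht' with rfl | rfl
    · exact ⟨1, one_mul 1, fun p hp => by simpa using hp, by rw [map_one, mul_one]⟩
    · exact ⟨t34, by decide, fun p hp => heven hp, rfl⟩
  have hθj : S.j5 θ = S.i5 θ := by
    rcases ht' with e | e
    · have : S.i5 θ = 1 := mul_eq_left.1 (htθ.symm.trans e)
      rw [S.j5_apply, this, mul_one, S.σ2]
    · have : S.i5 θ = S.s := mul_left_cancel (htθ.symm.trans e)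
      rw [S.j5_apply, this, S.σs']
  have hti : ∀ p, t * S.i5 p = S.j5 (θ * p * θ) * t := fun p => by
    rw [htθ, S.j5_apply, map_mul, map_mul]
    calc S.σ * S.i5 θ * S.i5 p = S.σ * S.i5 θ * S.i5 p * (S.i5 θ * S.i5 θ) := by
          rw [← map_mul S.i5 θ θ, hθ2, map_one, mul_one]
      _ = S.σ * (S.i5 θ * S.i5 p * S.i5 θ) * (S.σ * S.σ) * S.i5 θ := by rw [S.σ2]; group
      _ = _ := by group
  have htj : ∀ p, t * S.j5 p = S.i5 (θ * p * θ) * t := fun p => by
    rw [map_mul S.i5, map_mul S.i5]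
    nth_rewrite 1 [htθ]
    rw [← hθj]
    calc S.σ * S.j5 θ * S.j5 p = S.σ * S.j5 θ * S.j5 p * (S.j5 θ * S.j5 θ) := by
          rw [← map_mul S.j5 θ θ, hθ2, map_one, mul_one]
      _ = S.σ * (S.j5 θ * S.j5 p * S.j5 θ) * (S.σ * S.σ) * S.j5 θ := by rw [S.σ2]; group
      _ = S.σ * (S.j5 θ * S.j5 p * S.j5 θ) * S.σ * t := by rw [htθ, hθj]; group
      _ = _ := by
        rw [S.σ_mul, S.σ_mul, S.j5_apply p, S.σσ,
          show S.σ * S.j5 θ * S.σ = S.j5 θ by rw [hθj, ← S.j5_apply, hθj]]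
  have htt : t * t = 1 := by
    rw [htθ]
    calc S.σ * S.i5 θ * (S.σ * S.i5 θ) = S.σ * S.i5 θ * S.σ * S.i5 θ := by group
      _ = S.i5 θ * S.i5 θ := by rw [← S.j5_apply, hθj]
      _ = 1 := by rw [← map_mul, hθ2, map_one]
  have e : S.i5 a * S.j5 b * t * (S.i5 a * S.j5 b * t) =
      S.i5 (a * (θ * b * θ)) * S.j5 (b * (θ * a * θ)) := by
    calc S.i5 a * S.j5 b * t * (S.i5 a * S.j5 b * t) = S.i5 a * S.j5 b * (t * S.i5 a) * S.j5 b * t := by
          group
      _ = S.i5 a * S.j5 b * S.j5 (θ * a * θ) * (t * S.j5 b) * t := by rw [hti]; group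
      _ = S.i5 a * S.j5 (b * (θ * a * θ)) * S.i5 (θ * b * θ) * (t * t) := by
        rw [htj, map_mul S.j5 b]; group
      _ = _ := by
        rw [htt, mul_one, mul_assoc (S.i5 a),
          ← (S.commute_AA hb (hθt b hb') (mul_mem hb' (hθt a ha))).eq, map_mul S.i5 a, ← mul_assoc]
  rw [e] at h2
  obtain ⟨hba, -⟩ := S.AA_inj hb (mul_mem hb' (hθt a ha)) (mul_mem ha (hθt b hb')) h2
  have hbe : b = θ * a⁻¹ * θ := by
    rw [eq_inv_of_mul_eq_one_left hba]
    have hθi : θ⁻¹ = θ := inv_eq_of_mul_eq_one_right hθ2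
    rw [mul_inv_rev, mul_inv_rev, hθi, mul_assoc]
  have hval : S.i5 a * S.j5 b * t = S.i5 a * t * (S.i5 a)⁻¹ := by
    rw [hbe, mul_assoc (S.i5 a), ← hti, map_inv, mul_assoc]
  have htd : Commute t (S.c * S.z) := by
    have h1 : Commute S.σ (S.c * S.z) := by
      rw [commute_iff_eq]
      calc S.σ * (S.c * S.z) = S.σ * (S.c * S.z) * S.σ * S.σ := by
            rw [mul_assoc (S.σ * _), S.σ2, mul_one]
        _ = _ := by rw [S.σ_mul, S.σc, S.σz', S.commute_zc.eq]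
    have h2' : Commute S.s (S.c * S.z) := (S.s_central (le_normalizer (mul_mem S.c_mem S.z_mem))).symm
    rcases ht' with rfl | rfl
    exacts [h1, h1.mul_left h2']
  refine ⟨S.i5 a * (S.c * S.z) * (S.i5 a)⁻¹,
    mul_mem (mul_mem (S.i5_mem_X hb a) (mul_mem hcX hzX)) (inv_mem (S.i5_mem_X hb a)), ?_, ?_, ?_⟩
  · calc _ = S.i5 a * (S.c * S.z * (S.c * S.z) * (S.c * S.z)) * (S.i5 a)⁻¹ := by group
      _ = 1 := by rw [S.D_three (mul_mem S.c_mem S.z_mem)]; group
  · intro e'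
    have h := conj_eq_one_iff.1 e'
    rw [S.c_pair, S.z_pair, S.mul_pair, ← mul_one (1 : G)] at h
    rw [show (1 : G) * 1 = S.i3 1 * S.i5 1 by simp] at h
    exact absurd (S.pair.1 h).1 (by decide)
  · rw [hval]; exact htd.map (MulAut.conj (S.i5 a)).toMonoidHom

/-- The four-group times its transform: a Sylow 2-subgroup of the core. -/
def Data.VV : Subgroup G :=
  ((Four.subgroupOf (alternatingGroup (Fin 5))).prod (Four.subgroupOf (alternatingGroup (Fin 5)))).map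
    (S.AA hb)

theorem Data.mem_VV {x : G} : x ∈ S.VV hb ↔ ∃ v ∈ Four, ∃ w ∈ Four, x = S.i5 v * S.j5 w := by
  constructor
  · rintro ⟨⟨v, w⟩, ⟨hv, hw⟩, rfl⟩
    exact ⟨v, hv, w, hw, rfl⟩
  · rintro ⟨v, hv, w, hw, rfl⟩
    exact ⟨(⟨v, Four_le hv⟩, ⟨w, Four_le hw⟩), ⟨hv, hw⟩, rfl⟩

theorem Data.VV_le_core : S.VV hb ≤ S.core hb := fun x hx => by
  obtain ⟨v, hv, w, hw, rfl⟩ := (S.mem_VV hb).1 hx
  exact (S.mem_core hb).2 ⟨v, Four_le hv, w, Four_le hw, rfl⟩

theorem Data.card_VV : Nat.card (S.VV hb) = 16 := by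
  have hF : Nat.card Four = 4 := by
    have e : Nat.card Four = ({1, q0, q1, q0 * q1} : Finset (Perm (Fin 5))).card :=
      Nat.card_eq_finsetCard _ ▸ Nat.card_congr (Equiv.subtypeEquivRight fun x => by simp [mem_Four])
    rw [e]; decide
  rw [Data.VV, card_map_of_injective (S.AA_injective hb),
    Nat.card_congr (prodEquiv _ _).toEquiv, Nat.card_prod,
    Nat.card_congr (subgroupOfEquivOfLe Four_le).toEquiv, hF]

theorem Data.VV_commute {x y : G} (hx : x ∈ S.VV hb) (hy : y ∈ S.VV hb) : Commute x y := by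
  obtain ⟨v, hv, w, hw, rfl⟩ := (S.mem_VV hb).1 hx
  obtain ⟨v', hv', w', hw', rfl⟩ := (S.mem_VV hb).1 hy
  have hF : ∀ {p q}, p ∈ Four → q ∈ Four → p * q = q * p := fun {p q} hp hq => by
    rcases mem_Four.1 hp with rfl | rfl | rfl | rfl <;>
      rcases mem_Four.1 hq with rfl | rfl | rfl | rfl <;> decide
  have c1 : Commute (S.i5 v) (S.i5 v') := by rw [commute_iff_eq, ← map_mul, ← map_mul, hF hv hv']
  have c2 : Commute (S.j5 w) (S.j5 w') := by rw [commute_iff_eq, ← map_mul, ← map_mul, hF hw hw']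
  exact ((c1.mul_right (S.commute_AA hb (Four_le hv) (Four_le hw'))).mul_left
    (((S.commute_AA hb (Four_le hv') (Four_le hw)).symm).mul_right c2))

theorem Data.T4_VV : S.T4 ≤ normalizer (S.VV hb : Set G) := by
  have hs : S.s ∈ normalizer (S.VV hb : Set G) := mem_normalizer_of_conj_mem fun x hx => by
    obtain ⟨v, hv, w, hw, rfl⟩ := (S.mem_VV hb).1 hx
    refine (S.mem_VV hb).2 ⟨_, mem_Four.2 (four_t34 v (mem_Four.1 hv)), _,
      mem_Four.2 (four_t34 w (mem_Four.1 hw)), ?_⟩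
    rw [inv_eq_of_mul_eq_one_right S.s2, map_mul, map_mul, map_mul, map_mul, S.j5_t34,
      show S.i5 t34 = S.s from rfl]
    calc S.s * (S.i5 v * S.j5 w) * S.s = S.s * S.i5 v * (S.s * S.s) * S.j5 w * S.s := by rw [S.s2]; group
      _ = _ := by group
  have hσ : S.σ ∈ normalizer (S.VV hb : Set G) := mem_normalizer_of_conj_mem fun x hx => by
    obtain ⟨v, hv, w, hw, rfl⟩ := (S.mem_VV hb).1 hx
    refine (S.mem_VV hb).2 ⟨w, hw, v, hv, ?_⟩
    rw [S.σinv, S.σ_mul, ← S.j5_apply, S.j5_apply w, S.σσ, (S.commute_AA hb (Four_le hw) (Four_le hv)).eq]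
  intro t ht
  rcases S.mem_T4.1 ht with rfl | rfl | rfl | rfl
  exacts [one_mem _, hs, hσ, mul_mem hσ hs]

/-- A Sylow 2-subgroup. -/
def Data.P2 : Subgroup G := S.VV hb ⊔ S.T4

theorem Data.card_P2 : Nat.card (S.P2 hb) = 64 := by
  rw [Data.P2, card_sup_disjoint _ _ (S.T4_VV hb) fun t ht hm => S.T4_disjoint hb ht (S.VV_le_core hb hm),
    S.card_VV hb, S.card_T4 hb]

theorem Data.e_mem_VV : S.e ∈ S.VV hb :=
  (S.mem_VV hb).2 ⟨1, one_mem _, q0, mem_Four.2 (Or.inr (Or.inl rfl)), by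
    rw [map_one, one_mul, S.e_eq hb]⟩

theorem Data.f_mem_VV : S.f ∈ S.VV hb :=
  (S.mem_VV hb).2 ⟨q0, mem_Four.2 (Or.inr (Or.inl rfl)), 1, one_mem _, by
    rw [map_one, mul_one, S.f_eq hb]⟩

theorem Data.P2_cent : S.P2 hb ≤ centralizer ({S.e * S.f} : Set G) := by
  refine sup_le (fun x hx => mem_centralizer_singleton_iff.2
    (S.VV_commute hb hx (mul_mem (S.e_mem_VV hb) (S.f_mem_VV hb))).eq) ?_
  have hσ : Commute S.σ (S.e * S.f) := by
    rw [commute_iff_eq]
    calc S.σ * (S.e * S.f) = S.σ * (S.e * S.f) * S.σ * S.σ := by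
          rw [mul_assoc (S.σ * _), S.σ2, mul_one]
      _ = _ := by rw [S.σ_mul, S.σe', S.σf, S.ef.eq]
  have hs : Commute S.s (S.e * S.f) := (S.es.symm.mul_right S.fs.symm)
  intro t ht
  rcases S.mem_T4.1 ht with rfl | rfl | rfl | rfl
  exacts [one_mem _, mem_centralizer_singleton_iff.2 hs.eq, mem_centralizer_singleton_iff.2 hσ.eq,
    mem_centralizer_singleton_iff.2 (hσ.mul_left hs).eq]

theorem Data.double_to_ef {a b : Perm (Fin 5)} (ha : a ∈ alternatingGroup (Fin 5))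
    (hb' : b ∈ alternatingGroup (Fin 5)) (ha2 : a * a = 1) (ha1 : a ≠ 1) (hb2 : b * b = 1) (hb1 : b ≠ 1) :
    ∃ n ∈ S.core hb, n * (S.i5 a * S.j5 b) * n⁻¹ = S.e * S.f := by
  obtain ⟨p, hp, hpa⟩ := double_conj a (Equiv.Perm.mem_alternatingGroup.1 ha) ha2 ha1
  obtain ⟨q, hq, hqb⟩ := double_conj b (Equiv.Perm.mem_alternatingGroup.1 hb') hb2 hb1
  have hp' := Equiv.Perm.mem_alternatingGroup.2 hp
  have hq' := Equiv.Perm.mem_alternatingGroup.2 hq
  refine ⟨S.i5 p * S.j5 q, (S.mem_core hb).2 ⟨p, hp', q, hq', rfl⟩, ?_⟩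
  calc S.i5 p * S.j5 q * (S.i5 a * S.j5 b) * (S.i5 p * S.j5 q)⁻¹
      = S.i5 p * (S.j5 q * S.i5 a) * S.j5 b * (S.j5 q)⁻¹ * (S.i5 p)⁻¹ := by group
    _ = S.i5 p * S.i5 a * (S.j5 q * S.j5 b * (S.j5 q)⁻¹) * (S.i5 p)⁻¹ := by
      rw [← (S.commute_AA hb ha hq').eq]; group
    _ = S.i5 p * S.i5 a * S.j5 q0 * (S.i5 p)⁻¹ := by
      rw [← map_inv S.j5 q, ← map_mul S.j5, ← map_mul S.j5, hqb]
    _ = S.i5 p * S.i5 a * (S.i5 p)⁻¹ * S.j5 q0 := by
      rw [mul_assoc (S.i5 p * S.i5 a),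
        ← ((S.commute_AA hb hp' (Four_le (mem_Four.2 (Or.inr (Or.inl rfl))))).inv_left).eq]
      group
    _ = S.e * S.f := by
      rw [← map_inv, ← map_mul, ← map_mul, hpa, ← S.f_eq hb, ← S.e_eq hb, S.ef.eq]

/-- `s` fixes only the coset `X`. -/
theorem Data.fix_s {g : G} (hg : g * S.s * g⁻¹ ∈ S.X hb) : g ∈ S.X hb := by
  have h2 : g * S.s * g⁻¹ * (g * S.s * g⁻¹) = 1 := by
    calc g * S.s * g⁻¹ * (g * S.s * g⁻¹) = g * (S.s * S.s) * g⁻¹ := by group
      _ = 1 := by rw [S.s2]; group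
  rcases S.invol_cases hb hg h2 with ⟨d, hd, hd3, hd1, hc⟩ | ⟨a, b, ha, hb', ha2, ha1, hb2, hb1, e⟩
  · have hm : g⁻¹ * d * g⁻¹⁻¹ ∈ S.X hb := by
      refine S.N_le_X hb ((S.cent_s_eq hb).le (mem_centralizer_singleton_iff.2 ?_))
      have := hc.symm.map (MulAut.conj g⁻¹).toMonoidHom
      simpa [mul_assoc] using this.eq
    have := inv_mem (S.fix_three hb hd hd3 hd1 hm)
    rwa [inv_inv] at this
  · exfalso
    obtain ⟨n, -, hn⟩ := S.double_to_ef hb ha hb' ha2 ha1 hb2 hb1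
    rw [← e] at hn
    have hle : (S.P2 hb).map (MulAut.conj (n * g)⁻¹).toMonoidHom ≤ normalizer (S.D : Set G) := by
      rintro _ ⟨x, hx, rfl⟩
      refine (S.cent_s_eq hb).le (mem_centralizer_singleton_iff.2 ?_)
      have hx' : Commute x (S.e * S.f) := mem_centralizer_singleton_iff.1 (S.P2_cent hb hx)
      rw [← hn] at hx'
      have := hx'.map (MulAut.conj (n * g)⁻¹).toMonoidHom
      simpa [mul_assoc] using this.eq
    have := card_dvd_of_le hle
    rw [card_map_of_injective (MulAut.conj (n * g)⁻¹).injective, S.card_P2 hb, S.cardN] at this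
    norm_num at this

/-- `X` has odd index. -/
theorem Data.index_odd : Odd (S.X hb).index := by
  have : Fact (Nat.Prime 2) := ⟨Nat.prime_two⟩
  have hs : orderOf S.s = 2 := orderOf_eq_prime (by rw [pow_two]; exact S.s2) S.s_ne
  have hp : IsPGroup 2 (zpowers S.s) := IsPGroup.of_card (n := 1) (by rw [Nat.card_zpowers, hs, pow_one])
  have hmod := hp.card_modEq_card_fixedPoints (G ⧸ S.X hb)
  have hsX : S.s ∈ S.X hb := S.N_le_X hb S.s_mem
  have hfix : Nat.card (MulAction.fixedPoints (zpowers S.s) (G ⧸ S.X hb)) = 1 := by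
    rw [Nat.card_eq_one_iff_unique]
    refine ⟨⟨fun x y => ?_⟩, ⟨⟨(1 : G), fun w => ?_⟩⟩⟩
    · have key : ∀ x : MulAction.fixedPoints (zpowers S.s) (G ⧸ S.X hb),
          (x : G ⧸ S.X hb) = ((1 : G) : G ⧸ S.X hb) := by
        rintro ⟨x, hx⟩
        obtain ⟨g, rfl⟩ := QuotientGroup.mk_surjective x
        have e := hx ⟨S.s, mem_zpowers _⟩
        change ((S.s * g : G) : G ⧸ S.X hb) = g at e
        have hm := QuotientGroup.eq.1 e.symm
        refine QuotientGroup.eq.2 ?_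
        rw [mul_one]
        exact S.fix_s hb (by rw [inv_inv, mul_assoc]; exact hm)
      exact Subtype.ext ((key x).trans (key y).symm)
    · refine QuotientGroup.eq.2 ?_
      show ((w : G) * 1)⁻¹ * 1 ∈ S.X hb
      rw [mul_one, mul_one]
      exact inv_mem (zpowers_le.2 hsX w.2)
  rw [hfix] at hmod
  rw [Nat.odd_iff, Subgroup.index]
  exact hmod

end CfsgLib.ThreeLocalS8
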