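import Cfsg.Agent.Lib.Recognition.ThreeLocalS8.Basic
import Mathlib.Algebra.Group.Subgroup.Pointwise
import Mathlib.GroupTheory.SpecificGroups.Dihedral
import Mathlib.GroupTheory.NoncommCoprod
import Mathlib.Tactic.NormNum.Prime

/-!
# The centralisers of the elements of `D` and the normaliser of `D`
-/

set_option autoImplicit false
set_option linter.unusedSectionVars false

namespace CfsgLib.ThreeLocalS8

open Equiv Subgroup

variable {G : Type*} [Group G]

/-- The element `z`. -/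
def Setup.z (S : Setup G) : G := S.i3 rho

/-- The element `c`. -/
def Setup.c (S : Setup G) : G := S.i5 cyc

/-- The involution inverting `z` and centralising `c`. -/
def Setup.e (S : Setup G) : G := S.i3 tau

/-- The involution inverting `c` and centralising `z`. -/
def Setup.f (S : Setup G) : G := S.i5 S.b

/-- The involution centralising `D`. -/
def Setup.s (S : Setup G) : G := S.i5 t34

/-- The Sylow 3-subgroup. -/
def Setup.D (S : Setup G) : Subgroup G :=
  (zpowers rho).map S.i3 ⊔ (zpowers cyc).map S.i5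

theorem Setup.σinv (S : Setup G) : S.σ⁻¹ = S.σ := inv_eq_of_mul_eq_one_right S.σ2

theorem Setup.σσ (S : Setup G) (g : G) : S.σ * (S.σ * g * S.σ) * S.σ = g := by
  rw [show S.σ * (S.σ * g * S.σ) * S.σ = S.σ * S.σ * g * (S.σ * S.σ) by group, S.σ2, one_mul, mul_one]

theorem Setup.σ_mul (S : Setup G) (g h : G) :
    S.σ * (g * h) * S.σ = S.σ * g * S.σ * (S.σ * h * S.σ) := by
  rw [show S.σ * g * S.σ * (S.σ * h * S.σ) = S.σ * g * (S.σ * S.σ) * h * S.σ by group, S.σ2, mul_one]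
  group

theorem Setup.σ_commute (S : Setup G) {g h : G} (hc : Commute g h) :
    Commute (S.σ * g * S.σ) (S.σ * h * S.σ) := by
  rw [commute_iff_eq, ← S.σ_mul, ← S.σ_mul, hc.eq]

theorem Setup.σc (S : Setup G) : S.σ * S.c * S.σ = S.z := by rw [Setup.c, ← S.σz, S.σσ]; rfl

theorem Setup.σz' (S : Setup G) : S.σ * S.z * S.σ = S.c := S.σz

theorem Setup.σe' (S : Setup G) : S.σ * S.e * S.σ = S.f := S.σe

theorem Setup.σf (S : Setup G) : S.σ * S.f * S.σ = S.e := by rw [← S.σe', S.σσ]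

theorem Setup.σs' (S : Setup G) : S.σ * S.s * S.σ = S.s := S.σs

theorem Setup.i3_inj (S : Setup G) {a a' : Perm (Fin 3)} (h : S.i3 a = S.i3 a') : a = a' :=
  ((eq_iff S.comm S.inj (q := 1) (q' := 1)).1 (by rw [h])).1

theorem Setup.i5_inj (S : Setup G) {q q' : Perm (Fin 5)} (h : S.i5 q = S.i5 q') : q = q' :=
  ((eq_iff S.comm S.inj (a := 1) (a' := 1)).1 (by rw [h])).2

theorem Setup.i5_eq_one (S : Setup G) {q : Perm (Fin 5)} (h : S.i5 q = 1) : q = 1 :=
  S.i5_inj (h.trans (map_one _).symm)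

theorem Setup.pair (S : Setup G) {a a' : Perm (Fin 3)} {q q' : Perm (Fin 5)} :
    S.i3 a * S.i5 q = S.i3 a' * S.i5 q' ↔ a = a' ∧ q = q' :=
  eq_iff S.comm S.inj

theorem Setup.mul_pair (S : Setup G) (a a' : Perm (Fin 3)) (q q' : Perm (Fin 5)) :
    S.i3 a * S.i5 q * (S.i3 a' * S.i5 q') = S.i3 (a * a') * S.i5 (q * q') :=
  CfsgLib.ThreeLocalS8.mul_pair S.comm S.inj a a' q q'

theorem Setup.z_pair (S : Setup G) : S.z = S.i3 rho * S.i5 1 := by
  rw [map_one, mul_one]; rfl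

theorem Setup.c_pair (S : Setup G) : S.c = S.i3 1 * S.i5 cyc := by
  rw [map_one, one_mul]; rfl

theorem Setup.z3 (S : Setup G) : S.z * S.z * S.z = 1 := by
  simp only [Setup.z]; rw [← map_mul, ← map_mul, rho_three, map_one]

theorem Setup.c3 (S : Setup G) : S.c * S.c * S.c = 1 := by
  simp only [Setup.c]; rw [← map_mul, ← map_mul, cyc_three, map_one]

theorem Setup.z_ne (S : Setup G) : S.z ≠ 1 := fun h =>
  absurd (S.i3_inj (h.trans (map_one _).symm)) (by decide)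

theorem Setup.c_ne (S : Setup G) : S.c ≠ 1 := fun h =>
  absurd (S.i5_eq_one h) (by decide)

theorem Setup.cent_z (S : Setup G) {g : G} (h : Commute g S.z) :
    ∃ a q, g = S.i3 a * S.i5 q ∧ (a = 1 ∨ a = rho ∨ a = rho * rho) := by
  obtain ⟨a, q, rfl⟩ := S.norm g (Subgroup.centralizer_le_normalizer _ (mem_centralizer_iff.2
    fun u hu => by
      obtain ⟨n, rfl⟩ := mem_zpowers_iff.1 hu
      exact (h.zpow_right n).symm.eq))
  rw [S.z_pair, commute_iff S.comm S.inj] at h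
  exact ⟨a, q, rfl, cent_rho a h.1⟩

theorem Setup.commute_zc (S : Setup G) : Commute S.z S.c := S.comm _ _

theorem Setup.mem_D (S : Setup G) {d : G} : d ∈ S.D ↔ ∃ a r, d = S.i3 a * S.i5 r ∧
    (a = 1 ∨ a = rho ∨ a = rho * rho) ∧ (r = 1 ∨ r = cyc ∨ r = cyc * cyc) := by
  constructor
  · intro hd
    have hle : (zpowers rho).map S.i3 ≤ normalizer (((zpowers cyc).map S.i5 : Subgroup G) : Set G) := by
      refine le_trans ?_ (Subgroup.centralizer_le_normalizer _)
      rintro _ ⟨a, -, rfl⟩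
      refine mem_centralizer_iff.2 ?_
      rintro _ ⟨q, -, rfl⟩
      exact (S.comm a q).symm.eq
    rw [← SetLike.mem_coe, Setup.D, coe_mul_of_left_le_normalizer_right _ _ hle] at hd
    obtain ⟨_, ⟨a, ha, rfl⟩, _, ⟨r, hr, rfl⟩, rfl⟩ := hd
    exact ⟨a, r, rfl, (mem_zpowers_three rho_three).1 ha, (mem_zpowers_three cyc_three).1 hr⟩
  · rintro ⟨a, r, rfl, ha, hr⟩
    exact mul_mem (mem_sup_left (mem_map_of_mem _ ((mem_zpowers_three rho_three).2 ha)))
      (mem_sup_right (mem_map_of_mem _ ((mem_zpowers_three cyc_three).2 hr)))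

theorem Setup.z_mem (S : Setup G) : S.z ∈ S.D :=
  S.mem_D.2 ⟨rho, 1, S.z_pair, Or.inr (Or.inl rfl), Or.inl rfl⟩

theorem Setup.c_mem (S : Setup G) : S.c ∈ S.D :=
  S.mem_D.2 ⟨1, cyc, S.c_pair, Or.inl rfl, Or.inr (Or.inl rfl)⟩

theorem Setup.D_three (S : Setup G) {d : G} (hd : d ∈ S.D) : d * d * d = 1 := by
  obtain ⟨a, r, rfl, ha, hr⟩ := S.mem_D.1 hd
  rw [S.mul_pair, S.mul_pair]
  have h1 : a * a * a = 1 := by rcases ha with rfl | rfl | rfl <;> decide
  have h2 : r * r * r = 1 := by rcases hr with rfl | rfl | rfl <;> decide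
  rw [h1, h2, map_one, map_one, one_mul]

theorem Setup.D_commute (S : Setup G) {d d' : G} (hd : d ∈ S.D) (hd' : d' ∈ S.D) : Commute d d' := by
  obtain ⟨a, r, rfl, ha, hr⟩ := S.mem_D.1 hd
  obtain ⟨a', r', rfl, ha', hr'⟩ := S.mem_D.1 hd'
  refine (commute_iff S.comm S.inj).2 ⟨?_, ?_⟩
  · rcases ha with rfl | rfl | rfl <;> rcases ha' with rfl | rfl | rfl <;> decide
  · rcases hr with rfl | rfl | rfl <;> rcases hr' with rfl | rfl | rfl <;> decide

/-- Conjugation by `i₃ a · i₅ q` acts componentwise. -/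
theorem Setup.conj_pair (S : Setup G) (a a' : Perm (Fin 3)) (q q' : Perm (Fin 5)) :
    S.i3 a * S.i5 q * (S.i3 a' * S.i5 q') * (S.i3 a * S.i5 q)⁻¹ =
      S.i3 (a * a' * a⁻¹) * S.i5 (q * q' * q⁻¹) := by
  rw [mul_inv_eq_iff_eq_mul, S.mul_pair, S.mul_pair]
  simp [mul_assoc]

theorem mem_normalizer_of_conj_mem [Finite G] {K : Subgroup G} {g : G}
    (h : ∀ d ∈ K, g * d * g⁻¹ ∈ K) : g ∈ normalizer (K : Set G) :=
  mem_normalizer_iff_map_conj_eq.2 (eq_of_le_of_card_ge (by rintro _ ⟨d, hd, rfl⟩; exact h d hd)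
    (card_map_of_injective (MulAut.conj g).injective).ge)

theorem Setup.σ_mem (S : Setup G) [Finite G] : S.σ ∈ normalizer (S.D : Set G) := by
  refine mem_normalizer_of_conj_mem fun d hd => ?_
  rw [S.σinv]
  obtain ⟨a, r, rfl, ha, hr⟩ := S.mem_D.1 hd
  rw [S.σ_mul]
  refine mul_mem ?_ ?_
  · rcases ha with rfl | rfl | rfl
    · rw [map_one, mul_one, S.σ2]; exact one_mem _
    · exact S.σz'.symm ▸ S.c_mem
    · rw [map_mul, S.σ_mul]; exact mul_mem (S.σz'.symm ▸ S.c_mem) (S.σz'.symm ▸ S.c_mem)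
  · rcases hr with rfl | rfl | rfl
    · rw [map_one, mul_one, S.σ2]; exact one_mem _
    · exact S.σc.symm ▸ S.z_mem
    · rw [map_mul, S.σ_mul]; exact mul_mem (S.σc.symm ▸ S.z_mem) (S.σc.symm ▸ S.z_mem)

theorem Setup.good_mem (S : Setup G) [Finite G] {a : Perm (Fin 3)} {q : Perm (Fin 5)}
    (hq : q * cyc * q⁻¹ = cyc ∨ q * cyc * q⁻¹ = cyc * cyc) :
    S.i3 a * S.i5 q ∈ normalizer (S.D : Set G) := by
  refine mem_normalizer_of_conj_mem fun d hd => ?_
  obtain ⟨a', r', rfl, ha', hr'⟩ := S.mem_D.1 hd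
  rw [S.conj_pair]
  refine S.mem_D.2 ⟨_, _, rfl, ?_, ?_⟩
  · rcases ha' with rfl | rfl | rfl
    · exact Or.inl (by group)
    · exact Or.inr (perm3_inv a)
    · rw [show a * (rho * rho) * a⁻¹ = a * rho * a⁻¹ * (a * rho * a⁻¹) by group]
      rcases perm3_inv a with e' | e' <;> rw [e']
      exacts [Or.inr (Or.inr rfl), Or.inr (Or.inl (by decide))]
  · rcases hr' with rfl | rfl | rfl
    · exact Or.inl (by group)
    · exact Or.inr hq
    · rw [show q * (cyc * cyc) * q⁻¹ = q * cyc * q⁻¹ * (q * cyc * q⁻¹) by group]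
      rcases hq with e' | e' <;> rw [e']
      exacts [Or.inr (Or.inr rfl), Or.inr (Or.inl (by decide))]

theorem Setup.e_mem (S : Setup G) [Finite G] : S.e ∈ normalizer (S.D : Set G) := by
  simpa [Setup.e] using S.good_mem (a := tau) (q := 1) (Or.inl (by group))

theorem Setup.s_mem (S : Setup G) [Finite G] : S.s ∈ normalizer (S.D : Set G) := by
  simpa [Setup.s] using S.good_mem (a := 1) (q := t34) (Or.inl (by decide))

theorem Setup.f_mem (S : Setup G) [Finite G] : S.f ∈ normalizer (S.D : Set G) := by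
  have hq : S.b * cyc * S.b⁻¹ = cyc * cyc := by
    rcases S.b_cases with e | e <;> rw [e] <;> decide
  simpa [Setup.f] using S.good_mem (a := 1) (q := S.b) (Or.inr hq)

theorem good_fixes_t34 : ∀ q : Perm (Fin 5),
    (q * cyc * q⁻¹ = cyc ∨ q * cyc * q⁻¹ = cyc * cyc) → q * t34 = t34 * q := by
  decide +kernel

theorem Setup.exists_five (S : Setup G) : ∃ x, Commute x S.z ∧ orderOf x = 5 := by
  refine ⟨S.i5 (finRotate 5), (S.comm rho _).symm, ?_⟩
  have : Fact (Nat.Prime 5) := ⟨by norm_num⟩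
  refine orderOf_eq_prime ?_ (fun h => absurd (S.i5_eq_one h) (by decide))
  rw [← map_pow, show finRotate 5 ^ 5 = 1 by decide, map_one]

/-- The coordinates together with the order of `N(D)` and its action on `D`. -/
structure Data (G : Type*) [Group G] extends Setup G where
  /-- The action of `N(D)`. -/
  φ : ↥(normalizer (toSetup.D : Set G)) →* DihedralGroup 4
  φ_surj : Function.Surjective φ
  φ_ker : ∀ x, φ x = 1 ↔ (x : G) ∈ centralizer (toSetup.D : Set G)
  cardN : Nat.card ↥(normalizer (toSetup.D : Set G)) = 144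

section Local

variable [Finite G] (S : Data G)

/-- The Sylow subgroup. -/
noncomputable def Data.P : Sylow 3 G := S.syl.choose

theorem Data.P_eq : (S.P : Subgroup G) = S.D := S.syl.choose_spec

theorem Data.card_D : Nat.card S.D = 9 := by
  have h : S.D = (((zpowers rho).prod (zpowers cyc)).map
      (S.i3.noncommCoprod S.i5 fun a q => S.comm a q)) := by
    refine le_antisymm (fun d hd => ?_) ?_
    · obtain ⟨a, r, rfl, ha, hr⟩ := S.mem_D.1 hd
      exact ⟨(a, r), ⟨(mem_zpowers_three rho_three).2 ha, (mem_zpowers_three cyc_three).2 hr⟩, rfl⟩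
    · rintro _ ⟨⟨a, r⟩, ⟨ha, hr⟩, rfl⟩
      exact S.mem_D.2 ⟨a, r, rfl, (mem_zpowers_three rho_three).1 ha,
        (mem_zpowers_three cyc_three).1 hr⟩
  have hinj : Function.Injective (S.i3.noncommCoprod S.i5 fun a q => S.comm a q) := fun x y e =>
    Prod.ext ((eq_iff S.comm S.inj).1 e).1 ((eq_iff S.comm S.inj).1 e).2
  have : Fact (Nat.Prime 3) := ⟨Nat.prime_three⟩
  have hr : orderOf rho = 3 := orderOf_eq_prime (by decide) (by decide)
  have hc : orderOf cyc = 3 := orderOf_eq_prime (by decide) (by decide)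
  rw [h, card_map_of_injective hinj, Nat.card_congr ((zpowers rho).prodEquiv (zpowers cyc)).toEquiv,
    Nat.card_prod, Nat.card_zpowers, Nat.card_zpowers, hr, hc]

/-- No element of the class of `z` has its centraliser inside `N(D)`. -/
theorem Data.not_conj (g : G) {d : G}
    (hd : centralizer ({d} : Set G) ≤ normalizer (S.D : Set G)) : g * S.z * g⁻¹ ≠ d := by
  intro h
  obtain ⟨x, hx, hx5⟩ := S.exists_five
  have hm : g * x * g⁻¹ ∈ normalizer (S.D : Set G) := hd (mem_centralizer_singleton_iff.2 (by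
    rw [← h]; exact (hx.map (MulAut.conj g).toMonoidHom).eq))
  have h5 := orderOf_dvd_natCard (⟨_, hm⟩ : ↥(normalizer (S.D : Set G)))
  rw [orderOf_mk, S.cardN, show orderOf (g * x * g⁻¹) = orderOf x from
    (MulAut.conj g).orderOf_eq x, hx5] at h5
  norm_num at h5

/-- The centraliser of a mixed element lies in `N(D)`. -/
theorem Data.cent_mixed {a : Perm (Fin 3)} {r : Perm (Fin 5)} (ha : a = rho ∨ a = rho * rho)
    (hr : r = cyc ∨ r = cyc * cyc) {g : G} (hg : Commute g (S.i3 a * S.i5 r)) :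
    g ∈ normalizer (S.D : Set G) := by
  obtain ⟨a1, ha1⟩ : ∃ a1 : Perm (Fin 3), a1 * rho * a1⁻¹ = a := by
    rcases ha with rfl | rfl
    exacts [⟨1, by group⟩, ⟨tau, by decide⟩]
  obtain ⟨r1, hr1, hr1'⟩ : ∃ r1 : Perm (Fin 5), r1 * cyc * r1⁻¹ = r ∧
      (r1 * cyc * r1⁻¹ = cyc ∨ r1 * cyc * r1⁻¹ = cyc * cyc) := by
    rcases hr with rfl | rfl
    exacts [⟨1, by group, Or.inl (by group)⟩, ⟨t01, by decide, Or.inr (by decide)⟩]
  have hn : S.i3 a1 * S.i5 r1 ∈ normalizer (S.D : Set G) := S.good_mem hr1'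
  set n := S.i3 a1 * S.i5 r1
  have he : n * (S.i3 rho * S.i5 cyc) * n⁻¹ = S.i3 a * S.i5 r := by rw [S.conj_pair, ha1, hr1]
  rw [← he] at hg
  have h : Commute (n⁻¹ * g * n) (S.i3 rho * S.i5 cyc) := by
    have := hg.map (MulAut.conj n⁻¹).toMonoidHom
    simpa [MulAut.conj_apply, mul_assoc] using this
  have := mul_mem (mul_mem hn (S.mixed _ h)) (inv_mem hn)
  rwa [show n * (n⁻¹ * g * n) * n⁻¹ = g by group] at this

theorem Data.conj_z {g : G} (h : g * S.z * g⁻¹ ∈ S.D) :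
    g * S.z * g⁻¹ = S.z ∨ g * S.z * g⁻¹ = S.z * S.z ∨ g * S.z * g⁻¹ = S.c ∨
      g * S.z * g⁻¹ = S.c * S.c := by
  obtain ⟨a, r, e, ha, hr⟩ := S.mem_D.1 h
  rcases ha with rfl | ha
  · rcases hr with rfl | rfl | rfl
    · rw [map_one, map_one, mul_one, conj_eq_one_iff] at e
      exact absurd e S.z_ne
    · rw [e, map_one, one_mul]; exact Or.inr (Or.inr (Or.inl rfl))
    · rw [e, map_one, one_mul, map_mul]; exact Or.inr (Or.inr (Or.inr rfl))
  · rcases hr with rfl | hr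
    · rw [e, map_one, mul_one]
      rcases ha with rfl | rfl
      exacts [Or.inl rfl, Or.inr (Or.inl (map_mul _ _ _))]
    · exact absurd e (S.not_conj g fun u hu =>
        S.cent_mixed ha hr (mem_centralizer_singleton_iff.1 hu))

/-- The shape of the elements of `N(D)`. -/
theorem Data.mem_norm {g : G} (hg : g ∈ normalizer (S.D : Set G)) :
    ∃ a q, (q * cyc * q⁻¹ = cyc ∨ q * cyc * q⁻¹ = cyc * cyc) ∧
      (g = S.i3 a * S.i5 q ∨ g = S.σ * (S.i3 a * S.i5 q)) := by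
  have key : ∀ k ∈ normalizer (S.D : Set G), (k * S.z * k⁻¹ = S.z ∨ k * S.z * k⁻¹ = S.z * S.z) →
      ∃ a q, (q * cyc * q⁻¹ = cyc ∨ q * cyc * q⁻¹ = cyc * cyc) ∧ k = S.i3 a * S.i5 q := by
    intro k hk hkz
    obtain ⟨a, q, rfl⟩ := S.norm k (mem_normalizer_of_conj_mem fun d hd => by
      rcases (mem_zpowers_three S.z3).1 hd with rfl | rfl | rfl
      · simp
      · rcases hkz with e | e <;> refine (mem_zpowers_three S.z3).2 ?_
        exacts [Or.inr (Or.inl e), Or.inr (Or.inr e)]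
      · have e2 : k * (S.z * S.z) * k⁻¹ = k * S.z * k⁻¹ * (k * S.z * k⁻¹) := by group
        refine (mem_zpowers_three S.z3).2 ?_
        show k * (S.z * S.z) * k⁻¹ = 1 ∨ _
        rw [e2]
        rcases hkz with e | e <;> rw [e]
        · exact Or.inr (Or.inr rfl)
        · refine Or.inr (Or.inl ?_)
          show _ = S.z
          rw [show S.z * S.z * (S.z * S.z) = S.z * S.z * S.z * S.z by group, S.z3, one_mul])
    refine ⟨a, q, ?_, rfl⟩
    have hc := (mem_normalizer_iff.1 hk S.c).1 S.c_mem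
    rw [S.c_pair, S.conj_pair] at hc
    obtain ⟨a', r', e, -, hr'⟩ := S.mem_D.1 hc
    obtain ⟨-, e2⟩ := S.pair.1 e
    rw [← e2] at hr'
    exact hr'.resolve_left fun e' => absurd (conj_eq_one_iff.1 e') (by decide)
  rcases S.conj_z ((mem_normalizer_iff.1 hg _).1 S.z_mem) with e | e | e | e
  · obtain ⟨a, q, h1, h2⟩ := key g hg (Or.inl e); exact ⟨a, q, h1, Or.inl h2⟩
  · obtain ⟨a, q, h1, h2⟩ := key g hg (Or.inr e); exact ⟨a, q, h1, Or.inl h2⟩
  all_goals
    obtain ⟨a, q, h1, h2⟩ := key (S.σ * g) (mul_mem S.σ_mem hg) (by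
      rw [show S.σ * g * S.z * (S.σ * g)⁻¹ = S.σ * (g * S.z * g⁻¹) * S.σ⁻¹ by group, e, S.σinv]
      first
        | exact Or.inl S.σc
        | exact Or.inr (by rw [S.σ_mul, S.σc]))
    refine ⟨a, q, h1, Or.inr ?_⟩
    rw [← h2, ← mul_assoc, S.σ2, one_mul]

/-- `s` is central in `N(D)`. -/
theorem Data.s_central {g : G} (hg : g ∈ normalizer (S.D : Set G)) : Commute g S.s := by
  obtain ⟨a, q, hq, h⟩ := S.mem_norm hg
  have h1 : Commute (S.i3 a * S.i5 q) S.s := by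
    refine (S.comm a t34).mul_left ?_
    rw [commute_iff_eq, ← map_mul, ← map_mul, good_fixes_t34 q hq]
  have hσ : Commute S.σ S.s := by
    rw [commute_iff_eq]
    calc S.σ * S.s = S.σ * S.s * (S.σ * S.σ) := by rw [S.σ2, mul_one]
      _ = S.σ * S.s * S.σ * S.σ := by group
      _ = S.s * S.σ := by rw [S.σs']
  rcases h with rfl | rfl
  exacts [h1, hσ.mul_left h1]

theorem Setup.cent_D {g : G} (S : Setup G) (hz : Commute g S.z) (hc : Commute g S.c) :
    ∃ a r, g = S.i3 a * S.i5 r ∧ (a = 1 ∨ a = rho ∨ a = rho * rho) ∧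
      (r = 1 ∨ r = cyc ∨ r = cyc * cyc ∨ r = t34 ∨ r = cyc * t34 ∨ r = cyc * cyc * t34) := by
  obtain ⟨a, q, rfl, ha⟩ := S.cent_z hz
  rw [S.c_pair, commute_iff S.comm S.inj] at hc
  exact ⟨a, q, rfl, ha, cent_cyc q hc.2⟩

/-- `C(D) = D × ⟨s⟩`. -/
theorem Setup.cent_D_mem {g : G} (S : Setup G) (hz : Commute g S.z) (hc : Commute g S.c) :
    g ∈ S.D ∨ g * S.s ∈ S.D := by
  obtain ⟨a, r, rfl, ha, hr⟩ := S.cent_D hz hc
  rcases hr with rfl | rfl | rfl | rfl | rfl | rfl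
  · exact Or.inl (S.mem_D.2 ⟨a, _, rfl, ha, Or.inl rfl⟩)
  · exact Or.inl (S.mem_D.2 ⟨a, _, rfl, ha, Or.inr (Or.inl rfl)⟩)
  · exact Or.inl (S.mem_D.2 ⟨a, _, rfl, ha, Or.inr (Or.inr rfl)⟩)
  all_goals
    refine Or.inr (S.mem_D.2 ⟨a, _, by rw [show S.s = S.i5 t34 from rfl, mul_assoc, ← map_mul], ha, ?_⟩)
    decide

theorem Data.conj_in_norm {d d' g : G} (hd : d ∈ S.D) (hd' : d' ∈ S.D) (h : g * d * g⁻¹ = d') :
    ∃ n ∈ normalizer (S.D : Set G), n * d * n⁻¹ = d' := by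
  have : Fact (Nat.Prime 3) := ⟨Nat.prime_three⟩
  have : IsMulCommutative (S.P : Subgroup G) := by
    rw [S.P_eq]; exact ⟨⟨fun u v => Subtype.ext (S.D_commute u.2 v.2).eq⟩⟩
  obtain ⟨n, hn, e⟩ := S.P.conj_eq_normalizer_conj_of_mem d g⁻¹ (show d ∈ (S.P : Subgroup G) by rw [S.P_eq]; exact hd)
    (show g⁻¹⁻¹ * d * g⁻¹ ∈ (S.P : Subgroup G) by rw [S.P_eq, inv_inv, h]; exact hd')
  refine ⟨n⁻¹, inv_mem ?_, ?_⟩
  · rw [← S.P_eq]; exact hn
  · rw [inv_inv, ← e, inv_inv, h]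

end Local

end CfsgLib.ThreeLocalS8
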