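import Cfsg.Agent.Lib.Recognition.ThreeLocalS8.Commute

/-!
# `C(V) = V × σAσ`, and `C(s) = N(D)` in the case of a double transposition
-/

set_option autoImplicit false
set_option linter.unusedSectionVars false
set_option maxRecDepth 20000

namespace CfsgLib.ThreeLocalS8

open Equiv Subgroup

theorem central_trivial : ∀ b : Perm (Fin 5), b * cyc = cyc * b → b * q1 = q1 * b → b = 1 := by
  decide +kernel

theorem cyc_shift_Four : ∀ j : Fin 3, ∀ t : Bool,
    (∀ v : Perm (Fin 5), (v = 1 ∨ v = q0 ∨ v = q1 ∨ v = q0 * q1) →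
      cyc ^ (j : ℕ) * cond t t34 1 * (r2⁻¹ * v * r2) = r2⁻¹ * v * r2 * (cyc ^ (j : ℕ) * cond t t34 1)) →
    j = 0 ∧ t = false := by
  decide +kernel

theorem three_cent_t34 : ∀ q : Perm (Fin 5), q * t34 = t34 * q → q * q * q = 1 →
    q = 1 ∨ q = cyc ∨ q = cyc * cyc := by
  decide +kernel

variable {G : Type*} [Group G] [Finite G] (S : Data G) (hb : S.b = t01 * t34)

include hb

theorem Data.AA_inj {a b : Perm (Fin 5)} (ha : a ∈ alternatingGroup (Fin 5))
    (hb' : b ∈ alternatingGroup (Fin 5)) (h : S.i5 b * S.j5 a = 1) : a = 1 ∧ b = 1 := by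
  have hb1 : b = 1 := by
    have hc : ∀ q ∈ alternatingGroup (Fin 5), b * q = q * b := fun q hq => S.i5_inj (by
      have e : S.i5 b = (S.j5 a)⁻¹ := eq_inv_of_mul_eq_one_left h
      rw [map_mul, map_mul, e]
      exact ((S.commute_AA hb hq ha).inv_right).symm.eq)
    refine central_trivial b (hc _ ?_) (hc _ ?_) <;> rw [Equiv.Perm.mem_alternatingGroup] <;> decide
  subst hb1
  rw [map_one, one_mul, S.j5_apply] at h
  refine ⟨S.i5_eq_one ?_, rfl⟩
  rw [← S.σσ (S.i5 a), h, mul_one, S.σ2]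

/-- `C(V) = V × σAσ`. -/
theorem Data.cent_V {g : G} (hg : g ∈ centralizer (S.V : Set G)) :
    ∃ v ∈ Four, ∃ q ∈ alternatingGroup (Fin 5), g = S.i5 v * S.j5 q := by
  have hA : ∀ q ∈ alternatingGroup (Fin 5),
      S.j5 q ∈ centralizer (S.V : Set G) ∧ Commute (S.j5 q) S.d := by
    intro q hq
    refine ⟨mem_centralizer_iff.2 fun y hy => ?_, ?_⟩
    · obtain ⟨p, hp, rfl⟩ := S.mem_V.1 hy
      exact (S.commute_AA hb (Four_le hp) hq).eq
    · exact (S.commute_AA hb (by rw [Equiv.Perm.mem_alternatingGroup]; decide) hq).symm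
  obtain ⟨v, hv, hd⟩ := S.centV_fix hb hg (Or.inr hA)
  obtain ⟨qv, hqv, rfl⟩ := S.mem_V.1 hv
  set h := g * S.i5 qv with hh
  have hhV : ∀ w ∈ Four, Commute h (S.i5 w) := fun w hw => by
    refine Commute.mul_left (mem_centralizer_iff.1 hg _ (mem_map_of_mem _ hw)).symm ?_
    rw [commute_iff_eq, ← map_mul, ← map_mul]
    refine congrArg S.i5 ?_
    rcases mem_Four.1 hqv with rfl | rfl | rfl | rfl <;>
      rcases mem_Four.1 hw with rfl | rfl | rfl | rfl <;> decide
  set r := S.i5 r2 with hr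
  set n := r⁻¹ * h * r with hn
  have hnc : Commute n S.c := by
    have e : r⁻¹ * S.d * r = S.c := by
      rw [hr, show S.d = S.i5 c2 from rfl, ← map_inv, ← map_mul, ← map_mul]
      exact congrArg S.i5 (by decide)
    have h2 := hd.map (MulAut.conj r⁻¹).toMonoidHom
    simp only [MulEquiv.coe_toMonoidHom, MulAut.conj_apply, inv_inv] at h2
    rwa [e, ← hn] at h2
  have hnV : ∀ w ∈ Four, Commute n (S.i5 (r2⁻¹ * w * r2)) := fun w hw => by
    have h2 := (hhV w hw).map (MulAut.conj r⁻¹).toMonoidHom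
    simp only [MulEquiv.coe_toMonoidHom, MulAut.conj_apply, inv_inv] at h2
    rwa [← hn, hr, ← map_inv, ← map_mul, ← map_mul] at h2
  obtain ⟨a, q, hq, ha⟩ := S.cent_z (g := S.σ * n * S.σ) (S.σc ▸ S.σ_commute hnc)
  obtain ⟨j, hj⟩ : ∃ j : Fin 3, S.σ * S.i3 a * S.σ = S.i5 (cyc ^ (j : ℕ)) := by
    rcases ha with rfl | rfl | rfl
    · exact ⟨0, by simp [S.σ2]⟩
    · exact ⟨1, by rw [Fin.val_one, pow_one]; exact S.σz'⟩
    · refine ⟨2, ?_⟩
      rw [map_mul, S.σ_mul, show S.σ * S.i3 rho * S.σ = S.i5 cyc from S.σz', ← map_mul]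
      exact congrArg S.i5 (by decide)
  have hneq : n = S.i5 (cyc ^ (j : ℕ)) * S.j5 q := by
    rw [← S.σσ n, hq, S.σ_mul, hj, S.j5_apply]
  obtain ⟨t, q', hq', rfl⟩ : ∃ (t : Bool) (q' : Perm (Fin 5)), q' ∈ alternatingGroup (Fin 5) ∧
      q = cond t t34 1 * q' := by
    rcases Int.units_eq_one_or (Equiv.Perm.sign q) with e | e
    · exact ⟨false, q, Equiv.Perm.mem_alternatingGroup.2 e, by simp⟩
    · refine ⟨true, t34 * q, ?_, by rw [cond_true, ← mul_assoc, show t34 * t34 = 1 by decide, one_mul]⟩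
      rw [Equiv.Perm.mem_alternatingGroup, map_mul, e]; decide
  have hjt : S.j5 (cond t t34 1) = S.i5 (cond t t34 1) := by
    cases t
    · simp
    · exact S.j5_t34
  rw [map_mul, hjt, ← mul_assoc, ← map_mul] at hneq
  have h0 : j = 0 ∧ t = false := by
    refine cyc_shift_Four j t fun w hw => S.i5_inj ?_
    have hev : r2⁻¹ * w * r2 ∈ alternatingGroup (Fin 5) :=
      mul_mem (mul_mem (inv_mem (by rw [Equiv.Perm.mem_alternatingGroup]; decide))
        (Four_le (mem_Four.2 hw))) (by rw [Equiv.Perm.mem_alternatingGroup]; decide)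
    have h1 := hnV w (mem_Four.2 hw)
    have h2 : Commute (S.j5 q') (S.i5 (r2⁻¹ * w * r2)) := (S.commute_AA hb hev hq').symm
    have h3 := h1.mul_left h2.inv_left
    rw [hneq, mul_inv_cancel_right, commute_iff_eq, ← map_mul, ← map_mul] at h3
    exact h3
  obtain ⟨rfl, rfl⟩ := h0
  simp only [Fin.val_zero, pow_zero, cond_false, mul_one, map_one, one_mul] at hneq
  refine ⟨qv, hqv, q', hq', ?_⟩
  have hrq : Commute r (S.j5 q') := S.commute_AA hb (by rw [Equiv.Perm.mem_alternatingGroup]; decide) hq'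
  have hhq : h = S.j5 q' := by
    calc h = r * n * r⁻¹ := by rw [hn]; group
      _ = _ := by rw [hneq, hrq.eq, mul_inv_cancel_right]
  have hinv : (S.i5 qv)⁻¹ = S.i5 qv := by
    rw [← map_inv]
    exact congrArg S.i5 (by rcases mem_Four.1 hqv with rfl | rfl | rfl | rfl <;> decide)
  calc g = h * (S.i5 qv)⁻¹ := by rw [hh, mul_inv_cancel_right]
    _ = _ := by rw [hhq, hinv, (S.commute_AA hb (Four_le hqv) hq').eq]

/-- `C(⟨e, u⟩) = σVσ × A`. -/
theorem Data.cent_V' {g : G} (he : Commute g S.e) (hu : Commute g S.u) :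
    ∃ v ∈ Four, ∃ q ∈ alternatingGroup (Fin 5), g = S.i5 q * S.j5 v := by
  obtain ⟨v, hv, q, hq, h⟩ := S.cent_V hb (g := S.σ * g * S.σ) (mem_centralizer_iff.2 fun y hy =>
    (S.commute_V hb (S.σe' ▸ S.σ_commute he) (S.σu ▸ S.σ_commute hu) hy).symm.eq)
  refine ⟨v, hv, q, hq, ?_⟩
  have e : S.σ * S.j5 q * S.σ = S.i5 q := by rw [S.j5_apply, S.σσ]
  rw [← S.σσ g, h, S.σ_mul, ← S.j5_apply, e, (S.commute_AA hb hq (Four_le hv)).eq]

/-- The centraliser of `s` is `N(D)`. -/
theorem Data.cent_s_eq : centralizer ({S.s} : Set G) = normalizer (S.D : Set G) := by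
  by_contra hne
  obtain ⟨P6⟩ := S.exists_proj hne
  obtain ⟨rb, rb3, rbe, rbc, rball⟩ := P6.marked.three
  obtain ⟨r0, rfl⟩ := P6.surj rb
  set r : ↥(centralizer ({S.s} : Set G)) := r0 ^ 4 with hr
  have hπr : P6.π r = P6.π r0 := by
    rw [hr, map_pow, show (4 : ℕ) = 3 + 1 from rfl, pow_succ, pow_three', rb3, one_mul]
  have hr3 : (r : G) * r * r = 1 := by
    have h1 : P6.π (r0 ^ 3) = 1 := by rw [map_pow, pow_three', rb3]
    have h6 : (r0 : G) ^ 6 = 1 := by
      rcases S.mem_zpowers_s.1 ((P6.ker _).1 h1) with e | e <;> push_cast at e <;>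
        rw [show 6 = 3 * 2 from rfl, pow_mul, e, pow_two]
      exacts [one_mul 1, S.s2]
    rw [hr]; push_cast
    rw [← pow_add, ← pow_add, show 4 + 4 + 4 = 6 * 2 from rfl, pow_mul, h6, one_pow]
  have hcs : Commute (r : G) S.s := mem_centralizer_singleton_iff.1 r.2
  have hre : Commute (r : G) S.e := by
    let w : ↥(centralizer ({S.s} : Set G)) := ⟨S.e, Proj.mem_e⟩ * r * ⟨S.e, Proj.mem_e⟩
    have h : (w : G) = r := P6.eq_three w r (by
      show S.e * (r : G) * S.e * (S.e * r * S.e) * (S.e * r * S.e) = 1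
      calc _ = S.e * (r : G) * (S.e * S.e) * r * (S.e * S.e) * r * S.e := by group
        _ = S.e * ((r : G) * r * r) * S.e := by rw [S.e2]; group
        _ = 1 := by rw [hr3, mul_one, S.e2]) hr3 (by
      rw [map_mul, map_mul, hπr, show P6.π ⟨S.e, Proj.mem_e⟩ = P6.pe from rfl, mul_assoc, rbe,
        ← mul_assoc, P6.marked.x2, one_mul])
    change S.e * (r : G) * S.e = r at h
    rw [commute_iff_eq]
    calc (r : G) * S.e = S.e * r * (S.e * S.e) := by rw [← mul_assoc, h]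
      _ = S.e * r := by rw [S.e2, mul_one]
  have hcu : Commute S.u S.c := by
    rw [← S.σf1, ← S.σz']; exact S.σ_commute (S.comm rho q1).symm
  have hu2 : S.u * S.u = 1 := by rw [Setup.u, ← map_mul, show q1 * q1 = 1 by decide, map_one]
  have hus : S.u * S.s * S.u = S.s * S.e := by
    have h := S.s_u hb
    calc S.u * S.s * S.u = S.s * (S.s * S.u * S.s) * S.u := by
          rw [← mul_assoc, ← mul_assoc, S.s2, one_mul]
      _ = S.s * (S.u * S.e * S.u) := by rw [h]; group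
      _ = S.s * S.e := by rw [mul_assoc S.u, (S.e_u hb).eq, ← mul_assoc S.u, hu2, one_mul]
  have hconj : ∀ {p t : G}, Commute p t → Commute (S.u * p * S.u) (S.u * t * S.u) := fun {p t} h => by
    rw [commute_iff_eq]
    calc S.u * p * S.u * (S.u * t * S.u) = S.u * (p * (S.u * S.u) * t) * S.u := by group
      _ = S.u * (t * (S.u * S.u) * p) * S.u := by rw [hu2, mul_one, mul_one, h.eq]
      _ = _ := by group
  set v := S.u * (r : G) * S.u with hv
  have hve : Commute v S.e := by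
    have := hconj hre
    rwa [show S.u * S.e * S.u = S.e by rw [← (S.e_u hb).eq, mul_assoc, hu2, mul_one]] at this
  have hvs : Commute v S.s := by
    have := (hconj hcs)
    rw [hus] at this
    have h2 := this.mul_right hve
    rwa [mul_assoc S.s S.e S.e, S.e2, mul_one] at h2
  let v' : ↥(centralizer ({S.s} : Set G)) := ⟨v, mem_centralizer_singleton_iff.2 hvs⟩
  have huu : ∀ p : G, S.u * (S.u * p * S.u) * S.u = p := fun p => by
    rw [show S.u * (S.u * p * S.u) * S.u = S.u * S.u * p * (S.u * S.u) by group, hu2, one_mul, mul_one]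
  have hv3 : v * v * v = 1 := by
    calc v * v * v = S.u * (r : G) * (S.u * S.u) * r * (S.u * S.u) * r * S.u := by rw [hv]; group
      _ = S.u * ((r : G) * r * r) * S.u := by rw [hu2]; group
      _ = 1 := by rw [hr3, mul_one, hu2]
  have hrc : ¬ Commute (r : G) S.c := fun h => rbc (by
    rw [← hπr, show P6.pc = P6.π ⟨S.c, Proj.mem_c⟩ from rfl, ← map_mul, ← map_mul]
    exact congrArg P6.π (Subtype.ext h.eq))
  have hvc : ¬ Commute v S.c := fun h => hrc (by
    have := hconj h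
    rwa [huu, show S.u * S.c * S.u = S.c by rw [hcu.eq, mul_assoc, hu2, mul_one]] at this)
  let c' : ↥(centralizer ({S.s} : Set G)) := ⟨S.c, Proj.mem_c⟩
  have hπe : ∀ {p : ↥(centralizer ({S.s} : Set G))}, Commute (p : G) S.e → P6.π p * P6.pe = P6.pe * P6.π p := fun {p} h => by
    rw [show P6.pe = P6.π ⟨S.e, Proj.mem_e⟩ from rfl, ← map_mul, ← map_mul]
    exact congrArg P6.π (Subtype.ext h.eq)
  have hπ3 : ∀ {p : ↥(centralizer ({S.s} : Set G))}, (p : G) * p * p = 1 → P6.π p * P6.π p * P6.π p = 1 := fun {p} h => by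
    rw [← map_mul, ← map_mul, ← map_one P6.π]; exact congrArg P6.π (Subtype.ext h)
  have hnc : ∀ {p : ↥(centralizer ({S.s} : Set G))}, (p : G) * p * p = 1 → ¬ Commute (p : G) S.c →
      P6.π p * P6.pc ≠ P6.pc * P6.π p := fun {p} hp h e => by
    refine h (mul_inv_eq_iff_eq_mul.1 ?_).symm
    refine P6.eq_three (c' * p * c'⁻¹) p ?_ hp ?_
    · push_cast
      calc _ = S.c * ((p : G) * p * p) * S.c⁻¹ := by simp only [c']; group
        _ = 1 := by rw [hp]; group
    · rw [map_mul, map_mul, map_inv, show P6.π c' = P6.pc from rfl, ← e, mul_inv_cancel_right]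
  obtain ⟨hv1, hv2⟩ := rball (P6.π v') (hπ3 hv3) (hπe hve) (hnc hv3 hvc)
  obtain ⟨hr1, -⟩ := rball (P6.π r0) rb3 rbe rbc
  have hpow : (v * S.c) ^ 3 = S.u * ((r : G) * S.c) ^ 3 * S.u := by
    have hui : S.u⁻¹ = S.u := inv_eq_of_mul_eq_one_right hu2
    have e : v * S.c = S.u * ((r : G) * S.c) * S.u⁻¹ := by
      rw [hui, hv, mul_assoc _ S.u S.c, hcu.eq]; group
    rw [e, conj_pow, hui]
  have hiff : ∀ {p : ↥(centralizer ({S.s} : Set G))}, (P6.π p * P6.pc) ^ 3 = 1 ↔ ((p : G) * S.c) ^ 3 ∈ zpowers S.s := fun {p} => by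
    rw [show P6.pc = P6.π c' from rfl, ← map_mul, ← map_pow, P6.ker]; push_cast; rfl
  have hnot : ∀ {p : ↥(centralizer ({S.s} : Set G))}, (P6.π p * P6.pc) ^ 3 ≠ P6.pe → ((p : G) * S.c) ^ 3 ≠ S.s * S.e := by
    intro p h e
    apply h
    rw [show P6.pc = P6.π c' from rfl, ← map_mul, ← map_pow]
    have hs1 : P6.π ⟨S.s, mem_centralizer_singleton_iff.2 rfl⟩ = 1 := (P6.ker _).2 (mem_zpowers _)
    rw [show (p * c') ^ 3 = ⟨S.s, mem_centralizer_singleton_iff.2 rfl⟩ * ⟨S.e, Proj.mem_e⟩ from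
      Subtype.ext (by push_cast; exact e), map_mul, hs1, one_mul]
    rfl
  obtain ⟨k, hk⟩ := hv2 (by
    rw [hiff, ← hπr, hiff]
    show (v * S.c) ^ 3 ∈ zpowers S.s ↔ _
    rw [hpow, S.mem_zpowers_s, S.mem_zpowers_s]
    constructor
    · rintro (e | e)
      · left; rw [← huu (((r : G) * S.c) ^ 3), e, mul_one, hu2]
      · exfalso
        refine hnot (p := r) (hπr ▸ hr1) ?_
        rw [← huu (((r : G) * S.c) ^ 3), e, hus]
    · rintro (e | e)
      · left; rw [e, mul_one, hu2]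
      · exfalso
        exact hnot (p := v') hv1 (by rw [show ((v' : ↥(centralizer ({S.s} : Set G))) : G) = v from rfl, hpow, e, hus]))
  have hvk : v = S.c ^ (k : ℕ) * r * (S.c ^ (k : ℕ))⁻¹ := by
    have := P6.eq_three v' (c' ^ (k : ℕ) * r * (c' ^ (k : ℕ))⁻¹) hv3 (by
      push_cast
      calc _ = S.c ^ (k : ℕ) * ((r : G) * r * r) * (S.c ^ (k : ℕ))⁻¹ := by simp only [c']; group
        _ = 1 := by rw [hr3]; group) (by
      rw [map_mul, map_mul, map_inv, map_pow, hπr]; exact hk)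
    simpa [c', v'] using this
  have hk0 : k = 0 := by
    by_contra hk0
    apply hrc
    have h2 : Commute (r : G) (S.c ^ (k : ℕ) * S.c ^ (k : ℕ)) := by
      have e : (r : G) = S.c ^ (k : ℕ) * (S.c ^ (k : ℕ) * r * (S.c ^ (k : ℕ))⁻¹) * (S.c ^ (k : ℕ))⁻¹ := by
        conv_lhs => rw [← huu (r : G), ← hv, hvk]
        have hck : Commute S.u (S.c ^ (k : ℕ)) := hcu.pow_right _
        calc S.u * (S.c ^ (k : ℕ) * r * (S.c ^ (k : ℕ))⁻¹) * S.u
            = S.u * S.c ^ (k : ℕ) * r * ((S.c ^ (k : ℕ))⁻¹ * S.u) := by group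
          _ = S.c ^ (k : ℕ) * (S.u * r * S.u) * (S.c ^ (k : ℕ))⁻¹ := by
            rw [hck.eq, ← (hck.inv_right).eq]; group
          _ = _ := by rw [← hv, hvk]
      refine (mul_inv_eq_iff_eq_mul.1 ?_).symm
      conv_rhs => rw [e]
      group
    have hc3 : S.c ^ 3 = 1 := by rw [pow_three']; exact S.c3
    have e2 : ∃ m : ℕ, (S.c ^ (k : ℕ) * S.c ^ (k : ℕ)) ^ m = S.c := by
      rcases (by decide : ∀ k : Fin 3, k = 0 ∨ k = 1 ∨ k = 2) k with rfl | rfl | rfl
      · exact absurd rfl hk0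
      · exact ⟨2, by rw [Fin.val_one, pow_one, pow_two, ← mul_assoc, S.c3, one_mul]⟩
      · refine ⟨1, ?_⟩
        rw [pow_one, show ((2 : Fin 3) : ℕ) = 2 from rfl, pow_two,
          show S.c * S.c * (S.c * S.c) = S.c * S.c * S.c * S.c by group, S.c3, one_mul]
    obtain ⟨m, hm⟩ := e2
    exact hm ▸ h2.pow_right m
  have hru : Commute (r : G) S.u := by
    rw [hk0, Fin.val_zero, pow_zero, one_mul, inv_one, mul_one] at hvk
    rw [commute_iff_eq]
    calc (r : G) * S.u = v * S.u := by rw [hvk]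
      _ = S.u * r := by rw [hv, mul_assoc, hu2, mul_one]
  obtain ⟨w, hw, q, hq, hrq⟩ := S.cent_V' hb hre hru
  have hw2 : w * w = 1 := by rcases mem_Four.1 hw with rfl | rfl | rfl | rfl <;> decide
  have hcm : Commute (S.i5 q) (S.j5 w) := S.commute_AA hb hq (Four_le hw)
  have h3 : S.i5 (q * q * q) * S.j5 w = 1 := by
    rw [hrq, hcm.symm.mul_mul_mul_comm, ← map_mul, ← map_mul, hw2, map_one, mul_one, ← mul_assoc,
      ← map_mul] at hr3
    exact hr3
  obtain ⟨rfl, hq3⟩ := S.AA_inj hb (Four_le hw) (mul_mem (mul_mem hq hq) hq) h3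
  rw [map_one, mul_one] at hrq
  have hqs : q * t34 = t34 * q := S.i5_inj (by rw [map_mul, map_mul]; rw [hrq] at hcs; exact hcs.eq)
  apply hrc
  rw [hrq, show S.c = S.i5 cyc from rfl, commute_iff_eq, ← map_mul, ← map_mul]
  refine congrArg S.i5 ?_
  rcases three_cent_t34 q hqs hq3 with rfl | rfl | rfl <;> decide

end CfsgLib.ThreeLocalS8
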