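import Cfsg.Agent.Lib.Recognition.ThreeLocalS8.NoSix

/-!
# The subgroup `X = (A × σAσ)⟨s, σ⟩`: it fixes one coset, and has odd index
-/

set_option autoImplicit false
set_option linter.unusedSectionVars false
set_option maxRecDepth 20000

namespace CfsgLib.ThreeLocalS8

open Equiv Subgroup

theorem perm3_list : ∀ a : Perm (Fin 3),
    a = 1 ∨ a = rho ∨ a = rho * rho ∨ a = tau ∨ a = tau * rho ∨ a = tau * (rho * rho) := by decide

theorem odd_involution : ∀ a : Perm (Fin 5), Equiv.Perm.sign a = 1 → a * t34 * (a * t34) = 1 →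
    ∃ γ : Perm (Fin 5), Equiv.Perm.sign γ = 1 ∧ γ * γ * γ = 1 ∧ γ ≠ 1 ∧
      γ * (a * t34) = a * t34 * γ := by
  decide +kernel

theorem double_conj : ∀ a : Perm (Fin 5), Equiv.Perm.sign a = 1 → a * a = 1 → a ≠ 1 →
    ∃ p : Perm (Fin 5), Equiv.Perm.sign p = 1 ∧ p * a * p⁻¹ = q0 := by
  decide +kernel

theorem even_cent_cyc : ∀ a : Perm (Fin 5), Equiv.Perm.sign a = 1 → a * cyc = cyc * a →
    a = 1 ∨ a = cyc ∨ a = cyc * cyc := by
  decide +kernel

theorem four_t34 : ∀ v : Perm (Fin 5), (v = 1 ∨ v = q0 ∨ v = q1 ∨ v = q0 * q1) →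
    (t34 * v * t34 = 1 ∨ t34 * v * t34 = q0 ∨ t34 * v * t34 = q1 ∨ t34 * v * t34 = q0 * q1) := by
  decide +kernel

/-- The order of a product of a normalised subgroup with a disjoint subgroup. -/
theorem card_sup_disjoint {G : Type*} [Group G] (K T : Subgroup G) (hn : T ≤ normalizer (K : Set G))
    (hd : ∀ t ∈ T, t ∈ K → t = 1) : Nat.card ↥(K ⊔ T) = Nat.card K * Nat.card T := by
  rw [← Nat.card_prod]
  refine (Nat.card_congr (Equiv.ofBijective
    (fun x : K × T => (⟨(x.1 : G) * x.2, mul_mem_sup x.1.2 x.2.2⟩ : ↥(K ⊔ T))) ⟨?_, ?_⟩)).symm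
  · rintro ⟨k, t⟩ ⟨k', t'⟩ e
    have e' : (k : G) * t = k' * t' := congrArg Subtype.val e
    have h2 : (t' : G) * (t : G)⁻¹ = (k' : G)⁻¹ * k := by
      rw [mul_inv_eq_iff_eq_mul, mul_assoc, e', inv_mul_cancel_left]
    have h := hd _ (mul_mem t'.2 (inv_mem t.2)) (h2 ▸ mul_mem (inv_mem k'.2) k.2)
    have ht : (t' : G) = t := mul_inv_eq_one.1 h
    rw [ht] at e'
    exact Prod.ext (Subtype.ext (mul_right_cancel e')) (Subtype.ext ht.symm)
  · rintro ⟨x, hx⟩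
    have hx' : x ∈ (↑(K ⊔ T) : Set G) := hx
    rw [coe_mul_of_right_le_normalizer_left _ _ hn] at hx'
    obtain ⟨k, hk, t, ht, e⟩ := hx'
    exact ⟨(⟨k, hk⟩, ⟨t, ht⟩), Subtype.ext e⟩

variable {G : Type*} [Group G] [Finite G] (S : Data G) (hb : S.b = t01 * t34)

/-- The four-group `⟨s, σ⟩`. -/
def Setup.T4 (S : Setup G) : Subgroup G where
  carrier := {t | ∃ a b : Bool, t = cond a S.σ 1 * cond b S.s 1}
  one_mem' := ⟨false, false, (one_mul 1).symm⟩
  mul_mem' := by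
    rintro x y ⟨a, b, rfl⟩ ⟨a', b', rfl⟩
    have hc : S.s * S.σ = S.σ * S.s := by
      calc S.s * S.σ = S.σ * S.s * S.σ * S.σ := by rw [S.σs']
        _ = S.σ * S.s := by rw [mul_assoc (S.σ * S.s), S.σ2, mul_one]
    refine ⟨xor a a', xor b b', ?_⟩
    cases a <;> cases a' <;> cases b <;> cases b' <;>
      simp [← mul_assoc, hc, S.σ2, S.s2, mul_assoc S.σ]
  inv_mem' := by
    rintro x ⟨a, b, rfl⟩
    refine ⟨a, b, inv_eq_of_mul_eq_one_right ?_⟩
    have hc : S.s * S.σ = S.σ * S.s := by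
      calc S.s * S.σ = S.σ * S.s * S.σ * S.σ := by rw [S.σs']
        _ = S.σ * S.s := by rw [mul_assoc (S.σ * S.s), S.σ2, mul_one]
    cases a <;> cases b <;> simp [← mul_assoc, hc, S.σ2, S.s2, mul_assoc S.σ]

theorem Setup.mem_T4 (S : Setup G) {t : G} :
    t ∈ S.T4 ↔ t = 1 ∨ t = S.s ∨ t = S.σ ∨ t = S.σ * S.s := by
  constructor
  · rintro ⟨a, b, rfl⟩
    cases a <;> cases b <;> simp
  · rintro (rfl | rfl | rfl | rfl)
    exacts [⟨false, false, (one_mul 1).symm⟩, ⟨false, true, (one_mul _).symm⟩,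
      ⟨true, false, (mul_one _).symm⟩, ⟨true, true, rfl⟩]

include hb

/-- The map `(a, b) ↦ i₅ a · σ i₅ b σ` on `A₅ × A₅`. -/
def Data.AA : alternatingGroup (Fin 5) × alternatingGroup (Fin 5) →* G :=
  (S.i5.comp (alternatingGroup (Fin 5)).subtype).noncommCoprod
    (S.j5.comp (alternatingGroup (Fin 5)).subtype) fun a b => S.commute_AA hb a.2 b.2

/-- The normal subgroup. -/
def Data.core : Subgroup G := (S.AA hb).range

theorem Data.mem_core {x : G} : x ∈ S.core hb ↔ ∃ a ∈ alternatingGroup (Fin 5),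
    ∃ b ∈ alternatingGroup (Fin 5), x = S.i5 a * S.j5 b :=
  ⟨fun ⟨⟨a, b⟩, h⟩ => ⟨a, a.2, b, b.2, h.symm⟩, fun ⟨a, ha, b, hb', h⟩ => ⟨(⟨a, ha⟩, ⟨b, hb'⟩), h.symm⟩⟩

theorem Data.core_pair {a a' b b' : Perm (Fin 5)} (ha : a ∈ alternatingGroup (Fin 5))
    (ha' : a' ∈ alternatingGroup (Fin 5)) (hb1 : b ∈ alternatingGroup (Fin 5))
    (hb2 : b' ∈ alternatingGroup (Fin 5)) :
    S.i5 a * S.j5 b = S.i5 a' * S.j5 b' ↔ a = a' ∧ b = b' := by
  refine ⟨fun h => ?_, by rintro ⟨rfl, rfl⟩; rfl⟩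
  have h1 : S.i5 (a'⁻¹ * a) * S.j5 (b * b'⁻¹) = 1 := by
    rw [map_mul, map_mul, map_inv, map_inv]
    calc (S.i5 a')⁻¹ * S.i5 a * (S.j5 b * (S.j5 b')⁻¹) = (S.i5 a')⁻¹ * (S.i5 a * S.j5 b) * (S.j5 b')⁻¹ := by
          group
      _ = 1 := by rw [h]; group
  obtain ⟨e1, e2⟩ := S.AA_inj hb (mul_mem hb1 (inv_mem hb2)) (mul_mem (inv_mem ha') ha) h1
  exact ⟨(inv_mul_eq_one.1 e2).symm, mul_inv_eq_one.1 e1⟩

theorem Data.AA_injective : Function.Injective (S.AA hb) := fun x y e => by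
  obtain ⟨h1, h2⟩ := (S.core_pair hb x.1.2 y.1.2 x.2.2 y.2.2).1 e
  exact Prod.ext (Subtype.ext h1) (Subtype.ext h2)

theorem Data.card_core : Nat.card (S.core hb) = 3600 := by
  rw [Data.core, ← Nat.card_congr (MonoidHom.ofInjective (S.AA_injective hb)).toEquiv, Nat.card_prod,
    Nat.card_eq_fintype_card, card_alternatingGroup, Fintype.card_fin]
  rfl

theorem Data.i5_mem_core {a : Perm (Fin 5)} (ha : a ∈ alternatingGroup (Fin 5)) : S.i5 a ∈ S.core hb :=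
  (S.mem_core hb).2 ⟨a, ha, 1, one_mem _, by rw [map_one, mul_one]⟩

theorem Data.j5_mem_core {a : Perm (Fin 5)} (ha : a ∈ alternatingGroup (Fin 5)) : S.j5 a ∈ S.core hb :=
  (S.mem_core hb).2 ⟨1, one_mem _, a, ha, by rw [map_one, one_mul]⟩

theorem Data.D_le_core : S.D ≤ S.core hb := by
  have hcy : cyc ∈ alternatingGroup (Fin 5) := by rw [Equiv.Perm.mem_alternatingGroup]; decide
  intro d hd
  obtain ⟨a, r, rfl, ha, hr⟩ := S.mem_D.1 hd
  refine mul_mem ?_ ?_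
  · rcases ha with rfl | rfl | rfl
    · rw [map_one]; exact one_mem _
    · rw [show S.i3 rho = S.j5 cyc from S.j5_cyc.symm]; exact S.j5_mem_core hb hcy
    · rw [map_mul, show S.i3 rho = S.j5 cyc from S.j5_cyc.symm]
      exact mul_mem (S.j5_mem_core hb hcy) (S.j5_mem_core hb hcy)
  · rcases hr with rfl | rfl | rfl
    exacts [by rw [map_one]; exact one_mem _, S.i5_mem_core hb hcy,
      by rw [map_mul]; exact mul_mem (S.i5_mem_core hb hcy) (S.i5_mem_core hb hcy)]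

theorem Data.T4_conj {t : G} (ht : t ∈ S.T4) {a b : Perm (Fin 5)}
    (ha : a ∈ alternatingGroup (Fin 5)) (hb' : b ∈ alternatingGroup (Fin 5)) :
    t * (S.i5 a * S.j5 b) * t⁻¹ ∈ S.core hb := by
  have heven : ∀ {p}, p ∈ alternatingGroup (Fin 5) → t34 * p * t34 ∈ alternatingGroup (Fin 5) :=
    fun {p} hp => by
      rw [Equiv.Perm.mem_alternatingGroup, map_mul, map_mul, Equiv.Perm.mem_alternatingGroup.1 hp,
        mul_one, ← map_mul]
      decide
  have hs : ∀ x : G, S.s * x * S.s⁻¹ = S.s * x * S.s := fun x => by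
    rw [inv_eq_of_mul_eq_one_right S.s2]
  have hsab : ∀ {p q}, p ∈ alternatingGroup (Fin 5) → q ∈ alternatingGroup (Fin 5) →
      S.s * (S.i5 p * S.j5 q) * S.s⁻¹ ∈ S.core hb := by
    intro p q hp hq
    refine (S.mem_core hb).2 ⟨_, heven hp, _, heven hq, ?_⟩
    rw [hs, map_mul, map_mul, map_mul, map_mul, S.j5_t34, show S.i5 t34 = S.s from rfl]
    calc S.s * (S.i5 p * S.j5 q) * S.s = S.s * S.i5 p * (S.s * S.s) * S.j5 q * S.s := by
          rw [S.s2]; group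
      _ = _ := by group
  have hσab : ∀ {p q}, p ∈ alternatingGroup (Fin 5) → q ∈ alternatingGroup (Fin 5) →
      S.σ * (S.i5 p * S.j5 q) * S.σ⁻¹ = S.i5 q * S.j5 p := fun {p q} hp hq => by
    rw [S.σinv, S.σ_mul, ← S.j5_apply, S.j5_apply q, S.σσ, ← S.commute_AA hb hq hp |>.eq]
  rcases S.mem_T4.1 ht with rfl | rfl | rfl | rfl
  · rw [one_mul, inv_one, mul_one]; exact (S.mem_core hb).2 ⟨a, ha, b, hb', rfl⟩
  · exact hsab ha hb'
  · rw [hσab ha hb']; exact (S.mem_core hb).2 ⟨b, hb', a, ha, rfl⟩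
  · rw [show S.σ * S.s * (S.i5 a * S.j5 b) * (S.σ * S.s)⁻¹ =
      S.σ * (S.s * (S.i5 a * S.j5 b) * S.s⁻¹) * S.σ⁻¹ by group]
    obtain ⟨p, hp, q, hq, e⟩ := (S.mem_core hb).1 (hsab ha hb')
    rw [e, hσab hp hq]; exact (S.mem_core hb).2 ⟨q, hq, p, hp, rfl⟩

theorem Data.T4_le : S.T4 ≤ normalizer (S.core hb : Set G) := fun t ht =>
  mem_normalizer_of_conj_mem fun x hx => by
    obtain ⟨a, ha, b, hb', rfl⟩ := (S.mem_core hb).1 hx
    exact S.T4_conj hb ht ha hb'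

theorem Data.T4_disjoint {t : G} (ht : t ∈ S.T4) (hm : t ∈ S.core hb) : t = 1 := by
  obtain ⟨a, ha, b, hb', h⟩ := (S.mem_core hb).1 hm
  have hcy : cyc ∈ alternatingGroup (Fin 5) := by rw [Equiv.Perm.mem_alternatingGroup]; decide
  have hac : t * S.c * t⁻¹ = S.i5 (a * cyc * a⁻¹) := by
    rw [h, show S.c = S.i5 cyc from rfl, map_mul, map_mul, map_inv]
    calc S.i5 a * S.j5 b * S.i5 cyc * (S.i5 a * S.j5 b)⁻¹
        = S.i5 a * (S.j5 b * S.i5 cyc) * (S.j5 b)⁻¹ * (S.i5 a)⁻¹ := by group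
      _ = _ := by rw [← (S.commute_AA hb hcy hb').eq]; group
  have hσ : ∀ y, y * S.c * y⁻¹ = S.z → y ≠ t := by
    intro y hy e
    rw [e, hac, ← S.j5_cyc] at hy
    have h1 := (S.core_pair hb (mul_mem (mul_mem ha hcy) (inv_mem ha)) (one_mem _) (one_mem _) hcy).1
      (by rw [map_one, map_one, mul_one, one_mul, hy])
    exact absurd h1.2.symm (by decide)
  have hsc : Commute S.s S.c := (S.s_central (le_normalizer S.c_mem)).symm
  rcases S.mem_T4.1 ht with rfl | rfl | rfl | rfl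
  · rfl
  · exfalso
    -- a commuting element of the core lies in `D`
    have hsz : Commute S.s S.z := (S.s_central (le_normalizer S.z_mem)).symm
    have h1 : a * cyc = cyc * a := by
      have := hac; rw [hsc.eq, mul_inv_cancel_right] at this
      exact (mul_inv_eq_iff_eq_mul.1 (S.i5_inj this).symm)
    have hz' : S.s * S.z * S.s⁻¹ = S.j5 (b * cyc * b⁻¹) := by
      rw [h, ← S.j5_cyc, map_mul, map_mul, map_inv]
      calc S.i5 a * S.j5 b * S.j5 cyc * (S.i5 a * S.j5 b)⁻¹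
          = S.i5 a * (S.j5 b * S.j5 cyc * (S.j5 b)⁻¹) * (S.i5 a)⁻¹ := by group
        _ = _ := by
          rw [← map_inv, ← map_mul, ← map_mul,
            (S.commute_AA hb ha (mul_mem (mul_mem hb' hcy) (inv_mem hb'))).eq, mul_inv_cancel_right]
    have h2 : b * cyc = cyc * b := by
      rw [hsz.eq, mul_inv_cancel_right, ← S.j5_cyc] at hz'
      have h3 := (S.core_pair hb (one_mem _) (one_mem _) hcy (mul_mem (mul_mem hb' hcy) (inv_mem hb'))).1
        (by rw [hz'])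
      exact (mul_inv_eq_iff_eq_mul.1 h3.2.symm)
    apply S.s_not_mem
    rw [h]
    refine mul_mem ?_ ?_
    · rcases even_cent_cyc a (Equiv.Perm.mem_alternatingGroup.1 ha) h1 with rfl | rfl | rfl
      exacts [by rw [map_one]; exact one_mem _, S.c_mem, by rw [map_mul]; exact mul_mem S.c_mem S.c_mem]
    · rcases even_cent_cyc b (Equiv.Perm.mem_alternatingGroup.1 hb') h2 with rfl | rfl | rfl
      exacts [by rw [map_one]; exact one_mem _, S.j5_cyc.symm ▸ S.z_mem,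
        by rw [map_mul, S.j5_cyc]; exact mul_mem S.z_mem S.z_mem]
  · exact absurd rfl (hσ S.σ (by rw [S.σinv, S.σc]))
  · refine absurd rfl (hσ (S.σ * S.s) ?_)
    rw [show S.σ * S.s * S.c * (S.σ * S.s)⁻¹ = S.σ * (S.s * S.c * S.s⁻¹) * S.σ⁻¹ by group, hsc.eq,
      mul_inv_cancel_right, S.σinv, S.σc]

/-- The overgroup `X`. -/
def Data.X : Subgroup G := S.core hb ⊔ S.T4

theorem Data.card_X : Nat.card (S.X hb) = 3600 * Nat.card S.T4 := by
  rw [Data.X, card_sup_disjoint _ _ (S.T4_le hb) fun t ht hm => S.T4_disjoint hb ht hm, S.card_core hb]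

theorem Data.mem_X {x : G} : x ∈ S.X hb ↔ ∃ a ∈ alternatingGroup (Fin 5),
    ∃ b ∈ alternatingGroup (Fin 5), ∃ t ∈ S.T4, x = S.i5 a * S.j5 b * t := by
  constructor
  · intro hx
    have hx' : x ∈ (↑(S.core hb ⊔ S.T4) : Set G) := hx
    rw [coe_mul_of_right_le_normalizer_left _ _ (S.T4_le hb)] at hx'
    obtain ⟨k, hk, t, ht, rfl⟩ := hx'
    obtain ⟨a, ha, b, hb', rfl⟩ := (S.mem_core hb).1 hk
    exact ⟨a, ha, b, hb', t, ht, rfl⟩
  · rintro ⟨a, ha, b, hb', t, ht, rfl⟩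
    exact mul_mem_sup ((S.mem_core hb).2 ⟨a, ha, b, hb', rfl⟩) ht

theorem Data.i5_mem_X (q : Perm (Fin 5)) : S.i5 q ∈ S.X hb := by
  have hs : S.s ∈ S.T4 := S.mem_T4.2 (Or.inr (Or.inl rfl))
  rcases Int.units_eq_one_or (Equiv.Perm.sign q) with e | e
  · exact mem_sup_left (S.i5_mem_core hb (Equiv.Perm.mem_alternatingGroup.2 e))
  · have h : q * t34 ∈ alternatingGroup (Fin 5) := by
      rw [Equiv.Perm.mem_alternatingGroup, map_mul, e]; decide
    rw [show q = q * t34 * t34 by rw [mul_assoc, show t34 * t34 = 1 by decide, mul_one], map_mul]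
    exact mul_mem_sup (S.i5_mem_core hb h) hs

theorem Data.i3_mem_X (a : Perm (Fin 3)) : S.i3 a ∈ S.X hb := by
  have hz : S.i3 rho ∈ S.X hb := mem_sup_left (S.D_le_core hb S.z_mem)
  have he : S.i3 tau ∈ S.X hb := by
    rw [show S.i3 tau = S.e from rfl, S.e_eq hb]
    exact mem_sup_left (S.j5_mem_core hb (by rw [Equiv.Perm.mem_alternatingGroup]; decide))
  rcases perm3_list a with rfl | rfl | rfl | rfl | rfl | rfl
  exacts [by rw [map_one]; exact one_mem _, hz, by rw [map_mul]; exact mul_mem hz hz, he,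
    by rw [map_mul]; exact mul_mem he hz, by rw [map_mul, map_mul]; exact mul_mem he (mul_mem hz hz)]

theorem Data.σ_mem_X : S.σ ∈ S.X hb := mem_sup_right (S.mem_T4.2 (Or.inr (Or.inr (Or.inl rfl))))

theorem Data.N_le_X : normalizer (S.D : Set G) ≤ S.X hb := fun g hg => by
  obtain ⟨a, q, -, h⟩ := S.mem_norm hg
  have h1 := mul_mem (S.i3_mem_X hb a) (S.i5_mem_X hb q)
  rcases h with rfl | rfl
  exacts [h1, mul_mem (S.σ_mem_X hb) h1]

theorem Data.cent_D_le_X {d g : G} (hd : d ∈ S.D) (hd1 : d ≠ 1) (hg : Commute g d) : g ∈ S.X hb := by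
  have key : ∀ k, Commute k S.z → k ∈ S.X hb := fun k hk => by
    obtain ⟨a, q, rfl, -⟩ := S.cent_z hk
    exact mul_mem (S.i3_mem_X hb a) (S.i5_mem_X hb q)
  have key' : ∀ k, Commute k S.c → k ∈ S.X hb := fun k hk => by
    have h := mul_mem (mul_mem (S.σ_mem_X hb) (key _ (S.σc ▸ S.σ_commute hk))) (S.σ_mem_X hb)
    rwa [S.σσ] at h
  obtain ⟨a, r, rfl, ha, hr⟩ := S.mem_D.1 hd
  rcases ha with rfl | ha
  · rw [map_one, one_mul] at hd1 hg
    rcases hr with rfl | rfl | rfl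
    · exact absurd (map_one _) hd1
    · exact key' g hg
    · refine key' g ?_
      have h := hg.mul_right hg
      rwa [← map_mul, show cyc * cyc * (cyc * cyc) = cyc by decide] at h
  · rcases hr with rfl | hr
    · rw [map_one, mul_one] at hg
      rcases ha with rfl | rfl
      · exact key g hg
      · refine key g ?_
        have h := hg.mul_right hg
        rwa [← map_mul, show rho * rho * (rho * rho) = rho by decide] at h
    · exact S.N_le_X hb (S.cent_mixed ha hr hg)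

theorem Data.three_into_D {d : G} (hd : d ∈ S.X hb) (h3 : d * d * d = 1) :
    ∃ x ∈ S.X hb, x⁻¹ * d * x ∈ S.D := by
  have : Fact (Nat.Prime 3) := ⟨Nat.prime_three⟩
  have hP : (S.P : Subgroup G) ≤ S.X hb := by
    rw [S.P_eq]; exact le_normalizer.trans (S.N_le_X hb)
  let d' : S.X hb := ⟨d, hd⟩
  have hd3 : d' * d' * d' = 1 := Subtype.ext h3
  have hp : IsPGroup 3 (zpowers d') := fun w => by
    obtain ⟨n, hn⟩ := mem_zpowers_iff.1 w.2
    refine ⟨1, Subtype.ext ?_⟩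
    rw [SubmonoidClass.coe_pow, ← hn, pow_one, ← zpow_natCast, zpow_comm, zpow_natCast, pow_three', hd3,
      one_zpow]
    rfl
  obtain ⟨Q, hQ⟩ := hp.exists_le_sylow
  obtain ⟨g, hg⟩ := MulAction.exists_smul_eq (S.X hb) Q (S.P.subtype hP)
  refine ⟨(g : G)⁻¹, inv_mem g.2, ?_⟩
  have hm : g * d' * g⁻¹ ∈ ((g • Q : Sylow 3 (S.X hb)) : Subgroup (S.X hb)) := by
    rw [Sylow.coe_subgroup_smul]
    exact ⟨d', hQ (mem_zpowers _), rfl⟩
  rw [hg, Sylow.coe_subtype, mem_subgroupOf, S.P_eq] at hm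
  rw [inv_inv]
  exact hm

/-- An element of order three of `X` fixes only the coset `X`. -/
theorem Data.fix_three {d g : G} (hd : d ∈ S.X hb) (h3 : d * d * d = 1) (h1 : d ≠ 1)
    (hg : g * d * g⁻¹ ∈ S.X hb) : g ∈ S.X hb := by
  obtain ⟨x, hx, hxd⟩ := S.three_into_D hb hd h3
  obtain ⟨y, hy, hyd⟩ := S.three_into_D hb hg (by
    calc g * d * g⁻¹ * (g * d * g⁻¹) * (g * d * g⁻¹) = g * (d * d * d) * g⁻¹ := by group
      _ = 1 := by rw [h3]; group)
  obtain ⟨n, hn, hne⟩ := S.conj_in_norm hxd hyd (g := y⁻¹ * g * x) (by group)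
  have hc : n⁻¹ * (y⁻¹ * g * x) ∈ S.X hb := by
    refine S.cent_D_le_X hb hxd (fun e => h1 ?_) (mul_inv_eq_iff_eq_mul.1 ?_)
    · calc d = x * (x⁻¹ * d * x) * x⁻¹ := by group
        _ = 1 := by rw [e]; group
    · calc n⁻¹ * (y⁻¹ * g * x) * (x⁻¹ * d * x) * (n⁻¹ * (y⁻¹ * g * x))⁻¹
          = n⁻¹ * (y⁻¹ * (g * d * g⁻¹) * y) * n := by group
        _ = _ := by rw [← hne]; group
  have h := mul_mem (mul_mem hy (mul_mem (S.N_le_X hb hn) hc)) (inv_mem hx)
  rwa [show y * (n * (n⁻¹ * (y⁻¹ * g * x))) * x⁻¹ = g by group] at h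

end CfsgLib.ThreeLocalS8
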