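import Mathlib.GroupTheory.Perm.Sign
import Mathlib.GroupTheory.SpecificGroups.Dihedral
import Mathlib.Data.ZMod.Basic
import Mathlib.Data.Fintype.Perm
import Mathlib.GroupTheory.Perm.Fin
import Mathlib.Algebra.Group.TypeTags.Finite

/-!
# Finite facts for the 3-local characterisation of the symmetric group of degree eight
-/

set_option autoImplicit false

namespace CfsgLib.ThreeLocalS8

open Equiv

/-- The 3-cycle of degree three. -/
def rho : Perm (Fin 3) := swap 0 1 * swap 1 2

/-- The transposition of degree three. -/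
def tau : Perm (Fin 3) := swap 0 1

/-- The 3-cycle of degree five. -/
def cyc : Perm (Fin 5) := swap 0 1 * swap 1 2

/-- The transposition centralising `cyc`. -/
def t34 : Perm (Fin 5) := swap 3 4

/-- A transposition inverting `cyc`. -/
def t01 : Perm (Fin 5) := swap 0 1

theorem rho_three : rho * rho * rho = 1 := by decide

theorem cyc_three : cyc * cyc * cyc = 1 := by decide

theorem normal_three : ∀ q : Perm (Fin 5), q * q * q = 1 →
    (swap 0 1 * q * (swap 0 1)⁻¹ = q ∨ swap 0 1 * q * (swap 0 1)⁻¹ = q * q) →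
    (finRotate 5 * q * (finRotate 5)⁻¹ = q ∨ finRotate 5 * q * (finRotate 5)⁻¹ = q * q) → q = 1 := by
  decide +kernel

theorem three_perm3 : ∀ p : Perm (Fin 3), p * p * p = 1 → p ≠ 1 → p = rho ∨ p = tau * rho * tau⁻¹ := by
  decide

theorem cent_rho : ∀ p : Perm (Fin 3), p * rho = rho * p → p = 1 ∨ p = rho ∨ p = rho * rho := by decide

theorem perm3_inv : ∀ p : Perm (Fin 3), p * rho * p⁻¹ = rho ∨ p * rho * p⁻¹ = rho * rho := by decide

theorem conj_cyc : ∀ b : Perm (Fin 5), b * b * b = 1 → b ≠ 1 → ∃ g, g * b * g⁻¹ = cyc := by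
  decide +kernel

theorem cent_cyc : ∀ b : Perm (Fin 5), b * cyc = cyc * b →
    b = 1 ∨ b = cyc ∨ b = cyc * cyc ∨ b = t34 ∨ b = cyc * t34 ∨ b = cyc * cyc * t34 := by
  decide +kernel

theorem norm_cyc : ∀ b : Perm (Fin 5),
    b * cyc * b⁻¹ = cyc * cyc → (t01 * b) * cyc = cyc * (t01 * b) := by
  decide +kernel

/-- An involution inverting `cyc` and commuting with `t34`, up to conjugation by `cyc`. -/
theorem inverting : ∀ b : Perm (Fin 5), b * b = 1 → b * cyc * b⁻¹ = cyc * cyc → b * t34 = t34 * b →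
    ∃ k : Fin 3, cyc ^ (k : ℕ) * b * (cyc ^ (k : ℕ))⁻¹ = t01 ∨
      cyc ^ (k : ℕ) * b * (cyc ^ (k : ℕ))⁻¹ = t01 * t34 := by
  decide +kernel

/-- Squares in `D₈ × 2`. -/
theorem square_cases : ∀ g h : DihedralGroup 4 × Multiplicative (ZMod 2),
    g * g = 1 ∨ h * h = 1 ∨ g * g = h * h := by
  decide +kernel

theorem dihedral_square : ∃ x : DihedralGroup 4, x * x ≠ 1 := by decide

theorem dihedral_fourth : ∀ x : DihedralGroup 4, x * x * (x * x) = 1 := by decide

theorem dihedral_noncomm : ∃ x y : DihedralGroup 4, x * y ≠ y * x := by decide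

end CfsgLib.ThreeLocalS8
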