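import Cfsg.Agent.Lib.Recognition.ThreeLocalS8.CentSMarked
import Cfsg.Agent.Lib.PGroup.AltAut
import Cfsg.Agent.S3146
import Cfsg.Agent.S3329

/-!
# The case in which the inverting involution goes to a transposition: `G ≅ S₈`
-/

set_option autoImplicit false
set_option linter.unusedSectionVars false

namespace CfsgLib.ThreeLocalS8

open Equiv Subgroup

theorem marked_odd : ∀ i : Bool, Equiv.Perm.sign (mX i) = -1 := by decide +kernel

theorem conjNormal_eight_surjective :
    Function.Surjective (MulAut.conjNormal : Perm (Fin 8) →* MulAut ↥(alternatingGroup (Fin 8))) :=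
  fun φ => PGroup.AltAut.exists_conjNormal 8 (by norm_num) φ fun u hu =>
    Cfsg.Agent.S2119.map_threeCycle (by norm_num) (by norm_num) φ hu

theorem hom_perm_units {n : ℕ} (h : Perm (Fin n) →* ℤˣ) {x : Perm (Fin n)} (hx : h x = -1) :
    h = Equiv.Perm.sign := by
  refine Equiv.Perm.eq_sign_of_surjective_hom fun u => ?_
  rcases Int.units_eq_one_or u with rfl | rfl
  exacts [⟨1, map_one h⟩, ⟨x, hx⟩]

section IndexTwo

variable {G : Type*} [Group G]

/-- The sign character of a subgroup of index two. -/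
noncomputable def indexTwoSign (H : Subgroup G) (h : H.index = 2) : G →* ℤˣ := by
  classical
  exact
  { toFun := fun g => if g ∈ H then 1 else -1
    map_one' := by simp [one_mem]
    map_mul' := fun a b => by
      have := mul_mem_iff_of_index_two h (a := a) (b := b)
      by_cases ha : a ∈ H <;> by_cases hb : b ∈ H <;> simp [ha, hb] at this ⊢ <;> simp [this] }

theorem indexTwoSign_eq_one (H : Subgroup G) (h : H.index = 2) (g : G) :
    indexTwoSign H h g = 1 ↔ g ∈ H := by
  classical
  show (if g ∈ H then (1 : ℤˣ) else -1) = 1 ↔ _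
  by_cases hg : g ∈ H <;> simp [hg]

theorem indexTwoSign_eq_neg (H : Subgroup G) (h : H.index = 2) {g : G} (hg : g ∉ H) :
    indexTwoSign H h g = -1 :=
  (Int.units_eq_one_or _).resolve_left fun e => hg ((indexTwoSign_eq_one H h g).1 e)

end IndexTwo

variable {G : Type*} [Group G] [Finite G]

/-- A subgroup of index two avoiding `s`. -/
theorem Data.exists_index_two (S : Data G) (hb : S.b = t01) :
    ∃ H : Subgroup G, H.index = 2 ∧ S.s ∉ H ∧ S.e ∉ H := by
  set q := (swap 0 3 * swap 1 4 : Perm (Fin 5))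
  set h := S.σ * S.i5 q * S.σ
  have he : h * S.s * h⁻¹ = S.e := by
    have e1 : S.i5 q * S.s * (S.i5 q)⁻¹ = S.f := by
      rw [show S.s = S.i5 t34 from rfl, show S.f = S.i5 S.b from rfl, hb, ← map_inv, ← map_mul,
        ← map_mul]
      exact congrArg S.i5 (by decide)
    rw [← S.σf, ← e1, mul_inv_rev, mul_inv_rev, S.σinv]
    calc S.σ * S.i5 q * S.σ * S.s * (S.σ * ((S.i5 q)⁻¹ * S.σ))
        = S.σ * S.i5 q * (S.σ * S.s * S.σ) * ((S.i5 q)⁻¹ * S.σ) := by group
      _ = _ := by rw [S.σs']; group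
  have hne : centralizer ({S.s} : Set G) ≠ normalizer (S.D : Set G) := by
    intro heq
    have hm : h⁻¹ * S.i5 (finRotate 5) * h ∈ centralizer ({S.s} : Set G) := by
      have hc := (show Commute (S.i5 (finRotate 5)) (h * S.s * h⁻¹) by
        rw [he]; exact (S.comm tau _).symm).map (MulAut.conj h⁻¹).toMonoidHom
      refine mem_centralizer_singleton_iff.2 ?_
      simpa [MulAut.conj_apply, mul_assoc] using hc.eq
    rw [heq] at hm
    have h5 := orderOf_dvd_natCard (⟨_, hm⟩ : ↥(normalizer (S.D : Set G)))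
    have : Fact (Nat.Prime 5) := ⟨by norm_num⟩
    have ho : orderOf (h⁻¹ * S.i5 (finRotate 5) * h) = 5 := by
      refine orderOf_eq_prime ?_ fun e => ?_
      · rw [show h⁻¹ * S.i5 (finRotate 5) * h = h⁻¹ * S.i5 (finRotate 5) * h⁻¹⁻¹ by group, conj_pow,
          ← map_pow, show finRotate 5 ^ 5 = 1 by decide, map_one]
        group
      · rw [show h⁻¹ * S.i5 (finRotate 5) * h = h⁻¹ * S.i5 (finRotate 5) * h⁻¹⁻¹ by group,
          conj_eq_one_iff] at e
        exact absurd (S.i5_eq_one e) (by decide)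
    rw [orderOf_mk, S.cardN, ho] at h5
    norm_num at h5
  obtain ⟨P6⟩ := S.exists_proj hne
  have hs2 : orderOf S.s = 2 := by
    refine orderOf_eq_prime ?_ S.s_ne
    rw [pow_two]; exact S.s2
  obtain ⟨H, hH⟩ := Cfsg.Agent.S3146.result
    (even_iff_two_dvd.2 (hs2 ▸ orderOf_dvd_natCard S.s)) S.s hs2 P6.split
  have hHn : H.Normal := normal_of_index_eq_two hH
  have hiff : S.e ∈ H ↔ S.s ∈ H := by
    rw [← he]
    exact ⟨fun hm => by
      have := hHn.conj_mem _ hm h⁻¹
      simpa [mul_assoc] using this, fun hm => hHn.conj_mem _ hm h⟩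
  by_cases hs : S.s ∈ H
  swap
  · exact ⟨H, hH, hs, fun hm => hs (hiff.1 hm)⟩
  exfalso
  let χ := (indexTwoSign H hH).comp (centralizer ({S.s} : Set G)).subtype
  have hker : P6.π.ker ≤ χ.ker := fun x hx => by
    refine (indexTwoSign_eq_one H hH _).2 ?_
    rcases S.mem_zpowers_s.1 ((P6.ker x).1 hx) with e | e <;>
      rw [show (centralizer ({S.s} : Set G)).subtype x = (x : G) from rfl, e]
    exacts [one_mem _, hs]
  let χ' : Perm (Fin 6) →* ℤˣ := P6.π.liftOfSurjective P6.surj ⟨χ, hker⟩
  have hχ' : ∀ x, χ' (P6.π x) = χ x := fun x =>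
    P6.π.liftOfRightInverse_comp_apply _ (Function.rightInverse_surjInv P6.surj) ⟨χ, hker⟩ x
  have htriv : ∀ p, χ' p = 1 := fun p => by
    refine (Int.units_eq_one_or _).resolve_right fun hp => ?_
    obtain ⟨i, g, -, -, hgx, -, -⟩ := P6.marked.normal_form
    have h1 : χ' P6.pe = 1 := (hχ' _).trans ((indexTwoSign_eq_one H hH _).2 (hiff.2 hs))
    rw [hom_perm_units χ' hp] at h1
    have := marked_odd i
    rw [← hgx, map_mul, map_mul, map_inv, h1, mul_one, mul_inv_cancel] at this
    exact absurd this (by decide)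
  have hle : centralizer ({S.s} : Set G) ≤ H := fun x hx => (indexTwoSign_eq_one H hH x).1
    ((hχ' ⟨x, hx⟩).symm.trans (htriv _))
  have hDH : S.D ≤ H := S.D_le.trans hle
  have := hHn
  have : Fact (Nat.Prime 3) := ⟨Nat.prime_three⟩
  have htop : normalizer (S.D : Set G) ⊔ H = ⊤ := by
    rw [← S.P_eq]
    exact S.P.normalizer_sup_eq_top' (N := H) (S.P_eq.symm ▸ hDH)
  rw [sup_eq_right.2 (S.N_le.trans hle)] at htop
  rw [htop, index_top] at hH
  norm_num at hH

end CfsgLib.ThreeLocalS8
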