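import Cfsg.Agent.Lib.Recognition.ThreeLocalS8.Single

/-!
# The data of `A₈` in the subgroup of index two, and `G ≅ S₈`
-/

set_option autoImplicit false
set_option linter.unusedSectionVars false

namespace CfsgLib.ThreeLocalS8

open Equiv Subgroup

variable {G : Type*} [Group G] [Finite G]

theorem card_inf_index_two {H K : Subgroup G} (hH : H.index = 2) {x : G} (hxK : x ∈ K) (hxH : x ∉ H) :
    2 * Nat.card ↥(H.subgroupOf K) = Nat.card K := by
  have h2 : (H.subgroupOf K).index = 2 := by
    rw [index_eq_two_iff]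
    refine ⟨⟨x, hxK⟩, fun b => ?_⟩
    have := mul_mem_iff_of_index_two hH (a := (b : G)) (b := x)
    simp only [mem_subgroupOf, coe_mul, hxH, iff_false] at this ⊢
    by_cases hb : (b : G) ∈ H
    · exact Or.inr ⟨hb, fun h => this.1 h hb⟩
    · exact Or.inl ⟨this.2 hb, hb⟩
  rw [← (H.subgroupOf K).card_mul_index, h2, mul_comm]

theorem Setup.i35_injective (S : Setup G) :
    Function.Injective (S.i3.noncommCoprod S.i5 fun a q => S.comm a q) := fun _ _ e =>
  Prod.ext (S.pair.1 e).1 (S.pair.1 e).2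

/-- The case `b = (0 1)`. -/
theorem Data.single (S : Data G) (hb : S.b = t01) (y z : G) (hz : S.i3 rho = z)
    (hgen : closure {y, z} = S.D)
    (hyn : (S.D.subgroupOf (centralizer ({y} : Set G))).Normal)
    (hycard : Nat.card (centralizer ({y} : Set G)) = 36)
    (hyNn : (S.D.subgroupOf (normalizer (zpowers y : Set G))).Normal)
    (hyNcard : Nat.card ↥(normalizer (zpowers y : Set G)) = 72)
    (hyNsq : ∀ g ∈ normalizer (zpowers y : Set G), g ^ 2 ∈ S.D) :
    Nonempty (G ≃* Perm (Fin 8)) := by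
  classical
  subst hz
  obtain ⟨H, hH, hsH, heH⟩ := S.exists_index_two hb
  have hHn : H.Normal := normal_of_index_eq_two hH
  let χ := indexTwoSign H hH
  have hDH : S.D ≤ H := fun d hd => (indexTwoSign_eq_one H hH d).1 (by
    rcases Int.units_eq_one_or (indexTwoSign H hH d) with e | e
    · exact e
    · have h3 := congrArg (indexTwoSign H hH) (S.D_three hd)
      rw [map_mul, map_mul, map_one, e] at h3
      exact absurd h3 (by decide))
  have hy : y ∈ S.D := hgen ▸ subset_closure (Set.mem_insert y _)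
  have hz : S.z ∈ H := hDH S.z_mem
  let y' : H := ⟨y, hDH hy⟩
  let z' : H := ⟨S.z, hz⟩
  let D' : Subgroup H := S.D.subgroupOf H
  have hχ3 : χ.comp S.i3 = Equiv.Perm.sign := hom_perm_units _ (indexTwoSign_eq_neg H hH heH)
  have hχ5 : χ.comp S.i5 = Equiv.Perm.sign := hom_perm_units _ (indexTwoSign_eq_neg H hH hsH)
  have hpair : ∀ a q, S.i3 a * S.i5 q ∈ H ↔ Equiv.Perm.sign a * Equiv.Perm.sign q = 1 := fun a q => by
    rw [← indexTwoSign_eq_one H hH, map_mul, ← hχ3, ← hχ5]; rfl
  have hP : (S.P : Subgroup G) ≤ H := S.P_eq.symm ▸ hDH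
  have hDP : D' = (S.P.subtype hP : Subgroup H) := by
    rw [Sylow.coe_subtype, S.P_eq]
  have hcard : Nat.card D' = 9 := by
    rw [← S.card_D]; exact Nat.card_congr (subgroupOfEquivOfLe hDH).toEquiv
  have hcentD : centralizer (D' : Set H) = D' := by
    refine le_antisymm (fun x hx => ?_) fun x hx => mem_centralizer_iff.2 fun u hu =>
      Subtype.ext (S.D_commute hu hx).eq
    have hc : ∀ d ∈ S.D, Commute (x : G) d := fun d hd =>
      (congrArg Subtype.val (mem_centralizer_iff.1 hx ⟨d, hDH hd⟩ hd)).symm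
    rcases S.cent_D_mem (hc _ S.z_mem) (hc _ S.c_mem) with hm | hm
    · exact hm
    · exfalso
      exact hsH (by simpa using mul_mem (inv_mem x.2) (hDH hm))
  have hnormiff : ∀ (K : Subgroup G), K ≤ H → ∀ x : H,
      x ∈ normalizer ((K.subgroupOf H : Subgroup H) : Set H) ↔ (x : G) ∈ normalizer (K : Set G) := by
    intro K hK x
    refine ⟨fun h => mem_normalizer_of_conj_mem fun d hd => ?_,
      fun h => mem_normalizer_of_conj_mem fun d hd => (mem_normalizer_iff.1 h _).1 hd⟩
    exact (mem_normalizer_iff.1 h ⟨d, hK hd⟩).1 hd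
  -- the action of the normaliser
  let ν : ↥(normalizer (D' : Set H)) →* ↥(normalizer (S.D : Set G)) :=
    (H.subtype.comp (Subgroup.subtype _)).codRestrict _ fun x => (hnormiff _ hDH x.1).1 x.2
  let φ := S.φ.comp ν
  have hφs : Function.Surjective φ := by
    intro d
    obtain ⟨n, hn⟩ := S.φ_surj d
    by_cases hnH : (n : G) ∈ H
    · exact ⟨⟨⟨n, hnH⟩, (hnormiff _ hDH _).2 n.2⟩, hn⟩
    · have hns : (n : G) * S.s ∈ H := (mul_mem_iff_of_index_two hH).2 (iff_of_false hnH hsH)
      refine ⟨⟨⟨(n : G) * S.s, hns⟩, (hnormiff _ hDH _).2 (mul_mem n.2 S.s_mem)⟩, ?_⟩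
      show S.φ (n * ⟨S.s, S.s_mem⟩) = d
      rw [map_mul, hn, (S.φ_ker _).2 (mem_centralizer_iff.2 fun u hu =>
        (S.s_central (le_normalizer hu)).eq), mul_one]
  have hφker : φ.ker = D'.subgroupOf (normalizer (D' : Set H)) := by
    ext x
    rw [MonoidHom.mem_ker, mem_subgroupOf]
    refine (S.φ_ker _).trans ⟨fun h => ?_, fun h => ?_⟩
    · exact hcentD.le (mem_centralizer_iff.2 fun u hu => Subtype.ext (mem_centralizer_iff.1 h _ hu))
    · exact mem_centralizer_iff.2 fun u hu => (S.D_commute hu h).eq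
  let eN := ((QuotientGroup.quotientMulEquivOfEq hφker).symm).trans
    (QuotientGroup.quotientKerEquivOfSurjective φ hφs)
  -- the element `y`
  have hcy : ∀ x : H, x ∈ centralizer ({y'} : Set H) ↔ (x : G) ∈ centralizer ({y} : Set G) := fun x => by
    rw [mem_centralizer_singleton_iff, mem_centralizer_singleton_iff]
    exact ⟨fun e => congrArg Subtype.val e, fun e => Subtype.ext e⟩
  have hsy : S.s ∈ centralizer ({y} : Set G) :=
    mem_centralizer_singleton_iff.2 (S.s_central (le_normalizer hy)).symm.eq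
  have hycard' : Nat.card (centralizer ({y'} : Set H)) = 18 := by
    have e : Nat.card (centralizer ({y'} : Set H)) =
        Nat.card ↥(H.subgroupOf (centralizer ({y} : Set G))) := Nat.card_congr
      { toFun := fun x => ⟨⟨(x : H), (hcy _).1 x.2⟩, (x : H).2⟩
        invFun := fun x => ⟨⟨(x : centralizer ({y} : Set G)), x.2⟩, (hcy _).2 x.1.2⟩
        left_inv := fun _ => rfl
        right_inv := fun _ => rfl }
    have := card_inf_index_two hH hsy hsH
    omega
  have hyn' : (D'.subgroupOf (centralizer ({y'} : Set H))).Normal := ⟨fun d hd g => by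
    have h := hyn.conj_mem (⟨((d : H) : G), (hcy _).1 d.2⟩ : centralizer ({y} : Set G)) hd
      ⟨((g : H) : G), (hcy _).1 g.2⟩
    exact h⟩
  let Ny := normalizer (zpowers y' : Set H)
  have hzy : (zpowers y).subgroupOf H = zpowers y' := by
    ext x
    rw [mem_subgroupOf, mem_zpowers_iff, mem_zpowers_iff]
    exact ⟨fun ⟨n, hn⟩ => ⟨n, Subtype.ext (by push_cast; exact hn)⟩,
      fun ⟨n, hn⟩ => ⟨n, by rw [← hn]; push_cast; rfl⟩⟩
  have hny : ∀ x : H, x ∈ Ny ↔ (x : G) ∈ normalizer (zpowers y : Set G) := fun x => by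
    show x ∈ normalizer (zpowers y' : Set H) ↔ _
    rw [← hzy]
    exact hnormiff _ (by rw [zpowers_le]; exact hDH hy) x
  have hyN : D' ≤ Ny := fun d hd => (hny d).2 (Subgroup.centralizer_le_normalizer _
    (mem_centralizer_iff.2 fun u hu => by
      obtain ⟨n, rfl⟩ := mem_zpowers_iff.1 hu
      exact ((S.D_commute hy hd).zpow_left n).eq))
  have hyNn' : (D'.subgroupOf Ny).Normal := ⟨fun d hd g =>
    hyNn.conj_mem (⟨((d : H) : G), (hny _).1 d.2⟩ : ↥(normalizer (zpowers y : Set G))) hd
      ⟨((g : H) : G), (hny _).1 g.2⟩⟩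
  have hNy36 : Nat.card Ny = 36 := by
    have hsN : S.s ∈ normalizer (zpowers y : Set G) :=
      Subgroup.centralizer_le_normalizer _ (mem_centralizer_iff.2 fun u hu => by
        obtain ⟨n, rfl⟩ := mem_zpowers_iff.1 hu
        exact ((S.s_central (le_normalizer hy)).zpow_left n).eq)
    have e : Nat.card Ny = Nat.card ↥(H.subgroupOf (normalizer (zpowers y : Set G))) := Nat.card_congr
      { toFun := fun x => ⟨⟨(x : H), (hny _).1 x.2⟩, (x : H).2⟩
        invFun := fun x => ⟨⟨(x : normalizer (zpowers y : Set G)), x.2⟩, (hny _).2 x.1.2⟩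
        left_inv := fun _ => rfl
        right_inv := fun _ => rfl }
    have := card_inf_index_two hH hsN hsH
    omega
  have hyNcard' : Nat.card (Ny ⧸ D'.subgroupOf Ny) = 4 := by
    have := card_eq_card_quotient_mul_card_subgroup (D'.subgroupOf Ny)
    rw [hNy36, Nat.card_congr (subgroupOfEquivOfLe hyN).toEquiv, hcard] at this
    omega
  have hyNexp : ∀ g : Ny ⧸ D'.subgroupOf Ny, g ^ 2 = 1 := by
    intro g
    induction g using QuotientGroup.induction_on with
    | H g =>
      rw [← QuotientGroup.mk_pow, QuotientGroup.eq_one_iff, mem_subgroupOf, mem_subgroupOf]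
      push_cast
      exact hyNsq _ ((hny _).1 g.2)
  -- the element `z`
  have hcz : ∀ x : H, x ∈ centralizer ({z'} : Set H) ↔ Commute (x : G) S.z := fun x => by
    rw [mem_centralizer_singleton_iff]
    exact ⟨fun e => congrArg Subtype.val e, fun e => Subtype.ext e⟩
  have hrho : ∀ a ∈ zpowers rho, Equiv.Perm.sign a = 1 := fun a ha => by
    rcases (mem_zpowers_three rho_three).1 ha with rfl | rfl | rfl <;> decide
  have : Fact (Nat.Prime 3) := ⟨Nat.prime_three⟩
  have hr3 : orderOf rho = 3 := orderOf_eq_prime (by decide) (by decide)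
  let ζ : Multiplicative (ZMod 3) ≃* ↥(zpowers rho) :=
    mulEquivOfCyclicCardEq (by rw [Nat.card_zpowers, hr3]; simp)
  let θ : Multiplicative (ZMod 3) × alternatingGroup (Fin 5) →* G :=
    (S.i3.noncommCoprod S.i5 fun a q => S.comm a q).comp
      (((zpowers rho).subtype.comp ζ.toMonoidHom).prodMap (alternatingGroup (Fin 5)).subtype)
  have hθmem : ∀ w, θ w ∈ H ∧ Commute (θ w) S.z := fun w => by
    refine ⟨(hpair _ _).2 ?_, ?_⟩
    · show Equiv.Perm.sign (ζ w.1 : Perm (Fin 3)) * Equiv.Perm.sign (w.2 : Perm (Fin 5)) = 1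
      rw [hrho _ (ζ w.1).2, Equiv.Perm.mem_alternatingGroup.1 w.2.2, mul_one]
    · show Commute (S.i3 (ζ w.1 : Perm (Fin 3)) * S.i5 (w.2 : Perm (Fin 5))) (S.i3 rho)
      refine Commute.mul_left ?_ (S.comm rho _).symm
      obtain ⟨n, hn⟩ := mem_zpowers_iff.1 (ζ w.1).2
      rw [← hn]
      exact ((Commute.refl rho).zpow_left n).map S.i3
  let θ' : Multiplicative (ZMod 3) × alternatingGroup (Fin 5) →* ↥(centralizer ({z'} : Set H)) :=
    (θ.codRestrict H fun w => (hθmem w).1).codRestrict _ fun w => (hcz _).2 (hθmem w).2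
  have hθ' : Function.Bijective θ' := by
    refine ⟨fun u v e => ?_, fun x => ?_⟩
    · have e' : θ u = θ v := congrArg (fun w : ↥(centralizer ({z'} : Set H)) => ((w : H) : G)) e
      have h := S.i35_injective e'
      exact Prod.ext (ζ.injective (Subtype.ext (congrArg Prod.fst h)))
        (Subtype.ext (congrArg Prod.snd h))
    · obtain ⟨a, q, e, ha⟩ := S.cent_z ((hcz _).1 x.2)
      have ha' : a ∈ zpowers rho := (mem_zpowers_three rho_three).2 ha
      have hq : q ∈ alternatingGroup (Fin 5) := by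
        have h := (hpair a q).1 (e ▸ (x : H).2)
        rwa [hrho a ha', one_mul] at h
      refine ⟨(ζ.symm ⟨a, ha'⟩, ⟨q, hq⟩), Subtype.ext (Subtype.ext ?_)⟩
      show S.i3 (ζ (ζ.symm ⟨a, ha'⟩) : Perm (Fin 3)) * S.i5 q = _
      rw [MulEquiv.apply_symm_apply]; exact e.symm
  let K5 := (((Equiv.Perm.sign).comp (MonoidHom.fst (Perm (Fin 3)) (Perm (Fin 5)))) *
        ((Equiv.Perm.sign).comp (MonoidHom.snd (Perm (Fin 3)) (Perm (Fin 5))))).ker
  let θN0 : K5 →* G := (S.i3.noncommCoprod S.i5 fun a q => S.comm a q).comp K5.subtype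
  have hnz : ∀ x : H, x ∈ normalizer (zpowers z' : Set H) ↔ (x : G) ∈ normalizer (zpowers S.z : Set G) :=
    fun x => by
      have hzz : (zpowers S.z).subgroupOf H = zpowers z' := by
        ext x
        rw [mem_subgroupOf, mem_zpowers_iff, mem_zpowers_iff]
        exact ⟨fun ⟨n, hn⟩ => ⟨n, Subtype.ext (by push_cast; exact hn)⟩,
          fun ⟨n, hn⟩ => ⟨n, by rw [← hn]; push_cast; rfl⟩⟩
      rw [← hzz]
      exact hnormiff _ (by rw [zpowers_le]; exact hz) x
  have hθNmem : ∀ w, θN0 w ∈ H ∧ θN0 w ∈ normalizer (zpowers S.z : Set G) := fun w => by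
    refine ⟨(hpair _ _).2 w.2, mem_normalizer_of_conj_mem fun d hd => ?_⟩
    obtain ⟨n, rfl⟩ := mem_zpowers_iff.1 hd
    rw [← conj_zpow]
    refine zpow_mem ?_ n
    show S.i3 w.1.1 * S.i5 w.1.2 * S.z * (S.i3 w.1.1 * S.i5 w.1.2)⁻¹ ∈ _
    rw [S.z_pair, S.conj_pair, show w.1.2 * 1 * w.1.2⁻¹ = 1 by group]
    rw [map_one, mul_one, mul_one, mem_zpowers_three (x := S.i3 rho) (by
      rw [← map_mul, ← map_mul, rho_three, map_one]), ← map_mul S.i3 rho rho]
    rcases perm3_inv w.1.1 with e | e <;> rw [e]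
    exacts [Or.inr (Or.inl rfl), Or.inr (Or.inr rfl)]
  let θN' : K5 →* ↥(normalizer (zpowers z' : Set H)) :=
    (θN0.codRestrict H fun w => (hθNmem w).1).codRestrict _ fun w => (hnz _).2 (hθNmem w).2
  have hθN' : Function.Bijective θN' := by
    refine ⟨fun u v e => Subtype.ext (S.i35_injective ?_), fun x => ?_⟩
    · exact congrArg (fun w : ↥(normalizer (zpowers z' : Set H)) => ((w : H) : G)) e
    · obtain ⟨a, q, e⟩ := S.norm _ ((hnz _).1 x.2)
      exact ⟨⟨(a, q), (hpair a q).1 (e ▸ (x : H).2)⟩, Subtype.ext (Subtype.ext e.symm)⟩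
  have hgen' : closure {y', z'} = D' := by
    refine map_injective H.subtype_injective ?_
    rw [MonoidHom.map_closure, Set.image_pair, show (D'.map H.subtype) = S.D by
      rw [subgroupOf_map_subtype, inf_eq_left.2 hDH]]
    exact hgen
  obtain ⟨e8⟩ := Cfsg.Agent.S3329.result (S.P.subtype hP) D' hDP y' z' hgen'
    ⟨⟨fun u v => Subtype.ext (Subtype.ext (S.D_commute u.2 v.2).eq)⟩⟩ hcard
    (fun a ha => Subtype.ext (by
      push_cast; rw [pow_three']; exact S.D_three ha))
    hcentD eN hyn' hycard' Ny rfl hyN hyNcard' hyNexp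
    (MulEquiv.ofBijective θ' hθ').symm (MulEquiv.ofBijective θN' hθN').symm
  -- the action of `G` on `A₈`
  let σ8 : Perm (Fin 8) ≃* MulAut ↥(alternatingGroup (Fin 8)) :=
    MulEquiv.ofBijective MulAut.conjNormal
      ⟨PGroup.AltAut.conjNormal_injective 8 (by norm_num), conjNormal_eight_surjective⟩
  let ψ : G →* Perm (Fin 8) :=
    σ8.symm.toMonoidHom.comp ((MulAut.congr e8).toMonoidHom.comp MulAut.conjNormal)
  have hinj : Function.Injective ψ := by
    rw [injective_iff_map_eq_one]
    intro k hk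
    have hk' : (MulAut.conjNormal k : MulAut H) = 1 := by
      have := (MulAut.congr e8).injective ((σ8.symm.injective (hk.trans σ8.symm.map_one.symm)).trans
        (MulAut.congr e8).map_one.symm)
      exact this
    have hc : ∀ u ∈ H, Commute k u := fun u hu => by
      have := congrArg (fun φ : MulAut H => ((φ ⟨u, hu⟩ : H) : G)) hk'
      simp only [MulAut.conjNormal_apply, MulAut.one_apply] at this
      exact mul_inv_eq_iff_eq_mul.1 this
    have hA : ∀ q ∈ alternatingGroup (Fin 5), S.i5 q ∈ H := fun q hq => by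
      have := (hpair 1 q).2 (by rw [map_one, one_mul]; exact Equiv.Perm.mem_alternatingGroup.1 hq)
      simpa using this
    have hrot : finRotate 5 ∈ alternatingGroup (Fin 5) := by
      rw [Equiv.Perm.mem_alternatingGroup]; decide
    have hnots : ∀ d ∈ S.D, ¬ (k = d * S.s) := by
      intro d hd e
      obtain ⟨a, r, rfl, ha, hr⟩ := S.mem_D.1 hd
      have h := hc _ (hA _ hrot)
      rw [e, show S.i3 a * S.i5 r * S.s = S.i3 a * S.i5 (r * t34) by
        rw [map_mul, ← mul_assoc]; rfl, show S.i5 (finRotate 5) = S.i3 1 * S.i5 (finRotate 5) by simp,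
        commute_iff S.comm S.inj] at h
      have h' := h.2
      revert h'
      rcases hr with rfl | rfl | rfl <;> decide
    rcases S.cent_D_mem (hc _ hz) (hc _ (hDH S.c_mem)) with hm | hm
    swap
    · exact absurd (show k = k * S.s * S.s by rw [mul_assoc, S.s2, mul_one]) (hnots _ hm)
    obtain ⟨a, r, rfl, ha, hr⟩ := S.mem_D.1 hm
    have h1 := hc _ (hA _ hrot)
    rw [show S.i5 (finRotate 5) = S.i3 1 * S.i5 (finRotate 5) by simp,
      commute_iff S.comm S.inj] at h1
    have hr1 : r = 1 := by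
      have h1' := h1.2
      revert h1'
      rcases hr with rfl | rfl | rfl <;> decide
    subst hr1
    rw [map_one, mul_one] at hc ⊢
    have h2 := hc _ ((indexTwoSign_eq_one H hH (S.σ * S.i5 (finRotate 5) * S.σ)).1 (by
      rw [map_mul, map_mul, show indexTwoSign H hH (S.i5 (finRotate 5)) = 1 from
        (indexTwoSign_eq_one H hH _).2 (hA _ hrot), mul_one, ← map_mul, S.σ2, map_one]))
    rcases ha with rfl | rfl | rfl
    · rw [map_one]
    all_goals
      exfalso
      have h3 := S.σ_commute h2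
      rw [S.σσ, show S.i5 (finRotate 5) = S.i3 1 * S.i5 (finRotate 5) by simp] at h3
      first
        | (rw [show S.σ * S.i3 rho * S.σ = S.c from S.σz', S.c_pair, commute_iff S.comm S.inj] at h3
           exact absurd h3.2 (by decide))
        | (rw [map_mul, S.σ_mul, show S.σ * S.i3 rho * S.σ = S.c from S.σz', S.c_pair, S.mul_pair,
            commute_iff S.comm S.inj] at h3
           exact absurd h3.2 (by decide))
  have hcard8 : Nat.card G = Nat.card (Perm (Fin 8)) := by
    rw [← H.card_mul_index, hH, Nat.card_congr e8.toEquiv, mul_comm, Nat.card_eq_fintype_card,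
      Nat.card_eq_fintype_card, two_mul_card_alternatingGroup]
  exact ⟨MulEquiv.ofBijective ψ ((Nat.bijective_iff_injective_and_card _).2 ⟨hinj, hcard8⟩)⟩

end CfsgLib.ThreeLocalS8
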