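import Mathlib.GroupTheory.Perm.Sign
import Mathlib.Data.Fintype.Perm
import Mathlib.GroupTheory.Perm.Fin

/-!
# Finite facts on `S₆` with a marked `3² : D₈`

Up to conjugation there are two systems `(z, w, x, y, t)`: `z`, `w` generate a Sylow 3-subgroup,
`x` inverts `z` and fixes `w`, `y` inverts `w` and fixes `z`, and `t` exchanges both pairs.
-/

set_option autoImplicit false
set_option maxRecDepth 20000
set_option synthInstance.maxSize 4000
set_option synthInstance.maxHeartbeats 400000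
set_option maxHeartbeats 4000000

namespace CfsgLib.ThreeLocalS8

open Equiv

/-- The first marked 3-element. -/
def mZ : Bool → Perm (Fin 6)
  | true => swap 0 1 * swap 1 2
  | false => swap 0 1 * swap 1 2 * (swap 3 4 * swap 4 5)

/-- The second marked 3-element. -/
def mW : Bool → Perm (Fin 6)
  | true => swap 3 4 * swap 4 5
  | false => swap 0 1 * swap 1 2 * (swap 4 5 * swap 3 4)

/-- The involution inverting the first. -/
def mX : Bool → Perm (Fin 6)
  | true => swap 1 2
  | false => swap 0 3 * swap 1 5 * swap 2 4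

/-- The involution inverting the second. -/
def mY : Bool → Perm (Fin 6)
  | true => swap 4 5
  | false => swap 0 3 * swap 1 4 * swap 2 5

/-- The exchanging involution. -/
def mT : Bool → Perm (Fin 6)
  | true => swap 0 3 * swap 1 4 * swap 2 5
  | false => swap 4 5

/-- A marked system. -/
structure Marked (z w x y t : Perm (Fin 6)) : Prop where
  z3 : z * z * z = 1
  z1 : z ≠ 1
  comm : z * w = w * z
  w0 : w ≠ 1
  w1 : w ≠ z
  w2 : w ≠ z * z
  x2 : x * x = 1
  xz : x * z * x = z * z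
  xw : x * w = w * x
  t2 : t * t = 1
  tz : t * z * t = w
  tx : t * x * t = y

theorem six_first : ∀ z : Perm (Fin 6), z * z * z = 1 → z ≠ 1 →
    ∃ g : Perm (Fin 6), g * z * g⁻¹ = mZ true ∨ g * z * g⁻¹ = mZ false := by
  decide +kernel

theorem six_second : ∀ i : Bool, ∀ w : Perm (Fin 6), mZ i * w = w * mZ i → w * w * w = 1 →
    w ≠ 1 → w ≠ mZ i → w ≠ mZ i * mZ i →
    ∀ t : Perm (Fin 6), t * t = 1 → t * mZ i * t = w →
      ∃ g : Perm (Fin 6), g * mZ i * g⁻¹ = mZ i ∧ g * w * g⁻¹ = mW i := by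
  decide +kernel

theorem six_third : ∀ i : Bool, ∀ x : Perm (Fin 6), x * x = 1 → x * mZ i * x = mZ i * mZ i →
    x * mW i = mW i * x → ∃ k : Fin 3, mZ i ^ (k : ℕ) * x * (mZ i ^ (k : ℕ))⁻¹ = mX i := by
  decide +kernel

theorem six_swap : ∀ i : Bool, ∀ t : Perm (Fin 6), t * t = 1 → t * mZ i * t = mW i →
    ∀ y : Perm (Fin 6), t * mX i * t = y →
      ∃ k : Fin 3, mW i ^ (k : ℕ) * y * (mW i ^ (k : ℕ))⁻¹ = mY i := by
  decide +kernel

theorem six_last : ∀ i : Bool, ∀ t : Perm (Fin 6), t * t = 1 → t * mZ i * t = mW i →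
    t * mX i * t = mY i → t = mT i := by
  decide +kernel

theorem mW_fixes : ∀ i : Bool, mW i * mX i = mX i * mW i := by decide +kernel

theorem six_square_model : ∀ i : Bool, ∀ g : Perm (Fin 6), g * mX i = mX i * g →
    g * mY i = mY i * g → g * g = 1 := by
  decide +kernel

/-- The extra central involution of the Sylow subgroup. -/
def mV : Bool → Perm (Fin 6)
  | true => swap 0 3
  | false => swap 0 3 * swap 1 2 * swap 4 5

/-- The first half of the exchange. -/
def mP : Bool → Perm (Fin 6)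
  | true => swap 2 5
  | false => swap 0 1 * swap 2 3 * swap 4 5

/-- The second half of the exchange. -/
def mQ : Bool → Perm (Fin 6)
  | true => swap 1 4
  | false => swap 0 2 * swap 1 3 * swap 4 5

/-- The unordered pairs conjugate to `(x, y)`. -/
def SamePair (x y a b : Perm (Fin 6)) : Prop :=
  ∃ g : Perm (Fin 6), g * a * g⁻¹ = x ∧ g * b * g⁻¹ = y

theorem six_split_model : ∀ i : Bool, mT i = mV i * mP i * mQ i ∧
    (∃ g : Perm (Fin 6), g * mV i * g⁻¹ = mX i ∧ g * mX i * g⁻¹ = mY i) ∧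
    (∃ g : Perm (Fin 6), g * mV i * g⁻¹ = mX i ∧ g * mY i * g⁻¹ = mY i) ∧
    (∃ g : Perm (Fin 6), g * mV i * g⁻¹ = mX i ∧ g * mP i * g⁻¹ = mY i) ∧
    (∃ g : Perm (Fin 6), g * mV i * g⁻¹ = mX i ∧ g * mQ i * g⁻¹ = mY i) := by
  decide +kernel

theorem six_indep_model : ∀ i : Bool, ∀ a b c d a' b' c' d' : Bool,
    cond a (mX i) 1 * cond b (mY i) 1 * cond c (mT i) 1 * cond d (mV i) 1 =
      cond a' (mX i) 1 * cond b' (mY i) 1 * cond c' (mT i) 1 * cond d' (mV i) 1 →
      a = a' ∧ b = b' ∧ c = c' ∧ d = d' := by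
  decide +kernel

/-- A further element of order three centralising `x`. -/
def mR : Bool → Perm (Fin 6)
  | true => swap 0 3 * swap 3 4
  | false => swap 0 1 * swap 1 4 * (swap 2 3 * swap 3 5)

theorem six_three_model : ∀ i : Bool, mR i * mR i * mR i = 1 ∧ mR i * mX i = mX i * mR i ∧
    mR i * mW i ≠ mW i * mR i ∧
    ∀ v : Perm (Fin 6), v * v * v = 1 → v ≠ 1 → v * mX i = mX i * v → v ≠ mW i → v ≠ mW i * mW i →
      (v * mW i) ^ 3 ≠ mX i ∧
      (((v * mW i) ^ 3 = 1 ↔ (mR i * mW i) ^ 3 = 1) →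
        ∃ k : Fin 3, v = mW i ^ (k : ℕ) * mR i * (mW i ^ (k : ℕ))⁻¹) := by
  decide +kernel

end CfsgLib.ThreeLocalS8
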